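import Mathlib
import Cfsg.Agent.Lib.Signalizer.OrderFormula

/-!
The order formula for a four group acting on a group of odd order.
-/

set_option autoImplicit false

namespace CfsgLib.StabAlt5

variable {G : Type*} [Group G]

/-- The order formula for two commuting involutions. -/
theorem four_formula [Finite G] {X : Subgroup G} (hX : Odd (Nat.card X)) {z t : G} (hz : z * z = 1) (ht : t * t = 1)
    (hzt : Commute z t) (z1 : z ≠ 1) (t1 : t ≠ 1) (ne : z ≠ t)
    (nz : ∀ x ∈ X, z * x * z⁻¹ ∈ X) (nt : ∀ x ∈ X, t * x * t⁻¹ ∈ X) {V : Subgroup G} (hV : ∀ a, a ∈ V ↔ a = 1 ∨ a = z ∨ a = t ∨ a = z * t) :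
    Nat.card X * Nat.card (X ⊓ Subgroup.centralizer (V : Set G) : Subgroup G) ^ 2 = Nat.card (X ⊓ Subgroup.centralizer ({z} : Set G) : Subgroup G) *
      Nat.card (X ⊓ Subgroup.centralizer ({t} : Set G) : Subgroup G) *
      Nat.card (X ⊓ Subgroup.centralizer ({z * t} : Set G) : Subgroup G) := by
  classical
  haveI : Fact (Nat.Prime 2) := ⟨Nat.prime_two⟩
  have hzt1 : z * t ≠ 1 := fun h => ne (by
    rw [eq_inv_of_mul_eq_one_left h, inv_eq_of_mul_eq_one_left ht])
  have htz : t * (z * t) = z := by rw [← mul_assoc, ← hzt.eq, mul_assoc, ht, mul_one]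
  have hzzt : z * (z * t) = t := by rw [← mul_assoc, hz, one_mul]
  have hztz : z * t * z = t := by rw [hzt.eq, mul_assoc, hz, mul_one]
  have hztt : z * t * t = z := by rw [mul_assoc, ht, mul_one]
  have hztzt : z * t * (z * t) = 1 := by rw [← mul_assoc, hztz, ht]
  set A : Subgroup G :=
    { carrier := {1, z, t, z * t}
      one_mem' := Or.inl rfl
      mul_mem' := by
        rintro a b ha hb
        simp only [Set.mem_insert_iff, Set.mem_singleton_iff] at ha hb ⊢
        rcases ha with rfl | rfl | rfl | rfl <;> rcases hb with rfl | rfl | rfl | rfl <;>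
          simp [hz, ht, htz, hzzt, hztz, hztt, hztzt, hzt.eq.symm]
      inv_mem' := by
        rintro a ha
        simp only [Set.mem_insert_iff, Set.mem_singleton_iff] at ha ⊢
        rcases ha with rfl | rfl | rfl | rfl <;>
          simp [inv_eq_of_mul_eq_one_left hz, inv_eq_of_mul_eq_one_left ht, inv_eq_of_mul_eq_one_left hztzt] }
    with hA
  have memA : ∀ a, a ∈ A ↔ a = 1 ∨ a = z ∨ a = t ∨ a = z * t := fun a => Iff.rfl
  have sqA : ∀ a ∈ A, a * a = 1 := fun a ha => by
    rcases (memA a).1 ha with rfl | rfl | rfl | rfl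
    exacts [one_mul 1, hz, ht, hztzt]
  have eA : Cfsg.IsElementaryAbelian 2 A := by
    refine ⟨⟨⟨fun a b => Subtype.ext ?_⟩⟩, fun a ha => by rw [pow_two, sqA a ha]⟩
    show (a : G) * b = b * a
    rw [← inv_eq_of_mul_eq_one_left (sqA _ (mul_mem b.2 a.2)), mul_inv_rev,
      inv_eq_of_mul_eq_one_left (sqA _ a.2), inv_eq_of_mul_eq_one_left (sqA _ b.2)]
  have cA : Nat.card A = 2 ^ 2 := by
    have : Nat.card A = ({1, z, t, z * t} : Set G).ncard := (Nat.card_coe_set_eq _).symm ▸ rfl
    rw [this]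
    have d1 : z ≠ z * t := fun h => t1 (mul_eq_left.1 h.symm)
    have d2 : t ≠ z * t := fun h => z1 (mul_eq_right.1 h.symm)
    rw [Set.ncard_insert_of_notMem (by simp [z1.symm, t1.symm, hzt1.symm]),
      Set.ncard_insert_of_notMem (by simp [ne, d1]), Set.ncard_insert_of_notMem (by simp [d2]), Set.ncard_singleton]
    norm_num
  have hAX : A ≤ Subgroup.normalizer (X : Set G) := by
    have key : ∀ a, a * a = 1 → (∀ x ∈ X, a * x * a⁻¹ ∈ X) → a ∈ Subgroup.normalizer (X : Set G) := by
      intro a ha h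
      refine Subgroup.mem_normalizer_iff.2 fun x => ⟨h x, fun hx => ?_⟩
      have := h _ hx
      rwa [inv_eq_of_mul_eq_one_left ha, show a * (a * x * a) * a = (a * a) * x * (a * a) by group, ha,
        one_mul, mul_one] at this
    intro a ha
    rcases (memA a).1 ha with rfl | rfl | rfl | rfl
    exacts [one_mem _, key _ hz nz, key _ ht nt, mul_mem (key _ hz nz) (key _ ht nt)]
  have h := CfsgLib.Signalizer.order_formula eA cA hAX (fun h => (Nat.not_even_iff_odd.2 hX) (even_iff_two_dvd.2 h))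
  have hVA : V = A := Subgroup.ext fun a => (hV a).trans (memA a).symm
  rw [hVA]
  have mkL : ∀ a ∈ A, a ≠ 1 → Subgroup.zpowers a ≤ A ∧ Nat.card (Subgroup.zpowers a) = 2 := fun a ha ha1 =>
    ⟨Subgroup.zpowers_le.2 ha, by rw [Nat.card_zpowers, orderOf_eq_prime (by rw [pow_two, sqA a ha]) ha1]⟩
  let Lz : CfsgLib.Signalizer.Lines 2 A := ⟨_, mkL z (Or.inr (Or.inl rfl)) z1⟩
  let Lt : CfsgLib.Signalizer.Lines 2 A := ⟨_, mkL t (Or.inr (Or.inr (Or.inl rfl))) t1⟩
  let Lzt : CfsgLib.Signalizer.Lines 2 A := ⟨_, mkL (z * t) (Or.inr (Or.inr (Or.inr rfl))) hzt1⟩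
  have hcent : ∀ a : G, Subgroup.centralizer ((Subgroup.zpowers a : Subgroup G) : Set G) =
      Subgroup.centralizer ({a} : Set G) := fun a => by
    rw [Subgroup.zpowers_eq_closure, Subgroup.centralizer_closure]
  have sep : ∀ a b : G, a * a = 1 → b * b = 1 → a ≠ 1 → a ≠ b → Subgroup.zpowers a ≠ Subgroup.zpowers b := by
    intro a b ha hb a1 hab e
    have hm : a ∈ Subgroup.zpowers b := e ▸ Subgroup.mem_zpowers a
    obtain ⟨k, rfl⟩ := Subgroup.mem_zpowers_iff.1 hm
    rcases Int.even_or_odd' k with ⟨j, rfl | rfl⟩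
    · exact a1 (by rw [zpow_mul, zpow_two, hb, one_zpow])
    · exact hab (by rw [zpow_add, zpow_mul, zpow_two, hb, one_zpow, one_mul, zpow_one])
  have d1 : z ≠ z * t := fun h => t1 (mul_eq_left.1 h.symm)
  have d2 : t ≠ z * t := fun h => z1 (mul_eq_right.1 h.symm)
  have hzt_ne : Lz ≠ Lt := fun e => sep z t hz ht z1 ne (congrArg Subtype.val e)
  have hz_ne : Lz ≠ Lzt := fun e => sep z _ hz hztzt z1 d1 (congrArg Subtype.val e)
  have ht_ne : Lt ≠ Lzt := fun e => sep t _ ht hztzt t1 d2 (congrArg Subtype.val e)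
  have huniv : (Finset.univ : Finset (CfsgLib.Signalizer.Lines 2 A)) = {Lz, Lt, Lzt} := by
    refine (Finset.eq_univ_of_card _ ?_).symm
    rw [← Nat.card_eq_fintype_card, CfsgLib.Signalizer.card_lines eA cA,
      Finset.card_insert_of_notMem (by simp [hzt_ne, hz_ne]), Finset.card_insert_of_notMem (by simp [ht_ne]),
      Finset.card_singleton]
  rw [h, huniv, Finset.prod_insert (by simp [hzt_ne, hz_ne]), Finset.prod_insert (by simp [ht_ne]),
    Finset.prod_singleton, ← mul_assoc]
  simp only [Lz, Lt, Lzt, hcent]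

end CfsgLib.StabAlt5
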