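import Cfsg.Agent.Lib.StabAlt5.Count
import Cfsg.Agent.Lib.ZStar.Main
import Cfsg.Agent.Lib.Frobenius.Kernel

/-!
Doubly transitive groups in which two points are fixed by one involution only: degrees, and the regular
normal subgroup when one class of involutions is isolated.
-/

set_option autoImplicit false
set_option linter.unusedSectionVars false
set_option linter.style.haveILetI false

namespace CfsgLib.StabAlt5

open MulAction
open scoped Pointwise

universe u v

/-- A doubly transitive group in which the only non-identity element fixing `a` and `b` is `s`. -/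
structure TwoHyp (X : Type u) {Δ : Type v} [Group X] [MulAction X Δ] (a b : Δ) (s : X) : Prop where
  two : TwoTrans X Δ
  ne : a ≠ b
  fix_a : s • a = a
  fix_b : s • b = b
  ne_one : s ≠ 1
  only : ∀ x : X, x • a = a → x • b = b → x = 1 ∨ x = s

/-- An elementary abelian regular normal subgroup. -/
def IsAffine (X : Type u) (Δ : Type v) [Group X] [MulAction X Δ] : Prop :=
  ∃ (P : Subgroup X) (p j : ℕ), P.Normal ∧ p.Prime ∧ 1 ≤ j ∧ Nat.card Δ = p ^ j ∧ Nat.card P = p ^ j ∧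
    (∀ c d : Δ, ∃ x ∈ P, x • c = d) ∧ (∀ x ∈ P, ∀ c : Δ, x • c = c → x = 1) ∧
    (∀ x ∈ P, ∀ y ∈ P, x * y = y * x) ∧ ∀ x ∈ P, x ^ p = 1

variable {X : Type u} [Group X] [Finite X] {Δ : Type v} [Finite Δ] [MulAction X Δ] [FaithfulSMul X Δ]

theorem affine_of_regular (h2 : TwoTrans X Δ) {a b : Δ} (hab : a ≠ b) (P : Subgroup X) [hP : P.Normal]
    (htr : ∀ c d : Δ, ∃ x ∈ P, x • c = d) (hreg : ∀ x ∈ P, ∀ c : Δ, x • c = c → x = 1) :
    IsAffine X Δ := by
  classical
  have hcard : Nat.card P = Nat.card Δ := Nat.card_eq_of_bijective (fun x : P => (x : X) • a)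
    ⟨fun x y e => by
      have h1 : ((y : X)⁻¹ * x) • a = a := by rw [mul_smul, show (x : X) • a = (y : X) • a from e, inv_smul_smul]
      exact Subtype.ext (inv_mul_eq_one.mp (hreg _ (mul_mem (inv_mem y.2) x.2) a h1)).symm,
     fun c => by obtain ⟨x, hx, e⟩ := htr a c; exact ⟨⟨x, hx⟩, e⟩⟩
  -- the point stabiliser is transitive on the non-identity elements
  have hconj : ∀ x ∈ P, x ≠ 1 → ∀ y ∈ P, y ≠ 1 → ∃ g : X, g * x * g⁻¹ = y := by
    intro x hx x1 y hy y1
    obtain ⟨g, hga, hgb⟩ := h2 a (x • a) a (y • a) (fun e => x1 (hreg x hx a e.symm))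
      (fun e => y1 (hreg y hy a e.symm))
    refine ⟨g, ?_⟩
    have h1 : (y⁻¹ * (g * x * g⁻¹)) • a = a := by
      rw [mul_smul, mul_smul, mul_smul, show g⁻¹ • a = a by rw [inv_smul_eq_iff, hga], hgb, inv_smul_smul]
    exact (inv_mul_eq_one.mp (hreg _ (mul_mem (inv_mem hy) (hP.conj_mem x hx g)) a h1)).symm
  obtain ⟨x₀, hx₀, hx₀b⟩ := htr a b
  have hx₁ : x₀ ≠ 1 := fun e => hab (by rw [← hx₀b, e, one_smul])
  obtain ⟨p, hp, hpd⟩ := (orderOf x₀).exists_prime_and_dvd (fun e => hx₁ (orderOf_eq_one_iff.mp e))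
  haveI : Fact p.Prime := ⟨hp⟩
  set z := x₀ ^ (orderOf x₀ / p) with hz
  have hzp : orderOf z = p := by
    rw [hz, orderOf_pow_of_dvd (Nat.div_pos (Nat.le_of_dvd (orderOf_pos x₀) hpd) hp.pos).ne'
      (Nat.div_dvd_of_dvd hpd), Nat.div_div_self hpd (orderOf_pos x₀).ne']
  have hz1 : z ≠ 1 := fun e => hp.ne_one (by rw [← hzp, e, orderOf_one])
  have hexp : ∀ x ∈ P, x ^ p = 1 := by
    intro x hx
    by_cases x1 : x = 1
    · simp [x1]
    obtain ⟨g, rfl⟩ := hconj z (pow_mem hx₀ _) hz1 x hx x1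
    rw [conj_pow, ← hzp, pow_orderOf_eq_one, mul_one, mul_inv_cancel]
  have hpg : IsPGroup p P := fun x => ⟨1, Subtype.ext (by simpa using hexp x x.2)⟩
  obtain ⟨j, hj⟩ := IsPGroup.iff_card.mp hpg
  have hj1 : 1 ≤ j := by
    rcases Nat.eq_zero_or_pos j with rfl | h
    · haveI : Subsingleton P := (Nat.card_eq_one_iff_unique.mp (hj.trans (pow_zero p))).1
      exact absurd (congrArg Subtype.val (Subsingleton.elim (⟨x₀, hx₀⟩ : P) 1)) hx₁
    · exact h
  refine ⟨P, p, j, hP, hp, hj1, hcard ▸ hj, hj, htr, hreg, ?_, hexp⟩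
  haveI : Nontrivial P := ⟨⟨⟨x₀, hx₀⟩, 1, fun e => hx₁ (congrArg Subtype.val e)⟩⟩
  haveI := hpg.center_nontrivial
  obtain ⟨⟨c, hc⟩, c1⟩ := exists_ne (1 : Subgroup.center P)
  intro x hx y hy
  by_cases x1 : x = 1
  · simp [x1]
  obtain ⟨g, rfl⟩ := hconj c c.2 (fun e => c1 (Subtype.ext (Subtype.ext e))) x hx x1
  have hy' : g⁻¹ * y * g ∈ P := by simpa using hP.conj_mem y hy g⁻¹
  have h := congrArg Subtype.val (Subgroup.mem_center_iff.mp hc ⟨_, hy'⟩)
  calc g * (c : X) * g⁻¹ * y = g * ((c : X) * (g⁻¹ * y * g)) * g⁻¹ := by group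
    _ = g * (g⁻¹ * y * g * (c : X)) * g⁻¹ := by rw [show (c : X) * (g⁻¹ * y * g) = g⁻¹ * y * g * c from h.symm]
    _ = y * (g * (c : X) * g⁻¹) := by group

/-- A transitive normal subgroup without elements fixing two points contains a regular normal subgroup. -/
theorem affine_of_semi (h2 : TwoTrans X Δ) {a b : Δ} (hab : a ≠ b) (O : Subgroup X) [hO : O.Normal]
    (htr : ∀ c d : Δ, ∃ x ∈ O, x • c = d)
    (hfix : ∀ x ∈ O, ∀ c d : Δ, c ≠ d → x • c = c → x • d = d → x = 1) : IsAffine X Δ := by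
  classical
  set Oa := stabilizer O a with hOa
  by_cases hbot : Oa = ⊥
  · refine affine_of_regular h2 hab O htr fun x hx c hc => ?_
    obtain ⟨g, hg, hgc⟩ := htr a c
    have h1 : (⟨g⁻¹ * x * g, by simpa using mul_mem (mul_mem (inv_mem hg) hx) hg⟩ : O) ∈ Oa := by
      show (g⁻¹ * x * g) • a = a
      rw [mul_smul, mul_smul, hgc, hc, ← hgc, inv_smul_smul]
    rw [hbot, Subgroup.mem_bot] at h1
    have := congrArg Subtype.val h1
    simpa [mul_assoc, mul_eq_one_iff_eq_inv, inv_mul_eq_one] using this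
  · have hne : Oa ≠ ⊤ := by
      intro e
      obtain ⟨g, hg, hgb⟩ := htr a b
      have : (⟨g, hg⟩ : O) ∈ Oa := e ▸ Subgroup.mem_top _
      exact hab (this.symm.trans hgb)
    have hF : Cfsg.IsFrobeniusComplement Oa := by
      refine ⟨hbot, hne, fun g hg => (Subgroup.eq_bot_iff_forall _).mpr ?_⟩
      rintro x ⟨hxa, hxg⟩
      change x ∈ MulAut.conj g • Oa at hxg
      rw [Subgroup.mem_pointwise_smul_iff_inv_smul_mem] at hxg
      have h1 : ((g : X)⁻¹ * x * g) • a = a := by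
        have := hxg
        simp only [← map_inv, MulAut.smul_def, MulAut.conj_apply, inv_inv] at this
        exact this
      refine Subtype.ext (hfix x x.2 a ((g : X) • a) (fun e => hg e.symm) hxa ?_)
      rw [mul_smul, mul_smul, inv_smul_eq_iff] at h1
      exact h1
    obtain ⟨N, hN, hNn, hNc⟩ := CfsgLib.Frob.exists_kernel hF
    have hchar : ∀ x : O, x ∈ N ↔ x = 1 ∨ ∀ c : Δ, (x : X) • c ≠ c := by
      intro x
      rw [← SetLike.mem_coe, hN]
      refine or_congr Iff.rfl ⟨fun h c hc => ?_, fun h g hg => ?_⟩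
      · obtain ⟨g, hg, hgc⟩ := htr a c
        refine h ⟨g, hg⟩ ?_
        rw [Subgroup.mem_pointwise_smul_iff_inv_smul_mem, ← map_inv, MulAut.smul_def, MulAut.conj_apply, inv_inv]
        show (g⁻¹ * (x : X) * g) • a = a
        rw [mul_smul, mul_smul, hgc, hc, ← hgc, inv_smul_smul]
      · rw [Subgroup.mem_pointwise_smul_iff_inv_smul_mem, ← map_inv, MulAut.smul_def, MulAut.conj_apply, inv_inv] at hg
        have hg' : ((g : X)⁻¹ * x * g) • a = a := hg
        rw [mul_smul, mul_smul, inv_smul_eq_iff] at hg'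
        exact h _ hg'
    have hP : (N.map O.subtype).Normal := ⟨by
      rintro _ ⟨x, hx, rfl⟩ k
      refine ⟨⟨k * x * k⁻¹, hO.conj_mem x x.2 k⟩, (hchar _).mpr ?_, rfl⟩
      rcases (hchar x).mp hx with e | e
      · left; exact Subtype.ext (by rw [e]; simp)
      · right
        intro c hc
        refine e (k⁻¹ • c) ?_
        rw [mul_smul, mul_smul] at hc
        rw [eq_inv_smul_iff, hc]⟩
    haveI := hP
    refine affine_of_regular h2 hab (N.map O.subtype) (fun c d => ?_) fun x hx c hc => ?_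
    · obtain ⟨g₁, hg₁, e₁⟩ := htr a c
      obtain ⟨g₂, hg₂, e₂⟩ := htr a d
      -- move `a` to any point by an element of the kernel
      have key : ∀ e : Δ, ∃ n ∈ N, (n : X) • a = e := fun e => by
        obtain ⟨g, hg, hge⟩ := htr a e
        obtain ⟨⟨⟨n, hn⟩, ⟨h, hh⟩⟩, he, -⟩ := Subgroup.isComplement_iff_existsUnique.mp hNc ⟨g, hg⟩
        refine ⟨n, hn, ?_⟩
        have hh' : (h : X) • a = a := hh
        rw [← hge, show g = (n : X) * (h : X) from (congrArg Subtype.val he).symm, mul_smul, hh']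
      obtain ⟨n₁, hn₁, f₁⟩ := key c
      obtain ⟨n₂, hn₂, f₂⟩ := key d
      exact ⟨((n₂ * n₁⁻¹ : O) : X), ⟨_, mul_mem hn₂ (inv_mem hn₁), rfl⟩, by
        rw [Subgroup.coe_mul, Subgroup.coe_inv, mul_smul, ← f₁, inv_smul_smul, f₂]⟩
    · obtain ⟨n, hn, rfl⟩ := hx
      rcases (hchar n).mp hn with e | e
      · rw [e]; rfl
      · exact absurd hc (e c)

/-- An involution interchanging two points, the only one of its class to do so, whose conjugates fix at most one
point, gives a transitive normal subgroup of odd order when the degree is odd (Glauberman). -/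
theorem exists_odd_transitive (h2 : TwoTrans X Δ) {a b : Δ} (hab : a ≠ b) (hodd : Odd (Nat.card Δ)) {z : X}
    (hz2 : z * z = 1) (hza : z • a = b) (hzb : z • b = a)
    (hno : ∀ x g : X, g * z * g⁻¹ = x → ∀ c d : Δ, c ≠ d → x • c = c → x • d = d → False)
    (huniq : ∀ x g : X, g * z * g⁻¹ = x → x • a = b → x • b = a → x = z) :
    ∃ O : Subgroup X, O.Normal ∧ Odd (Nat.card O) ∧ ∀ c d : Δ, ∃ x ∈ O, x • c = d := by
  classical
  set D : Set X := {x | ∃ g : X, g * z * g⁻¹ = x} with hD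
  have hDc : ∀ g x : X, x ∈ D → g * x * g⁻¹ ∈ D := by
    rintro g x ⟨k, rfl⟩
    exact ⟨g * k, by group⟩
  have hD2 : ∀ x ∈ D, x * x = 1 := by
    rintro x ⟨k, rfl⟩
    rw [conj_mul, hz2, mul_one, mul_inv_cancel]
  have hD1 : ∀ x ∈ D, x ≠ 1 := by
    rintro x ⟨k, rfl⟩ e
    exact hab (((congrArg (· • a) (conj_eq_one_iff.mp e)).trans (one_smul X a)).symm.trans hza)
  have hfixD : ∀ x ∈ D, (fixedBy Δ x).ncard = 1 := by
    intro x hx
    have hle : (fixedBy Δ x).ncard ≤ 1 := (Set.ncard_le_one_iff).mpr fun {c d} hc hd => by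
      by_contra hcd
      exact hno x hx.choose hx.choose_spec c d hcd hc hd
    haveI := Fintype.ofFinite Δ
    have h2' := ncard_swap_pairs (Ω := Δ) (hD2 x hx)
    have hev : Even {p : Δ × Δ | p.1 ≠ p.2 ∧ x • p.1 = p.2 ∧ x • p.2 = p.1}.ncard := by
      rw [h2']
      let f : Equiv.Perm Δ := MulAction.toPerm x
      have hf : f ^ 2 = 1 := by
        ext c
        show x • x • c = c
        rw [← mul_smul, hD2 x hx, one_smul]
      have hs' := Equiv.Perm.two_dvd_card_support hf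
      have e : f.support.card = Nat.card Δ - (fixedBy Δ x).ncard := by
        rw [← Set.ncard_coe_finset, ← Set.ncard_univ, ← Set.ncard_sdiff (Set.subset_univ _)]
        congr 1
        ext c
        simp [f, Equiv.Perm.mem_support]
      rw [← e]
      exact even_iff_two_dvd.mpr hs'
    rw [h2'] at hev
    rw [Nat.odd_iff] at hodd
    rw [Nat.even_iff] at hev
    have : (fixedBy Δ x).ncard ≤ Nat.card Δ := by
      rw [← Set.ncard_univ]; exact Set.ncard_le_ncard (Set.subset_univ _)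
    omega
  have hswapD := swap_count h2 hab D hDc hD2 hfixD
  have h1 : {x : X | x ∈ D ∧ x • a = b ∧ x • b = a}.ncard = 1 := by
    rw [Set.ncard_eq_one]
    refine ⟨z, Set.eq_singleton_iff_unique_mem.mpr ⟨⟨⟨1, by group⟩, hza, hzb⟩, ?_⟩⟩
    rintro x ⟨hx, ha, hb⟩
    exact huniq x hx.choose hx.choose_spec ha hb
  rw [h1, mul_one] at hswapD
  have hcardD : D.ncard = Nat.card Δ := Nat.eq_of_mul_eq_mul_right (by
    have : 1 < Nat.card Δ := Finite.one_lt_card_iff_nontrivial.mpr ⟨a, b, hab⟩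
    omega) hswapD
  -- each point is fixed by exactly one conjugate of `z`
  haveI : Finite D := inferInstance
  let φ : D → Δ := fun x => (Set.ncard_eq_one.mp (hfixD x x.2)).choose
  have hφ : ∀ x : D, (x : X) • φ x = φ x ∧ ∀ c, (x : X) • c = c → c = φ x := fun x => by
    have h := (Set.ncard_eq_one.mp (hfixD x x.2)).choose_spec
    exact ⟨(h.symm ▸ Set.mem_singleton _ : φ x ∈ fixedBy Δ (x : X)),
      fun c hc => Set.mem_singleton_iff.mp (h ▸ hc : c ∈ ({φ x} : Set Δ))⟩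
  have hsurj : Function.Surjective φ := by
    intro c
    obtain ⟨k, hk'⟩ := h2.transitive hab (Ω := Δ) c
    obtain ⟨k0, hk0⟩ := h2.transitive hab (Ω := Δ) (φ ⟨z, 1, by group⟩)
    refine ⟨⟨(k * k0⁻¹) * z * (k * k0⁻¹)⁻¹, ⟨_, rfl⟩⟩, ((hφ _).2 c ?_).symm⟩
    show ((k * k0⁻¹) * z * (k * k0⁻¹)⁻¹) • c = c
    rw [show (k * k0⁻¹) * z * (k * k0⁻¹)⁻¹ = k * k0⁻¹ * z * k0 * k⁻¹ by group, mul_smul, mul_smul, mul_smul,
      mul_smul, ← hk', inv_smul_smul, hk0, (hφ ⟨z, 1, by group⟩).1, ← hk0, inv_smul_smul]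
  have hinj : Function.Injective φ :=
    (Nat.bijective_iff_surjective_and_card φ).mpr
      ⟨hsurj, (Nat.card_coe_set_eq D).trans hcardD⟩ |>.1
  have hiso : Cfsg.IsIsolated z := by
    intro k hk'
    refine congrArg Subtype.val (hinj (a₁ := ⟨k * z * k⁻¹, k, rfl⟩) (a₂ := ⟨z, 1, by group⟩) ?_)
    refine (hφ ⟨z, 1, by group⟩).2 _ ?_
    refine (hφ ⟨k * z * k⁻¹, k, rfl⟩).2 _ ?_
    show (k * z * k⁻¹) • z • φ ⟨k * z * k⁻¹, k, rfl⟩ = z • φ ⟨k * z * k⁻¹, k, rfl⟩
    rw [← mul_smul, ← hk'.eq, mul_smul, (hφ ⟨k * z * k⁻¹, k, rfl⟩).1]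
  have hzord : orderOf z = 2 := orderOf_eq_prime (by rw [pow_two, hz2]) (hD1 z ⟨1, by group⟩)
  have hO := CfsgLib.ZStar.inZStar hzord hiso
  set O := Cfsg.pPrimeCore 2 X with hOdef
  have hne : O ≠ ⊥ := by
    intro e
    have hcen : ∀ k : X, k * z = z * k := fun k => by
      have h := hO k
      rw [← hOdef, e, Subgroup.mem_bot, mul_inv_eq_one] at h
      exact mul_inv_eq_iff_eq_mul.mp h
    obtain ⟨c, hc⟩ := hsurj a
    obtain ⟨d, hd⟩ := hsurj b
    have hz' : ∀ x : D, (x : X) = z := by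
      rintro ⟨x, k, rfl⟩
      show k * z * k⁻¹ = z
      rw [hcen, mul_inv_cancel_right]
    exact hab (by rw [← hc, ← hd, Subtype.ext ((hz' c).trans (hz' d).symm)])
  haveI : O.Normal := by rw [hOdef]; infer_instance
  refine ⟨O, inferInstance, Nat.not_even_iff_odd.mp fun h => ?_, ?_⟩
  · exact CfsgLib.not_dvd_card_pPrimeCore (G := X) Nat.prime_two (even_iff_two_dvd.mp h)
  · haveI : IsPreprimitive X Δ := isPreprimitive_of_is_two_pretransitive
      (is_two_pretransitive_iff.mpr fun hab hcd => h2 _ _ _ _ hab hcd)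
    have hfne : fixedPoints O Δ ≠ Set.univ := fun h => hne ((Subgroup.eq_bot_iff_forall _).mpr fun n hn =>
      eq_of_smul_eq_smul (α := Δ) fun c => by
        rw [one_smul]; exact (h ▸ Set.mem_univ c : c ∈ fixedPoints O Δ) ⟨n, hn⟩)
    haveI := IsQuasiPreprimitive.isPretransitive_of_normal (G := X) hfne
    intro c d
    obtain ⟨x, hx⟩ := exists_smul_eq O c d
    exact ⟨x, x.2, hx⟩

variable {a b : Δ} {s : X} (H : TwoHyp X a b s)

include H

theorem TwoHyp.sq : s * s = 1 := by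
  rcases H.only (s * s) (by rw [mul_smul, H.fix_a, H.fix_a]) (by rw [mul_smul, H.fix_b, H.fix_b]) with h | h
  · exact h
  · exact absurd (mul_eq_left.mp h) H.ne_one

theorem TwoHyp.conjSet_sq {x g : X} (hg : g * s * g⁻¹ = x) : x * x = 1 := by
  rw [← hg, conj_mul, H.sq, mul_one, mul_inv_cancel]

/-- The elements fixing two given points are `1` and a conjugate of `s`. -/
theorem TwoHyp.of_fix {x : X} {c d : Δ} (hcd : c ≠ d) (hc : x • c = c) (hd : x • d = d) (x1 : x ≠ 1) :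
    ∃ g : X, g * s * g⁻¹ = x := by
  obtain ⟨g, hgc, hgd⟩ := H.two a b c d H.ne hcd
  rcases H.only (g⁻¹ * x * g) (by rw [mul_smul, mul_smul, hgc, hc, ← hgc, inv_smul_smul])
    (by rw [mul_smul, mul_smul, hgd, hd, ← hgd, inv_smul_smul]) with h | h
  · exact absurd (by simpa [mul_eq_one_iff_eq_inv, inv_mul_eq_one] using h) x1
  · exact ⟨g, by rw [← h]; group⟩

/-- An involution interchanging the two points. -/
theorem TwoHyp.exists_swap : ∃ y g : X, g * s * g⁻¹ = y ∧ y • a = b ∧ y • b = a := by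
  obtain ⟨c, hc⟩ : ∃ c : Δ, s • c ≠ c := by
    by_contra h
    push Not at h
    exact H.ne_one (eq_of_smul_eq_smul (α := Δ) fun c => by rw [h c, one_smul])
  obtain ⟨g, hgc, hgd⟩ := H.two c (s • c) a b (fun e => hc e.symm) H.ne
  refine ⟨g * s * g⁻¹, g, rfl, ?_, ?_⟩
  · rw [mul_smul, mul_smul, ← hgc, inv_smul_smul, hgd]
  · rw [mul_smul, mul_smul, ← hgd, inv_smul_smul, ← mul_smul s s, H.sq, one_smul, hgc]

/-- The swapping elements are `y` and `y * s`; both are involutions. -/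
theorem TwoHyp.swap_cases {y : X} (y2 : y * y = 1) (hya : y • a = b) (hyb : y • b = a) :
    y * s = s * y ∧ (∀ x : X, x • a = b → x • b = a → x = y ∨ x = y * s) := by
  refine ⟨?_, fun x hxa hxb => ?_⟩
  · have hi : y⁻¹ = y := inv_eq_of_mul_eq_one_left y2
    rcases H.only (y * s * y⁻¹) (by rw [hi, mul_smul, mul_smul, hya, H.fix_b, hyb])
      (by rw [hi, mul_smul, mul_smul, hyb, H.fix_a, hya]) with h | h
    · exact absurd (conj_eq_one_iff.mp h) H.ne_one
    · exact mul_inv_eq_iff_eq_mul.mp h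
  · rcases H.only (y * x) (by rw [mul_smul, hxa, hyb]) (by rw [mul_smul, hxb, hya]) with h | h
    · left
      rw [eq_inv_of_mul_eq_one_right h, inv_eq_of_mul_eq_one_left y2]
    · right
      rw [← h, ← mul_assoc, y2, one_mul]

theorem TwoHyp.fix_conj {x g : X} (hg : g * s * g⁻¹ = x) :
    (fixedBy Δ x).ncard = (fixedBy Δ s).ncard := hg ▸ ncard_fixedBy_conj g s

theorem TwoHyp.two_le : 2 ≤ (fixedBy Δ s).ncard := by
  have h : ({a, b} : Set Δ) ⊆ fixedBy Δ s := by
    rintro c (rfl | rfl)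
    exacts [H.fix_a, H.fix_b]
  exact (Set.ncard_pair H.ne).symm.le.trans (Set.ncard_le_ncard h)

/-- The relation between the degree and the fixed points of `s`. -/
theorem TwoHyp.relation : ∃ w : ℕ, Nat.card Δ - (fixedBy Δ s).ncard =
      w * ((fixedBy Δ s).ncard * ((fixedBy Δ s).ncard - 1)) ∧ (fixedBy Δ s).ncard < Nat.card Δ ∧
    (w = 2 ∨ (w = 1 ∧ ∀ y : X, y * y = 1 → y • a = b → y • b = a → (∃ g, g * s * g⁻¹ = y) →
      ¬ ∃ g, g * s * g⁻¹ = y * s)) := by
  classical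
  set C : Set X := {x | ∃ g : X, g * s * g⁻¹ = x} with hC
  have hCc : ∀ g x : X, x ∈ C → g * x * g⁻¹ ∈ C := by
    rintro g x ⟨k, rfl⟩
    exact ⟨g * k, by group⟩
  have hfix := fix_count H.two H.ne C hCc (fun x hx => H.fix_conj hx.choose_spec)
  have hswap := swap_count H.two H.ne C hCc (fun x hx => H.conjSet_sq hx.choose_spec)
    (fun x hx => H.fix_conj hx.choose_spec)
  have h1 : {x : X | x ∈ C ∧ x • a = a ∧ x • b = b}.ncard = 1 := by
    rw [Set.ncard_eq_one]
    refine ⟨s, Set.eq_singleton_iff_unique_mem.mpr ⟨⟨⟨1, by group⟩, H.fix_a, H.fix_b⟩, ?_⟩⟩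
    rintro x ⟨hx, ha, hb⟩
    rcases H.only x ha hb with e | e
    · obtain ⟨g, hg⟩ := hx
      exact absurd (conj_eq_one_iff.mp (hg.trans e)) H.ne_one
    · exact e
  rw [h1, mul_one] at hfix
  set w := {x : X | x ∈ C ∧ x • a = b ∧ x • b = a}.ncard with hw
  obtain ⟨y, g, hy, hya, hyb⟩ := H.exists_swap
  obtain ⟨-, hys⟩ := H.swap_cases (H.conjSet_sq hy) hya hyb
  have hsub : {x : X | x ∈ C ∧ x • a = b ∧ x • b = a} ⊆ {y, y * s} := fun x hx => hys x hx.2.1 hx.2.2
  have hw2 : w ≤ 2 := (Set.ncard_le_ncard hsub).trans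
    ((Set.ncard_insert_le _ _).trans (by rw [Set.ncard_singleton]))
  have hw0 : 0 < w := (Set.ncard_pos (Set.toFinite _)).mpr ⟨y, ⟨g, hy⟩, hya, hyb⟩
  have hpos : 0 < C.ncard := (Set.ncard_pos (Set.toFinite _)).mpr ⟨s, 1, by group⟩
  have hrel : Nat.card Δ - (fixedBy Δ s).ncard = w * ((fixedBy Δ s).ncard * ((fixedBy Δ s).ncard - 1)) := by
    refine Nat.eq_of_mul_eq_mul_left hpos ?_
    rw [hswap, ← hfix]
    ring
  have hlt : (fixedBy Δ s).ncard < Nat.card Δ := by
    rw [← Set.ncard_univ]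
    refine Set.ncard_lt_ncard (Set.ssubset_univ_iff.mpr fun h => H.ne_one
      (eq_of_smul_eq_smul (α := Δ) fun c => ?_))
    rw [one_smul]
    exact (h.symm ▸ Set.mem_univ c : c ∈ fixedBy Δ s)
  refine ⟨w, hrel, hlt, ?_⟩
  rcases (show w = 2 ∨ w = 1 by omega) with e | e
  · exact Or.inl e
  · refine Or.inr ⟨e, fun y' y2 ya yb hyC hysC => ?_⟩
    obtain ⟨x, hx⟩ := Set.ncard_eq_one.mp (hw ▸ e)
    have hs' : y' * s ∈ {x : X | x ∈ C ∧ x • a = b ∧ x • b = a} :=
      ⟨hysC, by rw [mul_smul, H.fix_a, ya], by rw [mul_smul, H.fix_b, yb]⟩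
    have hy' : y' ∈ {x : X | x ∈ C ∧ x • a = b ∧ x • b = a} := ⟨hyC, ya, yb⟩
    rw [hx, Set.mem_singleton_iff] at hs' hy'
    exact H.ne_one (mul_eq_left.mp (hs'.trans hy'.symm))

/-- The degree is `k²` or `2k² - k`, where `k` is the number of fixed points of `s`. -/
theorem TwoHyp.degree : Nat.card Δ = (fixedBy Δ s).ncard * (fixedBy Δ s).ncard ∨
    Nat.card Δ + (fixedBy Δ s).ncard = 2 * ((fixedBy Δ s).ncard * (fixedBy Δ s).ncard) := by
  obtain ⟨w, hw, hlt, hcase⟩ := H.relation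
  have hk := H.two_le
  obtain ⟨k, hk'⟩ : ∃ k, (fixedBy Δ s).ncard = k + 1 := ⟨(fixedBy Δ s).ncard - 1, by omega⟩
  rw [hk', Nat.add_sub_cancel] at hw
  rw [hk'] at hlt ⊢
  have e : (k + 1) * (k + 1) = (k + 1) * k + (k + 1) := by ring
  rcases hcase with rfl | ⟨rfl, -⟩ <;> [right; left] <;> omega

/-- In the case `k²`, for odd degree, there is a regular normal subgroup. -/
theorem TwoHyp.affine_square (hodd : Odd (Nat.card Δ))
    (hsq : Nat.card Δ = (fixedBy Δ s).ncard * (fixedBy Δ s).ncard) : IsAffine X Δ := by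
  classical
  obtain ⟨w, hw, hlt, hcase⟩ := H.relation
  have hk := H.two_le
  have hw1 : w = 1 := by
    rcases hcase with rfl | ⟨rfl, -⟩
    · exfalso
      obtain ⟨k, hk'⟩ : ∃ k, (fixedBy Δ s).ncard = k + 2 := ⟨(fixedBy Δ s).ncard - 2, by omega⟩
      rw [hk'] at hw hsq hlt
      rw [show k + 2 - 1 = k + 1 by omega] at hw
      have e : (k + 2) * (k + 2) = (k + 2) * (k + 1) + (k + 2) := by ring
      have e2 : 0 < (k + 2) * (k + 1) := by positivity
      omega
    · rfl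
  obtain ⟨-, hclass⟩ := hcase.resolve_left (by omega)
  obtain ⟨y, g, hy, hya, hyb⟩ := H.exists_swap
  obtain ⟨hcomm, -⟩ := H.swap_cases (H.conjSet_sq hy) hya hyb
  set z := y * s with hz
  have hz2 : z * z = 1 := by
    rw [hz, mul_assoc, ← mul_assoc s y, ← hcomm, mul_assoc y s s, H.sq, mul_one, H.conjSet_sq hy]
  have hza : z • a = b := by rw [hz, mul_smul, H.fix_a, hya]
  have hzb : z • b = a := by rw [hz, mul_smul, H.fix_b, hyb]
  have hzn : ¬ ∃ g, g * s * g⁻¹ = z := hclass y (H.conjSet_sq hy) hya hyb ⟨g, hy⟩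
  obtain ⟨O, hO, hOodd, htr⟩ := exists_odd_transitive H.two H.ne hodd hz2 hza hzb
    (fun x k hk' c d hcd hc hd => by
      obtain ⟨g', hg'⟩ := H.of_fix hcd hc hd (fun e => by
        rw [e, conj_eq_one_iff] at hk'
        rw [hk', one_smul] at hza
        exact H.ne hza)
      exact hzn ⟨k⁻¹ * g', by
        rw [show k⁻¹ * g' * s * (k⁻¹ * g')⁻¹ = k⁻¹ * (g' * s * g'⁻¹) * k by group, hg', ← hk']; group⟩)
    (fun x k hk' ha hb => by
      rcases (H.swap_cases (H.conjSet_sq hy) hya hyb).2 x ha hb with e | e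
      · exact absurd ⟨k⁻¹ * g, by
          rw [show k⁻¹ * g * s * (k⁻¹ * g)⁻¹ = k⁻¹ * (g * s * g⁻¹) * k by group, hy, ← e, ← hk']; group⟩ hzn
      · exact e)
  haveI := hO
  refine affine_of_semi H.two H.ne O htr fun x hx c d hcd hc hd => ?_
  by_contra x1
  obtain ⟨k, hk'⟩ := H.of_fix hcd hc hd x1
  have h2 : orderOf x = 2 := orderOf_eq_prime (by rw [pow_two, H.conjSet_sq hk']) x1
  have := hOodd.of_dvd_nat (h2 ▸ Subgroup.orderOf_dvd_natCard O hx)
  exact absurd this (by decide)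

end CfsgLib.StabAlt5
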