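import Cfsg.Agent.Lib.StabAlt5.Setting
import Cfsg.Agent.Lib.StabAlt5.TwoStab

/-!
The group induced by the centraliser of an involution on its fixed points.
-/

set_option autoImplicit false
set_option linter.unusedSectionVars false
set_option linter.style.haveILetI false

namespace CfsgLib.StabAlt5

open MulAction

universe u v

variable {G : Type u} [Group G] [Finite G] {Ω : Type v} [Finite Ω] [MulAction G Ω] [FaithfulSMul G Ω]

/-- The action of `C(t)` on the fixed points of `t`. -/
def fixHom (Ω : Type v) [MulAction G Ω] (t : G) :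
    ↥(Subgroup.centralizer ({t} : Set G)) →* Equiv.Perm ↥(fixedBy Ω t) where
  toFun g :=
    { toFun := fun c => ⟨(g : G) • (c : Ω), by
        show t • (g : G) • (c : Ω) = (g : G) • (c : Ω)
        rw [← mul_smul, ← Subgroup.mem_centralizer_singleton_iff.mp g.2, mul_smul, show t • (c : Ω) = c from c.2]⟩
      invFun := fun c => ⟨(g : G)⁻¹ • (c : Ω), by
        show t • (g : G)⁻¹ • (c : Ω) = (g : G)⁻¹ • (c : Ω)
        rw [← mul_smul, ← Subgroup.mem_centralizer_singleton_iff.mp (inv_mem g.2), mul_smul,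
          show t • (c : Ω) = c from c.2]⟩
      left_inv := fun c => Subtype.ext (inv_smul_smul _ _)
      right_inv := fun c => Subtype.ext (smul_inv_smul _ _) }
  map_one' := Equiv.ext fun c => Subtype.ext (one_smul G (c : Ω))
  map_mul' g h := Equiv.ext fun c => Subtype.ext (mul_smul (g : G) (h : G) (c : Ω))

/-- The group induced by `C(t)` on its fixed points. -/
abbrev fixGroup (Ω : Type v) [MulAction G Ω] (t : G) : Subgroup (Equiv.Perm ↥(fixedBy Ω t)) := (fixHom Ω t).range

/-- The image of an element of `C(t)`. -/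
abbrev toFix (Ω : Type v) [MulAction G Ω] (t : G) (g : ↥(Subgroup.centralizer ({t} : Set G))) : ↥(fixGroup Ω t) :=
  (fixHom Ω t).rangeRestrict g

theorem toFix_smul {t : G} (g : ↥(Subgroup.centralizer ({t} : Set G))) (c : ↥(fixedBy Ω t)) :
    ((toFix Ω t g • c : ↥(fixedBy Ω t)) : Ω) = (g : G) • (c : Ω) := rfl

theorem toFix_eq_one {t : G} {g : ↥(Subgroup.centralizer ({t} : Set G))} :
    toFix Ω t g = 1 ↔ ∀ c ∈ fixedBy Ω t, (g : G) • c = c := by
  constructor
  · intro h c hc
    have := toFix_smul g (⟨c, hc⟩ : ↥(fixedBy Ω t))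
    rw [h, one_smul] at this
    exact this.symm
  · exact fun h => Subtype.ext (Equiv.ext fun c => Subtype.ext (h c c.2))

theorem toFix_surj {t : G} (x : ↥(fixGroup Ω t)) :
    ∃ g : ↥(Subgroup.centralizer ({t} : Set G)), toFix Ω t g = x :=
  MonoidHom.rangeRestrict_surjective _ x

variable {a b : Ω} {t : G} (H : Hyp G a b) (T : InvIn t a b)
include H T

/-- The point `a` among the fixed points of `t`. -/
abbrev leftPt : ↥(fixedBy Ω t) := ⟨a, T.mem.1⟩

/-- The point `b` among the fixed points of `t`. -/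
abbrev rightPt : ↥(fixedBy Ω t) := ⟨b, T.mem.2⟩

theorem fixGroup_two : TwoTrans ↥(fixGroup Ω t) ↥(fixedBy Ω t) := by
  intro c d c' d' hcd hcd'
  obtain ⟨g, hg, hga, hgb⟩ := cent_trans H T c.2 d.2 (fun e => hcd (Subtype.ext e))
  obtain ⟨g', hg', hga', hgb'⟩ := cent_trans H T c'.2 d'.2 (fun e => hcd' (Subtype.ext e))
  refine ⟨toFix Ω t ⟨g' * g⁻¹, mul_mem hg' (inv_mem hg)⟩, Subtype.ext ?_, Subtype.ext ?_⟩
  · rw [toFix_smul, mul_smul, ← hga, inv_smul_smul, hga']
  · rw [toFix_smul, mul_smul, ← hgb, inv_smul_smul, hgb']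

theorem leftPt_ne : leftPt T ≠ rightPt T := fun e => H.ne (congrArg Subtype.val e)

theorem fix_pair {x : ↥(fixGroup Ω t)} (ha : x • leftPt T = leftPt T) (hb : x • rightPt T = rightPt T) :
    ∃ v : ↥(Subgroup.centralizer ({t} : Set G)), (v : G) ∈ four t a b ∧ toFix Ω t v = x := by
  obtain ⟨g, rfl⟩ := toFix_surj x
  exact ⟨g, mem_four.mpr ⟨⟨congrArg Subtype.val ha, congrArg Subtype.val hb⟩,
    Subgroup.mem_centralizer_singleton_iff.mp g.2⟩, rfl⟩

theorem four_le_cent : four t a b ≤ Subgroup.centralizer ({t} : Set G) := inf_le_right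

/-- An element of the four group other than `1` and `t` together with `t` generates it on fixed points. -/
theorem fixPts_eq {v : G} (hv : v ∈ four t a b) (v1 : v ≠ 1) (vt : v ≠ t) :
    fixPts Ω (four t a b) = {c | t • c = c ∧ v • c = c} := by
  classical
  refine Set.Subset.antisymm (fun c hc => ⟨hc t (self_mem_four H T), hc v hv⟩) ?_
  rintro c ⟨hct, hcv⟩ x hx
  have htv : t * v ≠ 1 ∧ t * v ≠ t ∧ t * v ≠ v :=
    ⟨fun e => vt (by rw [← mul_one t, ← e, ← mul_assoc, T.sq, one_mul]), fun e => v1 (mul_eq_left.mp e),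
      fun e => T.ne_one (mul_eq_right.mp e)⟩
  have hsub : ({1, t, v, t * v} : Set G) ⊆ (four t a b : Set G) := by
    rintro y (rfl | rfl | rfl | rfl)
    exacts [one_mem _, self_mem_four H T, hv, mul_mem (self_mem_four H T) hv]
  have h4 : ({1, t, v, t * v} : Set G).ncard = 4 := by
    rw [Set.ncard_insert_of_notMem (by simp [T.ne_one.symm, v1.symm, htv.1.symm]),
      Set.ncard_insert_of_notMem (by simp [Ne.symm vt, htv.2.1.symm]),
      Set.ncard_insert_of_notMem (by simp [htv.2.2.symm]), Set.ncard_singleton]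
  have heq : ({1, t, v, t * v} : Set G) = (four t a b : Set G) := Set.eq_of_subset_of_ncard_le hsub
    (by rw [h4]; exact ((Nat.card_coe_set_eq _).symm.trans (card_four H T)).le)
  have hx' : x ∈ ({1, t, v, t * v} : Set G) := heq ▸ hx
  rcases hx' with rfl | rfl | rfl | rfl
  exacts [one_smul G c, hct, hcv, by rw [mul_smul, hcv, hct]]

theorem exists_other : ∃ v ∈ four t a b, v ≠ 1 ∧ v ≠ t := by
  by_contra h
  push Not at h
  have hsub : (four t a b : Set G) ⊆ ({1, t} : Set G) := fun v hv => by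
    by_cases v1 : v = 1
    · exact Or.inl v1
    · exact Or.inr (h v hv v1)
  have := Set.ncard_le_ncard hsub (Set.toFinite _)
  rw [Set.ncard_pair T.ne_one.symm, ← Nat.card_coe_set_eq] at this
  have h4 := card_four H T
  rw [show Nat.card ↥((four t a b : Subgroup G) : Set G) = Nat.card ↥(four t a b) from rfl, h4] at this
  omega

theorem kernel_trivial_of_eq (hk : (fixPts Ω (four t a b)).ncard = (fixedBy Ω t).ncard)
    (v : ↥(Subgroup.centralizer ({t} : Set G))) (hv : (v : G) ∈ four t a b) : toFix Ω t v = 1 := by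
  refine toFix_eq_one.mpr fun c hc => ?_
  have h : fixPts Ω (four t a b) = fixedBy Ω t := Set.eq_of_subset_of_ncard_le (fixPts_subset H T) hk.ge
  exact (h.symm ▸ hc : c ∈ fixPts Ω (four t a b)) v hv

/-- If all of the four group acts trivially, the induced group is affine. -/
theorem affine_of_eq (hk : (fixPts Ω (four t a b)).ncard = (fixedBy Ω t).ncard) :
    IsAffine ↥(fixGroup Ω t) ↥(fixedBy Ω t) := by
  refine affine_of_semi (fixGroup_two H T) (leftPt_ne H T) ⊤ (fun c d => ?_) fun x _ c d hcd hc hd => ?_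
  · obtain ⟨g, hg⟩ := (fixGroup_two H T).transitive (leftPt_ne H T) d
    obtain ⟨g', hg'⟩ := (fixGroup_two H T).transitive (leftPt_ne H T) c
    exact ⟨g * g'⁻¹, trivial, by rw [mul_smul, ← hg', inv_smul_smul, hg]⟩
  · obtain ⟨g, hgc, hgd⟩ := fixGroup_two H T _ _ c d (leftPt_ne H T) hcd
    obtain ⟨v, hv, he⟩ := fix_pair H T (x := g⁻¹ * x * g) (by rw [mul_smul, mul_smul, hgc, hc, ← hgc, inv_smul_smul])
      (by rw [mul_smul, mul_smul, hgd, hd, ← hgd, inv_smul_smul])
    rw [kernel_trivial_of_eq H T hk v hv] at he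
    rw [show x = g * (g⁻¹ * x * g) * g⁻¹ by group, ← he, mul_one, mul_inv_cancel]

/-- Otherwise the induced group has two-point stabilisers of order two. -/
theorem twoHyp_of_ne (hk : (fixPts Ω (four t a b)).ncard ≠ (fixedBy Ω t).ncard) {v : G} (hv : v ∈ four t a b)
    (v1 : v ≠ 1) (vt : v ≠ t) :
    TwoHyp ↥(fixGroup Ω t) (leftPt T) (rightPt T) (toFix Ω t ⟨v, four_le_cent H T hv⟩) ∧
      (fixedBy ↥(fixedBy Ω t) (toFix Ω t ⟨v, four_le_cent H T hv⟩)).ncard = (fixPts Ω (four t a b)).ncard := by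
  set s := toFix Ω t ⟨v, four_le_cent H T hv⟩ with hs
  have hne : s ≠ 1 := by
    intro e
    refine hk (congrArg Set.ncard ?_)
    rw [fixPts_eq H T hv v1 vt]
    exact Set.Subset.antisymm (fun c hc => hc.1) fun c hc => ⟨hc, toFix_eq_one.mp e c hc⟩
  refine ⟨⟨fixGroup_two H T, leftPt_ne H T, Subtype.ext (mem_four.mp hv).1.1, Subtype.ext (mem_four.mp hv).1.2,
    hne, fun x hxa hxb => ?_⟩, ?_⟩
  · obtain ⟨w, hw, rfl⟩ := fix_pair H T hxa hxb
    have hfour : (w : G) ∈ ({1, t, v, t * v} : Set G) := by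
      by_contra hn
      simp only [Set.mem_insert_iff, Set.mem_singleton_iff, not_or] at hn
      have hsub : ({1, t, v, (w : G)} : Set G) ⊆ (four t a b : Set G) := by
        rintro y (rfl | rfl | rfl | rfl)
        exacts [one_mem _, self_mem_four H T, hv, hw]
      have h4 : ({1, t, v, (w : G)} : Set G).ncard = 4 := by
        rw [Set.ncard_insert_of_notMem (by simp [T.ne_one.symm, v1.symm, Ne.symm hn.1]),
          Set.ncard_insert_of_notMem (by simp [Ne.symm vt, Ne.symm hn.2.1]),
          Set.ncard_insert_of_notMem (by simp [Ne.symm hn.2.2.1]), Set.ncard_singleton]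
      have heq : ({1, t, v, (w : G)} : Set G) = (four t a b : Set G) := Set.eq_of_subset_of_ncard_le hsub
        (by rw [h4]; exact ((Nat.card_coe_set_eq _).symm.trans (card_four H T)).le)
      have hm : t * v ∈ ({1, t, v, (w : G)} : Set G) :=
        heq.symm ▸ (mul_mem (self_mem_four H T) hv : t * v ∈ four t a b)
      rcases hm with e | e | e | e
      · exact vt (by rw [← mul_one t, ← e, ← mul_assoc, T.sq, one_mul])
      · exact v1 (mul_eq_left.mp e)
      · exact T.ne_one (mul_eq_right.mp e)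
      · exact hn.2.2.2 e.symm
    have ht1 : ∀ (h : t ∈ Subgroup.centralizer ({t} : Set G)), toFix Ω t ⟨t, h⟩ = 1 := fun h =>
      toFix_eq_one.mpr fun c hc => hc
    rcases hfour with e | e | e | e
    · left; rw [show w = 1 from Subtype.ext e]; exact map_one _
    · left; rw [show w = ⟨t, four_le_cent H T (self_mem_four H T)⟩ from Subtype.ext e]; exact ht1 _
    · right; rw [hs, show w = ⟨v, four_le_cent H T hv⟩ from Subtype.ext e]
    · right
      rw [hs, show w = ⟨t, four_le_cent H T (self_mem_four H T)⟩ * ⟨v, four_le_cent H T hv⟩ from Subtype.ext e]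
      show (fixHom Ω t).rangeRestrict _ = _
      rw [map_mul]
      show toFix Ω t _ * _ = _
      rw [ht1, one_mul]
  · rw [fixPts_eq H T hv v1 vt]
    refine Set.ncard_congr (fun c _ => (c : Ω)) (fun c hc => ⟨c.2, congrArg Subtype.val hc⟩)
      (fun c d _ _ e => Subtype.ext e) fun c hc => ⟨⟨c, hc.1⟩, Subtype.ext hc.2, rfl⟩

/-- The possible numbers of fixed points. -/
theorem fix_cases :
    (fixedBy Ω t).ncard = (fixPts Ω (four t a b)).ncard ∨
    (fixedBy Ω t).ncard = (fixPts Ω (four t a b)).ncard * (fixPts Ω (four t a b)).ncard ∨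
    (fixedBy Ω t).ncard + (fixPts Ω (four t a b)).ncard =
      2 * ((fixPts Ω (four t a b)).ncard * (fixPts Ω (four t a b)).ncard) := by
  by_cases hk : (fixPts Ω (four t a b)).ncard = (fixedBy Ω t).ncard
  · exact Or.inl hk.symm
  · right
    obtain ⟨v, hv, v1, vt⟩ := exists_other H T
    obtain ⟨h, hfix⟩ := twoHyp_of_ne H T hk hv v1 vt
    have := h.degree
    rwa [hfix, Nat.card_coe_set_eq] at this

end CfsgLib.StabAlt5
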