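import Cfsg.Agent.Lib.StabAlt5.Local4

/-!
Groups with a Sylow four group in a perfect normal subgroup.
-/

set_option autoImplicit false
set_option linter.unusedSectionVars false
set_option linter.style.haveILetI false

namespace CfsgLib.StabAlt5

universe u

variable {M : Type u} [Group M] [Finite M] {V : Subgroup M}

theorem four_comm' (hsq : ∀ v ∈ V, v * v = 1) {v w : M} (hv : v ∈ V) (hw : w ∈ V) : v * w = w * v := by
  have h3 := hsq _ (mul_mem hv hw)
  rw [← inv_eq_of_mul_eq_one_left h3, mul_inv_rev, inv_eq_of_mul_eq_one_left (hsq v hv),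
    inv_eq_of_mul_eq_one_left (hsq w hw)]

/-- A Sylow four group. -/
theorem four_factorization (hV : Nat.card V = 4) (h8 : ¬ 8 ∣ Nat.card M) (K : Subgroup M) (hVK : V ≤ K) :
    (Nat.card K).factorization 2 = 2 := by
  have h4 : 4 ∣ Nat.card K := hV ▸ Subgroup.card_dvd_of_le hVK
  have hn8 : ¬ 8 ∣ Nat.card K := fun h => h8 (h.trans (Subgroup.card_subgroup_dvd_card K))
  have h1 := (Nat.prime_two.pow_dvd_iff_le_factorization (k := 2) Nat.card_pos.ne').mp (by simpa using h4)
  have h2 : ¬ 3 ≤ (Nat.card K).factorization 2 := fun h =>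
    hn8 (by simpa using (Nat.prime_two.pow_dvd_iff_le_factorization (k := 3) Nat.card_pos.ne').mpr h)
  omega

/-- An element normalising the four group without centralising it permutes its involutions cyclically. -/
theorem four_cycle (hV : Nat.card V = 4) (hsq : ∀ v ∈ V, v * v = 1) (h8 : ¬ 8 ∣ Nat.card M) {g : M}
    (hg : g ∈ Subgroup.normalizer (V : Set M)) (hgc : ∃ v ∈ V, g * v ≠ v * g) {t : M} (ht : t ∈ V) (t1 : t ≠ 1) :
    g * t ≠ t * g ∧ ∀ v ∈ V, v ≠ 1 → v = t ∨ g * t * g⁻¹ = v ∨ g * g * t * (g * g)⁻¹ = v := by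
  classical
  haveI : Fact (Nat.Prime 2) := ⟨Nat.prime_two⟩
  -- no element of the normaliser outside the centraliser has order a power of two
  have hodd : ∀ x ∈ Subgroup.normalizer (V : Set M), x ^ 2 ∈ Subgroup.centralizer (V : Set M) →
      x ∈ Subgroup.centralizer (V : Set M) := by
    intro x hx hx2
    obtain ⟨i, r, hr, hord⟩ := Nat.exists_eq_two_pow_mul_odd (orderOf_pos x).ne'
    have hxr : x ^ r ∈ Subgroup.centralizer (V : Set M) := by
      have hpg : IsPGroup 2 (Subgroup.zpowers (x ^ r)) := IsPGroup.of_card (n := i) (by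
        rw [Nat.card_zpowers, orderOf_pow_of_dvd hr.pos.ne' ⟨2 ^ i, by rw [hord, mul_comm]⟩, hord,
          Nat.mul_div_cancel _ hr.pos])
      have hsup : IsPGroup 2 ↥(Subgroup.zpowers (x ^ r) ⊔ V) :=
        hpg.to_sup_of_normal_right' (IsPGroup.of_card (n := 2) (by rw [hV]; rfl))
          (Subgroup.zpowers_le.mpr (pow_mem hx r))
      obtain ⟨j, hj⟩ := IsPGroup.iff_card.mp hsup
      have heq : V = Subgroup.zpowers (x ^ r) ⊔ V := by
        refine Subgroup.eq_of_le_of_card_ge le_sup_right ?_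
        rw [hj, hV]
        have hj2 : ¬ 3 ≤ j := fun h => h8 ((Nat.pow_dvd_pow 2 h).trans (hj ▸ Subgroup.card_subgroup_dvd_card _))
        calc 2 ^ j ≤ 2 ^ 2 := Nat.pow_le_pow_right (by norm_num) (by omega)
          _ = 4 := rfl
      have hm : x ^ r ∈ V := heq ▸ Subgroup.mem_sup_left (Subgroup.mem_zpowers _)
      exact Subgroup.mem_centralizer_iff.mpr fun v hv => four_comm' hsq hv hm
    obtain ⟨j, rfl⟩ := hr
    rw [pow_succ, pow_mul] at hxr
    have := mul_mem (inv_mem (pow_mem hx2 j)) hxr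
    rwa [inv_mul_cancel_left] at this
  obtain ⟨u, hu, hgu⟩ := hgc
  have hC : g ∉ Subgroup.centralizer (V : Set M) := fun h => hgu (Subgroup.mem_centralizer_iff.mp h u hu).symm
  have hu1 : u ≠ 1 := fun e => hgu (by simp [e])
  have him : ∀ v ∈ V, g * v * g⁻¹ ∈ V := fun v hv => (Subgroup.mem_normalizer_iff.mp hg v).mp hv
  have hne : ∀ v, v ≠ 1 → g * v * g⁻¹ ≠ 1 := fun v h e => h (conj_eq_one_iff.mp e)
  have hinj : ∀ v w, g * v * g⁻¹ = g * w * g⁻¹ → v = w := fun v w e => mul_left_cancel (mul_right_cancel e)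
  -- the four elements
  have hset : ∀ x y : M, x ∈ V → y ∈ V → x ≠ 1 → y ≠ 1 → x ≠ y →
      ∀ v ∈ V, v = 1 ∨ v = x ∨ v = y ∨ v = x * y := by
    intro x y hx hy x1 y1 hxy v hv
    have d1 : x * y ≠ 1 := fun e => hxy (by
      rw [eq_inv_of_mul_eq_one_left e, inv_eq_of_mul_eq_one_left (hsq y hy)])
    have d2 : x * y ≠ x := fun e => y1 (mul_eq_left.mp e)
    have d3 : x * y ≠ y := fun e => x1 (mul_eq_right.mp e)
    have hsub : ({1, x, y, x * y} : Set M) ⊆ (V : Set M) := by
      rintro z (rfl | rfl | rfl | rfl)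
      exacts [one_mem _, hx, hy, mul_mem hx hy]
    have h4 : ({1, x, y, x * y} : Set M).ncard = 4 := by
      rw [Set.ncard_insert_of_notMem (by simp [x1.symm, y1.symm, d1.symm]),
        Set.ncard_insert_of_notMem (by simp [hxy, d2.symm]),
        Set.ncard_insert_of_notMem (by simp [d3.symm]), Set.ncard_singleton]
    have heq := Set.eq_of_subset_of_ncard_le hsub
      (by rw [h4]; exact ((Nat.card_coe_set_eq _).symm.trans hV).le)
    have hv' : v ∈ ({1, x, y, x * y} : Set M) := heq ▸ hv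
    exact hv'
  have hfix : ∀ x ∈ V, x ≠ 1 → g * x * g⁻¹ ≠ x := by
    intro x hx x1 hgx
    obtain ⟨y, hy, y1, hyx⟩ : ∃ y ∈ V, y ≠ 1 ∧ y ≠ x := by
      by_contra h
      push Not at h
      have := h u hu hu1
      exact hgu (this ▸ mul_inv_eq_iff_eq_mul.mp hgx)
    apply hC
    refine hodd g hg (Subgroup.mem_centralizer_iff.mpr fun w hw => ?_)
    have hsw : g * g * y * (g * g)⁻¹ = y := by
      rcases hset x y hx hy x1 y1 (Ne.symm hyx) _ (him y hy) with e | e | e | e
      · exact absurd e (hne y y1)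
      · exact absurd (hinj y x (e.trans hgx.symm)) hyx
      · rw [show g * g * y * (g * g)⁻¹ = g * (g * y * g⁻¹) * g⁻¹ by group, e, e]
      · rw [show g * g * y * (g * g)⁻¹ = g * (g * y * g⁻¹) * g⁻¹ by group, e, ← conj_mul, hgx, e, ← mul_assoc,
          hsq x hx, one_mul]
    have hsx : g * g * x * (g * g)⁻¹ = x := by
      rw [show g * g * x * (g * g)⁻¹ = g * (g * x * g⁻¹) * g⁻¹ by group, hgx, hgx]
    have cx := mul_inv_eq_iff_eq_mul.mp hsx
    have cy := mul_inv_eq_iff_eq_mul.mp hsw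
    rw [pow_two]
    rcases hset x y hx hy x1 y1 (Ne.symm hyx) w hw with rfl | rfl | rfl | rfl
    · simp
    · exact cx.symm
    · exact cy.symm
    · exact ((show Commute (g * g) x from cx).mul_right cy).eq.symm
  have hg1 : g * t ≠ t * g := fun e => hfix t ht t1 (mul_inv_eq_iff_eq_mul.mpr e)
  refine ⟨hg1, fun v hv v1 => ?_⟩
  have hgt1 := hfix t ht t1
  have h2 := him _ (him t ht)
  rcases hset t (g * t * g⁻¹) ht (him t ht) t1 (hne t t1) (Ne.symm hgt1) v hv with e | e | e | e
  · exact absurd e v1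
  · exact Or.inl e
  · exact Or.inr (Or.inl e.symm)
  · refine Or.inr (Or.inr ?_)
    rw [show g * g * t * (g * g)⁻¹ = g * (g * t * g⁻¹) * g⁻¹ by group, e]
    rcases hset t (g * t * g⁻¹) ht (him t ht) t1 (hne t t1) (Ne.symm hgt1) _ h2 with e' | e' | e' | e'
    · exact absurd e' (hne _ (hne t t1))
    · exfalso
      apply hfix (t * (g * t * g⁻¹)) (mul_mem ht (him t ht)) (e ▸ v1)
      rw [← conj_mul, e', four_comm' hsq (him t ht) ht]
    · exact absurd e' (hfix _ (him t ht) (hne t t1))
    · exact e'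

/-- A perfect subgroup containing the Sylow four group supplies the numerical data. -/
theorem numerics_of_perfect (hV : Nat.card V = 4) (hsq : ∀ v ∈ V, v * v = 1) (h8 : ¬ 8 ∣ Nat.card M)
    (L : Subgroup M) [Group.IsPerfect L] (hVL : V ≤ L) {t : M} (ht : t ∈ V) (t1 : t ≠ 1) :
    Numerics M t V := by
  classical
  haveI : Fact (Nat.Prime 2) := ⟨Nat.prime_two⟩
  let S : Sylow 2 L := Sylow.ofCard (V.subgroupOf L) (by
    rw [Nat.card_congr (Subgroup.subgroupOfEquivOfLe hVL).toEquiv, hV, four_factorization hV h8 L hVL]; rfl)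
  have hSc : (S : Subgroup L) = V.subgroupOf L := Sylow.coe_ofCard _ _
  obtain ⟨g, hgN, v, hv, hgv⟩ : ∃ g : L, (g : M) ∈ Subgroup.normalizer (V : Set M) ∧
      ∃ v ∈ V, (g : M) * v ≠ v * g := by
    by_contra h
    push Not at h
    have hNC : Subgroup.normalizer ((S : Subgroup L) : Set L) ≤
        Subgroup.centralizer ((S : Subgroup L) : Set L) := by
      intro g hg
      have hgN : (g : M) ∈ Subgroup.normalizer (V : Set M) := mem_normalizer_of_le fun x hx => by
        have h' := (Subgroup.mem_normalizer_iff.mp hg ⟨x, hVL hx⟩).mp (by rw [hSc]; exact hx)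
        rw [hSc] at h'
        exact h'
      refine Subgroup.mem_centralizer_iff.mpr fun x hx => Subtype.ext ?_
      rw [hSc] at hx
      exact (h g hgN x hx).symm
    have hcomp := MonoidHom.ker_transferSylow_isComplement' S hNC
    -- the image is commutative, so the transfer is trivial
    have hker : (MonoidHom.transferSylow S hNC).ker = ⊤ := by
      refine top_le_iff.mp ?_
      rw [← Group.IsPerfect.commutator_eq_top (G := L), commutator_def, Subgroup.commutator_le]
      intro x _ y _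
      rw [MonoidHom.mem_ker, map_commutatorElement, commutatorElement_eq_one_iff_mul_comm]
      refine Subtype.ext ?_
      exact Subtype.ext (four_comm' hsq (show ((MonoidHom.transferSylow S hNC x : L) : M) ∈ V by
        exact Subgroup.mem_subgroupOf.mp ((SetLike.ext_iff.mp hSc _).mp (MonoidHom.transferSylow S hNC x).2)) (by
        exact Subgroup.mem_subgroupOf.mp ((SetLike.ext_iff.mp hSc _).mp (MonoidHom.transferSylow S hNC y).2)))
    rw [hker] at hcomp
    have h1 := Subgroup.isComplement'_top_left.mp hcomp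
    have : (⟨t, hVL ht⟩ : L) ∈ (S : Subgroup L) := by rw [hSc]; exact ht
    rw [h1, Subgroup.mem_bot] at this
    exact t1 (congrArg Subtype.val this)
  obtain ⟨hgt, hcyc⟩ := four_cycle hV hsq h8 hgN ⟨v, hv, hgv⟩ ht t1
  refine numerics hV hsq h8 ht t1 L hVL (fun w hw w1 => ?_) ⟨g, g.2, hgN, hgt⟩
  rcases hcyc w hw w1 with rfl | e | e
  · exact ⟨1, one_mem _, by simp⟩
  · exact ⟨g, g.2, e⟩
  · exact ⟨g * g, mul_mem g.2 g.2, e⟩

end CfsgLib.StabAlt5
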