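import Cfsg.Agent.Lib.StabAlt5.OddTools
import Cfsg.Agent.Lib.StabAlt5.Fusion4

/-!
Tools for the symmetric case of odd degree with the four group acting trivially on the fixed points.
-/

set_option autoImplicit false
set_option linter.unusedSectionVars false
set_option linter.style.haveILetI false

namespace CfsgLib.StabAlt5

open MulAction

universe u v

section Generic

variable {M : Type u} [Group M] [Finite M]

/-- A four group which is a Sylow subgroup contains a conjugate of every `2`-subgroup. -/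
theorem exists_conj_le {V : Subgroup M} (hV : Nat.card V = 4) (h8 : ¬ 8 ∣ Nat.card M) {S : Subgroup M}
    (hS : IsPGroup 2 S) : ∃ g : M, ∀ s ∈ S, g * s * g⁻¹ ∈ V := by
  haveI : Fact (Nat.Prime 2) := ⟨Nat.prime_two⟩
  have hf := four_factorization hV h8 ⊤ le_top
  rw [Subgroup.card_top] at hf
  let SV : Sylow 2 M := Sylow.ofCard V (by rw [hV, hf]; rfl)
  obtain ⟨Q, hQ⟩ := hS.exists_le_sylow
  obtain ⟨g, hg⟩ := MulAction.exists_smul_eq M Q SV
  refine ⟨g, fun s hs => ?_⟩
  have hm := Subgroup.smul_mem_pointwise_smul _ (MulAut.conj g) (Q : Subgroup M) (hQ hs)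
  rw [← Sylow.coe_subgroup_smul] at hm
  have h' : MulAut.conj g • s ∈ (SV : Subgroup M) := hg ▸ hm
  rw [Sylow.coe_ofCard] at h'
  exact h'

/-- A perfect group has no Sylow `2`-subgroup of order two. -/
theorem perfect_not_two [Group.IsPerfect M] (S : Sylow 2 M) (h2 : Nat.card (S : Subgroup M) = 2) : False := by
  haveI : Fact (Nat.Prime 2) := ⟨Nat.prime_two⟩
  haveI : Fintype ↥(S : Subgroup M) := Fintype.ofFinite _
  have hcomm : ∀ x y : ↥(S : Subgroup M), x * y = y * x := by
    haveI : IsCyclic ↥(S : Subgroup M) := isCyclic_of_prime_card h2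
    exact fun x y => (IsCyclic.commGroup (α := ↥(S : Subgroup M))).mul_comm x y
  have hS2 : ((S : Subgroup M) : Set M).ncard = 2 := (Nat.card_coe_set_eq _).symm.trans h2
  have hNC : Subgroup.normalizer ((S : Subgroup M) : Set M) ≤
      Subgroup.centralizer ((S : Subgroup M) : Set M) := by
    intro g hg
    refine Subgroup.mem_centralizer_iff.mpr fun x hx => ?_
    by_cases x1 : x = 1
    · simp [x1]
    have hgx := (Subgroup.mem_normalizer_iff.mp hg x).mp hx
    have e : g * x * g⁻¹ = x := by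
      by_contra hne
      have hsub : ({1, x, g * x * g⁻¹} : Set M) ⊆ ((S : Subgroup M) : Set M) := by
        rintro z (rfl | rfl | rfl)
        exacts [one_mem _, hx, hgx]
      have h3 := Set.ncard_le_ncard hsub (Set.toFinite _)
      rw [Set.ncard_insert_of_notMem (by simp [Ne.symm x1, Ne.symm (fun e => x1 (conj_eq_one_iff.mp e))]),
        Set.ncard_pair (Ne.symm hne), hS2] at h3
      omega
    exact (mul_inv_eq_iff_eq_mul.mp e).symm
  have hcomp := MonoidHom.ker_transferSylow_isComplement' S hNC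
  have hker : (MonoidHom.transferSylow S hNC).ker = ⊤ := by
    refine top_le_iff.mp ?_
    rw [← Group.IsPerfect.commutator_eq_top (G := M), commutator_def, Subgroup.commutator_le]
    intro x _ y _
    rw [MonoidHom.mem_ker, map_commutatorElement, commutatorElement_eq_one_iff_mul_comm]
    exact hcomm _ _
  rw [hker] at hcomp
  have h1 := Subgroup.isComplement'_top_left.mp hcomp
  rw [h1, Subgroup.card_bot] at h2
  omega

end Generic

/-- Products of the lift with the four group. -/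
def InPV {G : Type u} [Group G] {Ω : Type v} [MulAction G Ω] (P : Subgroup G) (t : G) (a b : Ω) (g : G) : Prop :=
  ∃ y ∈ P, ∃ h ∈ four t a b, g = y * h

variable {G : Type u} [Group G] [Finite G] {Ω : Type v} [Finite Ω] [MulAction G Ω] [FaithfulSMul G Ω]
variable {a b : Ω} {t : G} (H : Hyp G a b) (T : InvIn t a b)
include H T

variable (hk : (fixPts Ω (four t a b)).ncard = (fixedBy Ω t).ncard)
include hk

theorem four_fix {v : G} (hv : v ∈ four t a b) {c : Ω} (hc : c ∈ fixedBy Ω t) : v • c = c := by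
  have h : fixPts Ω (four t a b) = fixedBy Ω t := Set.eq_of_subset_of_ncard_le (fixPts_subset H T) hk.ge
  exact (h.symm ▸ hc : c ∈ fixPts Ω (four t a b)) v hv

/-- A two-point stabiliser in `C(t)` is the four group. -/
theorem stab_four {h : G} (hh : h ∈ Subgroup.centralizer ({t} : Set G)) (ha : h • a = a) {c : Ω}
    (hc : c ∈ fixedBy Ω t) (hca : c ≠ a) (hhc : h • c = c) : h ∈ four t a b := by
  obtain ⟨g, hg, hga, hgc⟩ := cent_trans H T T.mem.1 hc (Ne.symm hca)
  have hv : g⁻¹ * h * g ∈ four t a b := mem_four.mpr ⟨⟨?_, ?_⟩,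
    Subgroup.mem_centralizer_singleton_iff.mp (mul_mem (mul_mem (inv_mem hg) hh) hg)⟩
  · refine mem_four.mpr ⟨⟨ha, ?_⟩, Subgroup.mem_centralizer_singleton_iff.mp hh⟩
    have hb' : g⁻¹ • b ∈ fixedBy Ω t := smul_mem_fixedBy H (inv_mem hg) T.mem.2
    have := four_fix H T hk hv hb'
    rw [mul_smul, mul_smul, smul_inv_smul, smul_left_cancel_iff] at this
    exact this
  · show (g⁻¹ * h * g) • a = a
    rw [mul_smul, mul_smul, hga, ha, inv_smul_eq_iff, hga]
  · show (g⁻¹ * h * g) • b = b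
    rw [mul_smul, mul_smul, hgc, hhc, inv_smul_eq_iff, hgc]

variable {P : Subgroup G} {p j : ℕ} (L : RegLift Ω t P p j)
include L

theorem RegLift.comm_four {v : G} (hv : v ∈ four t a b) : ∀ x ∈ P, v * x = x * v :=
  L.kernel_comm H T (four_le_cent H T hv) fun _ hc => four_fix H T hk hv hc

theorem RegLift.norm_le {g : G} (hg : g ∈ Subgroup.normalizer (four t a b : Set G)) :
    g ∈ Subgroup.normalizer (P : Set G) := by
  have hle : P.map (MulAut.conj g).toMonoidHom ≤ P := by
    refine L.le_of_pgroup H T ((IsPGroup.of_card L.card).map _) ?_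
    rintro _ ⟨x, hx, rfl⟩
    refine Subgroup.mem_centralizer_singleton_iff.mpr ?_
    have hv : g⁻¹ * t * g ∈ four t a b :=
      (Subgroup.mem_normalizer_iff''.mp hg t).mp (self_mem_four H T)
    show g * x * g⁻¹ * t = t * (g * x * g⁻¹)
    calc g * x * g⁻¹ * t = g * (x * (g⁻¹ * t * g)) * g⁻¹ := by group
      _ = g * ((g⁻¹ * t * g) * x) * g⁻¹ := by rw [L.comm_four H T hk hv x hx]
      _ = t * (g * x * g⁻¹) := by group
  exact mem_normalizer_of_le fun x hx => hle ⟨x, hx, rfl⟩

/-- The lift serves every involution of the four group. -/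
theorem RegLift.of_four {v : G} (hv : v ∈ four t a b) (v1 : v ≠ 1) :
    RegLift Ω v P p j ∧ (fixPts Ω (four v a b)).ncard = (fixedBy Ω v).ncard := by
  have Tv := invIn_four H T hv v1
  have hfix : (fixedBy Ω v).ncard = (fixedBy Ω t).ncard := conjSet_fix H T (mem_conjSet H T Tv)
  have hkv : (fixPts Ω (four v a b)).ncard = (fixedBy Ω v).ncard := by rw [four_eq H T hv v1, hk, hfix]
  refine ⟨?_, hkv⟩
  have hmv : Odd (fixedBy Ω v).ncard := by rw [hfix, L.fix_card]; exact L.odd.pow
  obtain ⟨Pv, p', j', Lv⟩ := exists_regLift H Tv hmv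
  have e : p' ^ j' = p ^ j := by rw [← Lv.fix_card, ← L.fix_card, hfix]
  have hpp : p' = p := by
    have h1 : p' ∣ p ^ j := e ▸ dvd_pow_self p' (by have := Lv.pos; omega)
    exact (Nat.prime_dvd_prime_iff_eq Lv.prime L.prime).mp (Lv.prime.dvd_of_dvd_pow h1)
  subst hpp
  have hjj : j' = j := Nat.pow_right_injective L.prime.two_le e
  subst hjj
  have hle : P ≤ Pv := Lv.le_of_pgroup H Tv (IsPGroup.of_card L.card) fun x hx =>
    Subgroup.mem_centralizer_singleton_iff.mpr (L.comm_four H T hk hv x hx).symm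
  rw [Subgroup.eq_of_le_of_card_ge hle (by rw [L.card, Lv.card])]
  exact Lv

theorem RegLift.cent_point {x g : G} (hx : x ∈ P) (x1 : x ≠ 1)
    (hg : g ∈ Subgroup.centralizer ({t} : Set G)) (hgx : g * x = x * g) : InPV P t a b g := by
  obtain ⟨y, hy, hya, hyC⟩ := L.decompose H T g hg
  refine ⟨y, hy, y⁻¹ * g, ?_, by group⟩
  refine stab_four H T hk hyC hya (smul_mem_fixedBy H (L.le hx) T.mem.1)
    (fun e => x1 (L.reg x hx a T.mem.1 e)) ?_
  rw [← mul_smul, mul_assoc, hgx, ← mul_assoc, L.comm _ (inv_mem hy) x hx, mul_assoc, mul_smul, hya]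

theorem RegLift.cent_four {x v g : G} (hx : x ∈ P) (x1 : x ≠ 1) (hv : v ∈ four t a b) (v1 : v ≠ 1)
    (hgv : g * v = v * g) (hgx : g * x = x * g) : InPV P t a b g := by
  obtain ⟨Lv, hkv⟩ := L.of_four H T hk hv v1
  obtain ⟨y, hy, h, hh, e⟩ := Lv.cent_point H (invIn_four H T hv v1) hkv hx x1
    (Subgroup.mem_centralizer_singleton_iff.mpr hgv) hgx
  exact ⟨y, hy, h, four_eq H T hv v1 ▸ hh, e⟩

theorem RegLift.meet_four {h : G} (hh : h ∈ four t a b) (hP : h ∈ P) : h = 1 :=
  L.reg h hP a T.mem.1 (mem_four.mp hh).1.1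

theorem RegLift.two_mem {g : G} (hg : InPV P t a b g) {i : ℕ} (hi : g ^ 2 ^ i = 1) : g ∈ four t a b := by
  obtain ⟨y, hy, h, hh, rfl⟩ := hg
  have hc : Commute y h := (L.comm_four H T hk hh y hy).symm
  rw [hc.mul_pow] at hi
  have h1 : y ^ 2 ^ i = 1 := by
    refine L.meet_four H T hk ?_ (pow_mem hy _)
    rw [eq_inv_of_mul_eq_one_left hi]
    exact inv_mem (pow_mem hh _)
  have hcop : Nat.Coprime (2 ^ i) (p ^ j) := Nat.Coprime.pow _ _ ((Nat.prime_two.coprime_iff_not_dvd).mpr
    fun h => Nat.not_even_iff_odd.mpr L.odd (even_iff_two_dvd.mpr h))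
  have hy1 : y = 1 := by
    have hd : orderOf y ∣ p ^ j := L.card ▸ Subgroup.orderOf_dvd_natCard P hy
    exact orderOf_eq_one_iff.mp (Nat.dvd_one.mp (hcop.gcd_eq_one ▸ Nat.dvd_gcd (orderOf_dvd_of_pow_eq_one h1) hd))
  rw [hy1, one_mul]
  exact hh

theorem RegLift.odd_mem {g : G} (hg : InPV P t a b g) (ho : Odd (orderOf g)) : g ∈ P := by
  obtain ⟨y, hy, h, hh, rfl⟩ := hg
  have hc : Commute y h := (L.comm_four H T hk hh y hy).symm
  obtain ⟨i, hi⟩ := ho
  have h1 := pow_orderOf_eq_one (y * h)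
  have hh2 : h ^ (2 * i + 1) = h := by rw [pow_succ, pow_mul, pow_two, four_sq H T hh, one_pow, one_mul]
  rw [hi, hc.mul_pow, hh2] at h1
  have : h = 1 := by
    refine L.meet_four H T hk hh ?_
    rw [eq_inv_of_mul_eq_one_right h1]
    exact inv_mem (pow_mem hy _)
  rw [this, mul_one]
  exact hy

theorem RegLift.not_eight {x : G} (hx : x ∈ P) (x1 : x ≠ 1) :
    ¬ 8 ∣ Nat.card ↥(Subgroup.centralizer ({x} : Set G)) := by
  haveI : Fact (Nat.Prime 2) := ⟨Nat.prime_two⟩
  intro h8
  set M := Subgroup.centralizer ({x} : Set G) with hM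
  let tM : ↥M := ⟨t, Subgroup.mem_centralizer_singleton_iff.mpr
    (L.comm_four H T hk (self_mem_four H T) x hx)⟩
  obtain ⟨S, hS⟩ := (IsPGroup.of_card (n := 1) (by
    rw [Nat.card_zpowers, orderOf_eq_prime (by rw [pow_two]; exact Subtype.ext T.sq)
      (fun e => T.ne_one (congrArg Subtype.val e)), pow_one]) : IsPGroup 2 (Subgroup.zpowers tM)).exists_le_sylow
  have htS : tM ∈ (S : Subgroup ↥M) := hS (Subgroup.mem_zpowers _)
  have hpow : ∀ s : ↥M, s ∈ (S : Subgroup ↥M) → ∃ i : ℕ, (s : G) ^ 2 ^ i = 1 := fun s hs => by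
    obtain ⟨i, hi⟩ := S.2 ⟨s, hs⟩
    exact ⟨i, congrArg (fun z : (S : Subgroup ↥M) => ((z : ↥M) : G)) hi⟩
  haveI : Nontrivial (S : Subgroup ↥M) := ⟨⟨⟨tM, htS⟩, 1, fun e => T.ne_one
    (congrArg (fun z : (S : Subgroup ↥M) => ((z : ↥M) : G)) e)⟩⟩
  haveI := S.2.center_nontrivial
  obtain ⟨⟨z, hz⟩, z1⟩ := exists_ne (1 : Subgroup.center (S : Subgroup ↥M))
  have hzc : ∀ s : ↥M, s ∈ (S : Subgroup ↥M) → (s : G) * ((z : ↥M) : G) = ((z : ↥M) : G) * (s : G) :=
    fun s hs => congrArg (fun w : (S : Subgroup ↥M) => ((w : ↥M) : G)) (Subgroup.mem_center_iff.mp hz ⟨s, hs⟩)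
  have hmem : ∀ s : ↥M, (s : G) * x = x * (s : G) := fun s => Subgroup.mem_centralizer_singleton_iff.mp s.2
  have hzV : ((z : ↥M) : G) ∈ four t a b := by
    obtain ⟨i, hi⟩ := hpow _ z.2
    exact L.two_mem H T hk (L.cent_point H T hk hx x1
      (Subgroup.mem_centralizer_singleton_iff.mpr (hzc tM htS).symm) (hmem _)) hi
  have hz1 : ((z : ↥M) : G) ≠ 1 := fun e => z1 (Subtype.ext (Subtype.ext (Subtype.ext e)))
  have hle : (S : Subgroup ↥M).map M.subtype ≤ four t a b := by
    rintro _ ⟨s, hs, rfl⟩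
    obtain ⟨i, hi⟩ := hpow s hs
    exact L.two_mem H T hk (L.cent_four H T hk hx x1 hzV hz1 (hzc s hs) (hmem _)) hi
  have h4 := Subgroup.card_dvd_of_le hle
  rw [Subgroup.card_map_of_injective M.subtype_injective, card_four H T] at h4
  have hd : 2 ^ 3 ∣ Nat.card (S : Subgroup ↥M) := S.pow_dvd_card_of_pow_dvd_card (by simpa using h8)
  exact absurd (hd.trans h4) (by decide)

/-- The lift times the four group. -/
theorem RegLift.card_pv {M : Subgroup G} (hP : P ≤ M) (hV : four t a b ≤ M) :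
    4 * p ^ j ∣ Nat.card M := by
  have hcomm : ∀ (x : ↥P) (z : ↥(four t a b)), Commute (P.subtype x) ((four t a b).subtype z) :=
    fun x z => (L.comm_four H T hk z.2 x x.2).symm
  let f := P.subtype.noncommCoprod (four t a b).subtype hcomm
  have hinj : Function.Injective f := by
    rw [← MonoidHom.ker_eq_bot_iff, Subgroup.eq_bot_iff_forall]
    rintro ⟨⟨y, hy⟩, ⟨h, hh⟩⟩ he
    have he' : y * h = 1 := he
    have h1 : h = 1 := L.meet_four H T hk hh (by rw [eq_inv_of_mul_eq_one_right he']; exact inv_mem hy)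
    subst h1
    rw [mul_one] at he'
    subst he'
    rfl
  have hle : f.range ≤ M := by
    rintro _ ⟨⟨y, h⟩, rfl⟩
    exact mul_mem (hP y.2) (hV h.2)
  have hd := Subgroup.card_dvd_of_le hle
  rwa [← Nat.card_congr (MonoidHom.ofInjective hinj).toEquiv, Nat.card_prod, L.card, card_four H T, mul_comm] at hd

end CfsgLib.StabAlt5
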