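import Cfsg.Agent.Lib.StabAlt5.Bridge

/-!
No doubly transitive group of degree 900 has two-point stabilisers of order two fixing thirty points.
-/

set_option autoImplicit false
set_option linter.unusedSectionVars false
set_option linter.style.haveILetI false

namespace CfsgLib.StabAlt5

open MulAction

universe u v

variable {X : Type u} [Group X] [Finite X] {Δ : Type v} [Finite Δ] [MulAction X Δ] [FaithfulSMul X Δ]
variable {a b : Δ} {s : X}

theorem le_normalizer_of_normal {H K : Subgroup X} (h : H ≤ K) [hn : (H.subgroupOf K).Normal] (g : X)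
    (hg : g ∈ K) : g ∈ Subgroup.normalizer (H : Set X) :=
  Subgroup.mem_normalizer_iff.mpr fun x =>
    ⟨fun hx => hn.conj_mem ⟨x, h hx⟩ hx ⟨g, hg⟩, fun hx => by
      have := hn.conj_mem ⟨_, h hx⟩ hx ⟨g, hg⟩⁻¹
      simpa [Subgroup.mem_subgroupOf, mul_assoc] using this⟩

theorem TwoHyp.pair_card (H : TwoHyp X a b s) : Nat.card ↥(stabilizer X a ⊓ stabilizer X b) = 2 := by
  show Nat.card ↥((stabilizer X a ⊓ stabilizer X b : Subgroup X) : Set X) = 2
  rw [Nat.card_coe_set_eq, show ((stabilizer X a ⊓ stabilizer X b : Subgroup X) : Set X) = {1, s} from ?_,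
    Set.ncard_pair H.ne_one.symm]
  ext x
  constructor
  · exact fun hx => H.only x hx.1 hx.2
  · rintro (rfl | rfl)
    exacts [one_mem _, ⟨H.fix_a, H.fix_b⟩]

theorem TwoHyp.card_group (H : TwoHyp X a b s) : Nat.card X = Nat.card Δ * ((Nat.card Δ - 1) * 2) ∧
    Nat.card ↥(stabilizer X a) = (Nat.card Δ - 1) * 2 := by
  have h := card_of_pairs (⊤ : Subgroup X) (Δ := (Set.univ : Set Δ)) (a := a) (b := b) trivial trivial H.ne
    (fun _ _ _ _ => trivial) fun c d _ _ hcd => by
      obtain ⟨g, hg⟩ := H.two a b c d H.ne hcd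
      exact ⟨g, trivial, hg⟩
  rw [Subgroup.card_top, Set.ncard_univ, top_inf_eq, top_inf_eq, H.pair_card] at h
  exact h

theorem TwoHyp.card_cent (H : TwoHyp X a b s) :
    Nat.card ↥(Subgroup.centralizer ({s} : Set X)) =
      (fixedBy Δ s).ncard * (((fixedBy Δ s).ncard - 1) * 2) ∧
    Nat.card ↥(Subgroup.centralizer ({s} : Set X) ⊓ stabilizer X a) = ((fixedBy Δ s).ncard - 1) * 2 := by
  have hinf : Subgroup.centralizer ({s} : Set X) ⊓ (stabilizer X a ⊓ stabilizer X b) =
      stabilizer X a ⊓ stabilizer X b := by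
    refine inf_eq_right.mpr fun x hx => Subgroup.mem_centralizer_singleton_iff.mpr ?_
    rcases H.only x hx.1 hx.2 with rfl | rfl <;> simp
  have h := card_of_pairs (Subgroup.centralizer ({s} : Set X)) (a := a) (b := b) (Δ := fixedBy Δ s)
    H.fix_a H.fix_b H.ne (fun g hg c hc => by
      show s • g • c = g • c
      rw [← mul_smul, ← Subgroup.mem_centralizer_singleton_iff.mp hg, mul_smul, hc]) (fun c d hc hd hcd => by
      obtain ⟨g, hgc, hg⟩ := witt_elem H.two H.ne (t := s) (fun k ha hb => by
        rcases H.only _ ha hb with e | e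
        · exact absurd (conj_eq_one_iff.mp e) H.ne_one
        · exact ⟨1, one_smul _ _, one_smul _ _, by simp [e]⟩) hcd hc hd
      exact ⟨g, Subgroup.mem_centralizer_singleton_iff.mpr hgc, hg⟩)
  rw [hinf, H.pair_card] at h
  exact h

theorem TwoHyp.not_nine_hundred (H : TwoHyp X a b s) (hn : Nat.card Δ = 900)
    (hk : (fixedBy Δ s).ncard = 30) : False := by
  classical
  haveI : Fact (Nat.Prime 29) := ⟨by norm_num⟩
  haveI : Fact (Nat.Prime 2) := ⟨Nat.prime_two⟩
  obtain ⟨hG, hA⟩ := H.card_group
  obtain ⟨-, hC⟩ := H.card_cent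
  rw [hn] at hG hA
  rw [hk] at hC
  replace hG : Nat.card X = 1618200 := by omega
  replace hA : Nat.card ↥(stabilizer X a) = 1798 := by omega
  replace hC : Nat.card ↥(Subgroup.centralizer ({s} : Set X) ⊓ stabilizer X a) = 58 := by omega
  obtain ⟨z, hz⟩ := exists_prime_orderOf_dvd_card' (G := ↥(Subgroup.centralizer ({s} : Set X) ⊓ stabilizer X a)) 29
    (by rw [hC]; norm_num)
  rw [← Subgroup.orderOf_coe] at hz
  obtain ⟨hzs, hza⟩ := z.2
  have hzs' := Subgroup.mem_centralizer_singleton_iff.mp hzs
  generalize (z : X) = q at hz hzs hza hzs'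
  have hQcard : Nat.card (Subgroup.zpowers q) = 29 := by rw [Nat.card_zpowers, hz]
  have hfac : (Nat.card X).factorization 29 = 1 := by
    have h1 := (Nat.Prime.pow_dvd_iff_le_factorization (p := 29) (k := 1) (by norm_num) Nat.card_pos.ne').mp
      (by rw [hG]; norm_num)
    have h2 : ¬ 2 ≤ (Nat.card X).factorization 29 := fun h => by
      have := (Nat.Prime.pow_dvd_iff_le_factorization (p := 29) (k := 2) (by norm_num) Nat.card_pos.ne').mpr h
      rw [hG] at this
      norm_num at this
    omega
  let Q : Sylow 29 X := Sylow.ofCard (Subgroup.zpowers q) (by rw [hQcard, hfac, pow_one])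
  have hQc : (Q : Subgroup X) = Subgroup.zpowers q := Sylow.coe_ofCard _ _
  have hQa : Subgroup.zpowers q ≤ stabilizer X a := Subgroup.zpowers_le.mpr hza
  have huniq : ∀ c : Δ, q • c = c → c = a := fun c hc => by
    by_contra hca
    obtain ⟨g, hg⟩ := H.of_fix hca hc hza (fun e => by simp [e] at hz)
    have : orderOf q = 2 := orderOf_eq_prime (by rw [pow_two, H.conjSet_sq hg]) (fun e => by simp [e] at hz)
    omega
  have hN : Subgroup.normalizer ((Subgroup.zpowers q : Subgroup X) : Set X) ≤ stabilizer X a := fun g hg => by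
    refine huniq (g • a) ?_
    obtain ⟨i, hi⟩ := Subgroup.mem_zpowers_iff.mp
      ((Subgroup.mem_normalizer_iff''.mp hg q).mp (Subgroup.mem_zpowers q))
    have h1 : (q ^ i) • a = a := hQa (Subgroup.zpow_mem _ (Subgroup.mem_zpowers q) i)
    rw [hi, mul_smul, mul_smul, inv_smul_eq_iff] at h1
    exact h1
  -- the Sylow subgroup is normal in the point stabiliser
  have hfacA : (Nat.card ↥(stabilizer X a)).factorization 29 = 1 := by
    have h1 := (Nat.Prime.pow_dvd_iff_le_factorization (p := 29) (k := 1) (by norm_num) Nat.card_pos.ne').mp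
      (by rw [hA]; norm_num)
    have h2 : ¬ 2 ≤ (Nat.card ↥(stabilizer X a)).factorization 29 := fun h => by
      have := (Nat.Prime.pow_dvd_iff_le_factorization (p := 29) (k := 2) (by norm_num) Nat.card_pos.ne').mpr h
      rw [hA] at this
      norm_num at this
    omega
  let QA : Sylow 29 ↥(stabilizer X a) := Sylow.ofCard ((Subgroup.zpowers q).subgroupOf (stabilizer X a)) (by
    rw [Nat.card_congr (Subgroup.subgroupOfEquivOfLe hQa).toEquiv, hQcard, hfacA, pow_one])
  have hQn : ∀ g ∈ stabilizer X a, g ∈ Subgroup.normalizer ((Subgroup.zpowers q : Subgroup X) : Set X) := by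
    have hmod := card_sylow_modEq_one 29 ↥(stabilizer X a)
    have hidx : (QA : Subgroup ↥(stabilizer X a)).index = 62 := by
      have h := Subgroup.card_mul_index (QA : Subgroup ↥(stabilizer X a))
      rw [Sylow.coe_ofCard, Nat.card_congr (Subgroup.subgroupOfEquivOfLe hQa).toEquiv, hQcard, hA] at h
      rw [Sylow.coe_ofCard]
      omega
    have hdvd : Nat.card (Sylow 29 ↥(stabilizer X a)) ∣ 62 := hidx ▸ QA.card_dvd_index
    have hone : Nat.card (Sylow 29 ↥(stabilizer X a)) = 1 := by
      have hle := Nat.le_of_dvd (by norm_num) hdvd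
      unfold Nat.ModEq at hmod
      interval_cases h : Nat.card (Sylow 29 ↥(stabilizer X a)) <;> omega
    haveI := (Nat.card_eq_one_iff_unique.mp hone).1
    haveI : ((Subgroup.zpowers q).subgroupOf (stabilizer X a)).Normal := by
      have := QA.normal_of_subsingleton
      rwa [Sylow.coe_ofCard] at this
    exact fun g hg => CfsgLib.StabAlt5.le_normalizer_of_normal hQa g hg
  -- it is central in its normaliser
  have hcomm : ∀ g ∈ stabilizer X a, g * q = q * g := by
    set C := Subgroup.centralizer ({q} : Set X) with hC'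
    have hle : Subgroup.zpowers q ⊔ Subgroup.zpowers s ≤ C ⊓ stabilizer X a := by
      refine sup_le ?_ ?_ <;> rw [Subgroup.zpowers_le]
      · exact ⟨Subgroup.mem_centralizer_singleton_iff.mpr rfl, hza⟩
      · exact ⟨Subgroup.mem_centralizer_singleton_iff.mpr hzs'.symm, H.fix_a⟩
    have h2 : 2 ∣ Nat.card ↥(C ⊓ stabilizer X a) := by
      have h := Subgroup.card_dvd_of_le (le_sup_right.trans hle)
      rwa [Nat.card_zpowers, orderOf_eq_prime (by rw [pow_two, H.sq]) H.ne_one] at h
    have h29 : 29 ∣ Nat.card ↥(C ⊓ stabilizer X a) := hQcard ▸ Subgroup.card_dvd_of_le (le_sup_left.trans hle)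
    intro g hg
    obtain ⟨i, hi⟩ := Subgroup.mem_zpowers_iff.mp
      ((Subgroup.mem_normalizer_iff.mp (hQn g hg) q).mp (Subgroup.mem_zpowers q))
    -- the index divides both 31 and 28
    let φ : ↥(stabilizer X a) →* MulAut ↥(Subgroup.zpowers q) :=
      ((Subgroup.zpowers q).normalizerMonoidHom).comp (Subgroup.inclusion hQn)
    have hker : φ.ker = C.subgroupOf (stabilizer X a) := by
      ext x
      rw [MonoidHom.mem_ker, Subgroup.mem_subgroupOf, hC', Subgroup.mem_centralizer_singleton_iff]
      constructor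
      · intro h
        have := congrArg (fun f : MulAut ↥(Subgroup.zpowers q) =>
          ((f ⟨q, Subgroup.mem_zpowers q⟩ : Subgroup.zpowers q) : X)) h
        exact mul_inv_eq_iff_eq_mul.mp this
      · intro h
        refine MulEquiv.ext fun w => Subtype.ext ?_
        show (x : X) * w * (x : X)⁻¹ = w
        obtain ⟨j, hj⟩ := Subgroup.mem_zpowers_iff.mp w.2
        rw [← hj, (Commute.zpow_right (show Commute (x : X) q from h) j).eq, mul_inv_cancel_right]
    have hidx : φ.ker.index ∣ Nat.card (MulAut ↥(Subgroup.zpowers q)) := by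
      rw [Subgroup.index_ker]; exact Subgroup.card_subgroup_dvd_card _
    haveI : IsCyclic ↥(Subgroup.zpowers q) := inferInstance
    rw [IsCyclic.card_mulAut, hQcard, Nat.totient_prime (by norm_num : Nat.Prime 29)] at hidx
    have hmul := Subgroup.card_mul_index φ.ker
    rw [hker, hA] at hmul
    rw [hker] at hidx
    have heq : Nat.card ↥(C.subgroupOf (stabilizer X a)) = Nat.card ↥(C ⊓ stabilizer X a) :=
      Nat.card_congr
        { toFun := fun x => ⟨(x.1 : X), x.2, x.1.2⟩
          invFun := fun x => ⟨⟨x.1, x.2.2⟩, x.2.1⟩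
          left_inv := fun _ => rfl
          right_inv := fun _ => rfl }
    have h58 : 58 ∣ Nat.card ↥(C.subgroupOf (stabilizer X a)) := heq ▸ Nat.Coprime.mul_dvd_of_dvd_of_dvd
      (show Nat.Coprime 2 29 by norm_num) h2 h29
    obtain ⟨j, hj⟩ := h58
    rw [hj] at hmul
    have hone : (C.subgroupOf (stabilizer X a)).index = 1 := by
      have hd : (C.subgroupOf (stabilizer X a)).index ∣ Nat.gcd 31 28 :=
        Nat.dvd_gcd ⟨j, by rw [mul_comm]; nlinarith⟩ hidx
      simpa using hd
    have := Subgroup.index_eq_one.mp hone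
    exact Subgroup.mem_centralizer_singleton_iff.mp
      (Subgroup.mem_subgroupOf.mp (this ▸ Subgroup.mem_top (⟨g, hg⟩ : ↥(stabilizer X a))))
  have hNC : Subgroup.normalizer ((Q : Subgroup X) : Set X) ≤ Subgroup.centralizer ((Q : Subgroup X) : Set X) := by
    rw [hQc]
    intro g hg
    refine Subgroup.mem_centralizer_iff.mpr fun w hw => ?_
    obtain ⟨j, rfl⟩ := Subgroup.mem_zpowers_iff.mp hw
    exact ((Commute.zpow_right (show Commute g q from hcomm g (hN hg)) j).eq).symm
  -- the normal complement and an invariant Sylow 2-subgroup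
  set K := (MonoidHom.transferSylow Q hNC).ker with hKdef
  have hcomp := MonoidHom.ker_transferSylow_isComplement' Q hNC
  have hKcard : Nat.card K = 55800 := by
    have h := hcomp.card_mul_card
    have hQ29 : Nat.card ↥(Q : Subgroup X) = 29 := by rw [hQc, hQcard]
    rw [hQ29, hG] at h
    rw [hKdef]
    omega
  haveI hKn : K.Normal := MonoidHom.normal_ker _
  obtain ⟨P⟩ : Nonempty (Sylow 2 K) := inferInstance
  have hPcard : Nat.card P = 8 := by
    rw [P.card_eq_multiplicity, hKcard]
    have h1 := (Nat.Prime.pow_dvd_iff_le_factorization (p := 2) (k := 3) (n := 55800) Nat.prime_two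
      (by norm_num)).mp (by norm_num)
    have h2 : ¬ 4 ≤ Nat.factorization 55800 2 := fun h => by
      have := (Nat.Prime.pow_dvd_iff_le_factorization (p := 2) (k := 4) (n := 55800) Nat.prime_two
        (by norm_num)).mpr h
      norm_num at this
    rw [show Nat.factorization 55800 2 = 3 by omega]
    norm_num
  haveI : Finite (Sylow 2 K) := inferInstance
  have hnot : ¬ 29 ∣ Nat.card (Sylow 2 K) := by
    intro h
    have h1 := h.trans P.card_dvd_index
    have h2 := Subgroup.card_mul_index (P : Subgroup K)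
    rw [hPcard, hKcard] at h2
    have h3 : (P : Subgroup K).index = 6975 := by omega
    rw [h3] at h1
    norm_num at h1
  -- the conjugation action of `q` on the Sylow 2-subgroups
  let act : Sylow 2 K → Sylow 2 K := fun S => (MulAut.conjNormal q : MulAut K) • S
  let π : Equiv.Perm (Sylow 2 K) :=
    MulAction.toPerm (α := MulAut K) (β := Sylow 2 K) (MulAut.conjNormal q)
  have hπ : π ^ 29 = 1 := by
    refine Equiv.ext fun S => ?_
    have h1 : ((MulAut.conjNormal q : MulAut K) ^ 29) = 1 := by
      rw [← map_pow, ← hz, pow_orderOf_eq_one, map_one]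
    show ((MulAction.toPermHom (MulAut K) (Sylow 2 K)) (MulAut.conjNormal q) ^ 29) S = S
    rw [← map_pow, h1, map_one]; rfl
  obtain ⟨S, hS⟩ : ∃ S, π S = S := by
    haveI := Fintype.ofFinite (Sylow 2 K)
    exact Equiv.Perm.exists_fixed_point_of_prime (p := 29) (n := 1) (by rwa [← Nat.card_eq_fintype_card])
      (by rwa [pow_one])
  have hScard : Nat.card S = 8 := by rw [S.card_eq_multiplicity, ← P.card_eq_multiplicity, hPcard]
  have hinv : ∀ x : K, x ∈ (S : Subgroup K) → (MulAut.conjNormal q : MulAut K) x ∈ (S : Subgroup K) := by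
    intro x hx
    have h := Subgroup.smul_mem_pointwise_smul _ (MulAut.conjNormal q : MulAut K) _ hx
    rwa [← Sylow.pointwise_smul_def, show ((MulAut.conjNormal q : MulAut K) • S) = S from hS] at h
  -- the eight elements are fixed
  let σ : Equiv.Perm (S : Subgroup K) := Equiv.ofBijective (fun x => ⟨_, hinv x x.2⟩)
    (Finite.injective_iff_bijective.mp fun x y e => by
      have := congrArg Subtype.val e
      exact Subtype.ext ((MulAut.conjNormal q : MulAut K).injective this))
  have hσv : ∀ (j : ℕ) (x : (S : Subgroup K)), ((((σ ^ j) x : (S : Subgroup K)) : K) : X) = q ^ j * x * (q ^ j)⁻¹ := by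
    intro j
    induction j with
    | zero => intro x; simp
    | succ j ih =>
      intro x
      rw [pow_succ', Equiv.Perm.mul_apply]
      show ((MulAut.conjNormal q : MulAut K) (((σ ^ j) x : (S : Subgroup K)) : K) : X) = _
      rw [MulAut.conjNormal_apply, ih, pow_succ']
      group
  have hσ : σ = 1 := by
    by_contra hσ
    have h29 : σ ^ 29 = 1 := Equiv.ext fun x => Subtype.ext (Subtype.ext (by
      rw [hσv, ← hz, pow_orderOf_eq_one]; simp))
    have hord : orderOf σ = 29 := orderOf_eq_prime h29 hσ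
    haveI := Fintype.ofFinite (S : Subgroup K)
    have hd : orderOf σ ∣ Fintype.card (Equiv.Perm (S : Subgroup K)) := orderOf_dvd_card
    rw [hord, Fintype.card_perm, ← Nat.card_eq_fintype_card, hScard] at hd
    norm_num [Nat.factorial] at hd
  have hle : (S : Subgroup K).map K.subtype ≤ Subgroup.centralizer ({q} : Set X) := by
    rintro _ ⟨x, hx, rfl⟩
    have := congrArg (fun f : Equiv.Perm (S : Subgroup K) => (((f ⟨x, hx⟩ : (S : Subgroup K)) : K) : X)) hσ
    simp only [Equiv.Perm.one_apply] at this
    have h1 := hσv 1 ⟨x, hx⟩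
    rw [pow_one, pow_one, this] at h1
    exact Subgroup.mem_centralizer_singleton_iff.mpr (mul_inv_eq_iff_eq_mul.mp h1.symm).symm
  have hCN : Subgroup.centralizer ({q} : Set X) ≤ stabilizer X a := fun g hg => by
    refine huniq (g • a) ?_
    rw [← mul_smul, ← Subgroup.mem_centralizer_singleton_iff.mp hg, mul_smul, show q • a = a from hza]
  have h8 := Subgroup.card_dvd_of_le (hle.trans hCN)
  rw [Subgroup.card_map_of_injective K.subtype_injective, hA, hScard] at h8
  norm_num at h8

end CfsgLib.StabAlt5
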