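import Cfsg.Agent.Lib.StabAlt5.Bridge
import Cfsg.Agent.Lib.StabAlt5.Exceptional
import Cfsg.Agent.Lib.StabAlt5.Fusion4

/-!
Odd degree `2k² - k` with two-point stabilisers of order two does not occur.
-/

set_option autoImplicit false
set_option linter.unusedSectionVars false
set_option linter.style.haveILetI false

namespace CfsgLib.StabAlt5

open MulAction
open scoped commutatorElement

universe u v

section

variable {Y : Type u} [Group Y] [Finite Y] {Δ : Type v} [Finite Δ] [MulAction Y Δ]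

/-- The parity of the number of fixed points of an involution. -/
theorem fix_parity {x : Y} (hx : x * x = 1) : Even (Nat.card Δ - (fixedBy Δ x).ncard) := by
  classical
  haveI := Fintype.ofFinite Δ
  let f : Equiv.Perm Δ := MulAction.toPerm x
  have hf : f ^ 2 = 1 := by
    ext c
    show x • x • c = c
    rw [← mul_smul, hx, one_smul]
  have e : f.support.card = Nat.card Δ - (fixedBy Δ x).ncard := by
    rw [← Set.ncard_coe_finset, ← Set.ncard_univ, ← Set.ncard_sdiff (Set.subset_univ _)]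
    congr 1
    ext c
    simp [f, Equiv.Perm.mem_support]
  rw [← e]
  exact even_iff_two_dvd.mpr (Equiv.Perm.two_dvd_card_support hf)

/-- In a sharply doubly transitive group of odd degree an involution is determined by its fixed point. -/
theorem sharp_inv_unique [FaithfulSMul Y Δ] (h2 : TwoTrans Y Δ) {a b : Δ} (hab : a ≠ b)
    (hsharp : ∀ (x : Y) (c d : Δ), c ≠ d → x • c = c → x • d = d → x = 1) (hodd : Odd (Nat.card Δ))
    {x x' : Y} (hx : x * x = 1) (hx1 : x ≠ 1) (hxa : x • a = a) (hx' : x' * x' = 1) (hx1' : x' ≠ 1)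
    (hxa' : x' • a = a) : x = x' := by
  classical
  set C : Set Y := {z | z * z = 1 ∧ z ≠ 1} with hC
  have hCc : ∀ g z : Y, z ∈ C → g * z * g⁻¹ ∈ C := fun g z hz =>
    ⟨by rw [conj_mul, hz.1, mul_one, mul_inv_cancel], fun e => hz.2 (conj_eq_one_iff.mp e)⟩
  have hfix : ∀ z ∈ C, (fixedBy Δ z).ncard = 1 := by
    intro z hz
    have hle : (fixedBy Δ z).ncard ≤ 1 := (Set.ncard_le_one_iff).mpr fun {c d} hc hd => by
      by_contra hcd
      exact hz.2 (hsharp z c d hcd hc hd)
    have hev := fix_parity (Δ := Δ) hz.1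
    rw [Nat.odd_iff] at hodd
    rw [Nat.even_iff] at hev
    omega
  have hswap := swap_count h2 hab C hCc (fun z hz => hz.1) hfix
  have hle1 : {z : Y | z ∈ C ∧ z • a = b ∧ z • b = a}.ncard ≤ 1 := (Set.ncard_le_one_iff).mpr
    fun {z w} hz hw => (inv_mul_eq_one.mp (hsharp (w⁻¹ * z) a b hab
      (by rw [mul_smul, hz.2.1, ← hw.2.1, inv_smul_smul]) (by rw [mul_smul, hz.2.2, ← hw.2.2, inv_smul_smul]))).symm
  have hn : 1 < Nat.card Δ := Finite.one_lt_card_iff_nontrivial.mpr ⟨a, b, hab⟩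
  have hcard : C.ncard ≤ Nat.card Δ := by
    refine Nat.le_of_mul_le_mul_right (c := Nat.card Δ - 1) ?_ (by omega)
    rw [hswap]
    exact (Nat.mul_le_mul_left _ hle1).trans (le_of_eq (mul_one _))
  haveI : Finite C := inferInstance
  let φ : C → Δ := fun z => (Set.ncard_eq_one.mp (hfix z z.2)).choose
  have hφ : ∀ (z : C) (c : Δ), (z : Y) • c = c → c = φ z := fun z c hc =>
    Set.mem_singleton_iff.mp ((Set.ncard_eq_one.mp (hfix z z.2)).choose_spec ▸ hc : c ∈ ({φ z} : Set Δ))
  have hsurj : Function.Surjective φ := by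
    intro c
    obtain ⟨g, hg⟩ := h2.transitive hab c
    refine ⟨⟨g * x * g⁻¹, hCc g x ⟨hx, hx1⟩⟩, (hφ _ c ?_).symm⟩
    show (g * x * g⁻¹) • c = c
    rw [mul_smul, mul_smul, ← hg, inv_smul_smul, hxa]
  have hinj : Function.Injective φ := by
    have hge : Nat.card Δ ≤ Nat.card C := Nat.card_le_card_of_surjective φ hsurj
    have heq : Nat.card C = Nat.card Δ := le_antisymm ((Nat.card_coe_set_eq C).le.trans hcard) hge
    exact ((Nat.bijective_iff_surjective_and_card φ).mpr ⟨hsurj, heq⟩).1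
  exact congrArg Subtype.val (hinj ((hφ ⟨x, hx, hx1⟩ a hxa).symm.trans (hφ ⟨x', hx', hx1'⟩ a hxa')))

/-- The fixed points of an element correspond to its centraliser in a regular normal subgroup. -/
theorem card_cent_regular (P : Subgroup Y) [hP : P.Normal] (htr : ∀ c d : Δ, ∃ x ∈ P, x • c = d)
    (hreg : ∀ x ∈ P, ∀ c : Δ, x • c = c → x = 1) {g : Y} {a : Δ} (hg : g • a = a) :
    Nat.card ↥(P ⊓ Subgroup.centralizer ({g} : Set Y)) = (fixedBy Δ g).ncard := by
  rw [← Nat.card_coe_set_eq]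
  refine Nat.card_eq_of_bijective (fun x => ⟨(x : Y) • a, ?_⟩) ⟨fun x x' e => ?_, fun c => ?_⟩
  · show g • (x : Y) • a = (x : Y) • a
    rw [← mul_smul, ← Subgroup.mem_centralizer_singleton_iff.mp x.2.2, mul_smul, hg]
  · have e' : (x : Y) • a = (x' : Y) • a := congrArg Subtype.val e
    exact Subtype.ext (inv_mul_eq_one.mp (hreg _ (mul_mem (inv_mem x'.2.1) x.2.1) a
      (by rw [mul_smul, e', inv_smul_smul]))).symm
  · obtain ⟨x, hx, hxc⟩ := htr a c
    have hcomm : x * g = g * x := by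
      have h1 : (x⁻¹ * (g * x * g⁻¹)) • a = a := by
        rw [mul_smul, mul_smul, mul_smul, inv_smul_eq_iff.mpr hg.symm, hxc, show g • (c : Δ) = c from c.2, ← hxc,
          inv_smul_smul]
      have h2 := inv_mul_eq_one.mp (hreg _ (mul_mem (inv_mem hx) (hP.conj_mem x hx g)) a h1)
      nth_rewrite 1 [h2]
      group
    exact ⟨⟨x, hx, Subgroup.mem_centralizer_singleton_iff.mpr hcomm⟩, Subtype.ext hxc⟩

end

/-- The numerical contradiction in the degree `2k² - k`. -/
theorem double_arith {m k q y r d f : ℕ} (hodd : Odd m) (hk2 : 2 ≤ k) (hdeg : m + k = 2 * (k * k)) (hq3 : 3 < q)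
    (hqy : q = 4 * y + 1 ∨ q + 1 = 4 * y) (hd : 0 < d) (hf : 0 < f)
    (hcardX : m * ((m - 1) * 2) * 2 = f * (r * r * r * d) * (q * (q ^ 2 - 1)))
    (hcent : k * ((k - 1) * 2) = f * (d * r) * (4 * y)) (hle : 12 * f * d ≤ 3 * ((k - 1) * 2)) : False := by
  -- integers
  obtain ⟨eps, heps, hq'⟩ : ∃ eps : ℤ, (eps = 1 ∨ eps = -1) ∧ (q : ℤ) = 4 * y + eps := by
    rcases hqy with h | h
    · exact ⟨1, Or.inl rfl, by omega⟩
    · exact ⟨-1, Or.inr rfl, by omega⟩
  have hy1 : 1 ≤ y := by omega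
  have h1q : 1 ≤ q ^ 2 := Nat.one_le_pow _ _ (by omega)
  have hm1 : 1 ≤ m := hodd.pos
  have hk1 : 1 ≤ k := by omega
  have hes : eps * eps = 1 := by rcases heps with rfl | rfl <;> norm_num
  have hr0 : 0 < r := Nat.pos_of_ne_zero fun h => by
    subst h
    have : 0 < k * ((k - 1) * 2) := Nat.mul_pos (by omega) (Nat.mul_pos (by omega) (by norm_num))
    simp at hcent
    omega
  have hF : (0 : ℤ) < (f : ℤ) * d * r := by
    have : 0 < f * d * r := Nat.mul_pos (Nat.mul_pos hf hd) hr0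
    exact_mod_cast this
  have hcardZ := congrArg (fun z : ℕ => (z : ℤ)) hcardX
  have hcentZ := congrArg (fun z : ℕ => (z : ℤ)) hcent
  push_cast [h1q, hm1, hk1] at hcardZ hcentZ
  have hleZ : (12 : ℤ) * f * d ≤ 3 * (((k : ℤ) - 1) * 2) := by
    have h : ((12 * f * d : ℕ) : ℤ) ≤ ((3 * ((k - 1) * 2) : ℕ) : ℤ) := by exact_mod_cast hle
    push_cast [hk1] at h
    exact h
  have hmZ : (m : ℤ) = 2 * (k : ℤ) * k - k := by
    have h : ((m + k : ℕ) : ℤ) = ((2 * (k * k) : ℕ) : ℤ) := by exact_mod_cast hdeg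
    push_cast at h
    linarith
  have hA : (k : ℤ) * (k - 1) = 2 * ((f : ℤ) * d * r) * y := by linarith
  have hB : (r : ℤ) * r * ((4 * y + eps) * (2 * y + eps)) = 4 * (k : ℤ) * k - 1 := by
    refine mul_left_cancel₀ (a := 8 * ((f : ℤ) * d * r) * y) ?_ ?_
    · have : (0 : ℤ) < y := by exact_mod_cast hy1
      positivity
    · rw [hmZ, hq'] at hcardZ
      linear_combination (-1 : ℤ) * hcardZ + 4 * (4 * (k : ℤ) * k - 1) * hA -
        ((f : ℤ) * r * r * r * d * (4 * y + eps)) * hes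
  have hry : (k : ℤ) ≤ r * y := by
    refine le_of_mul_le_mul_right (a := (k : ℤ) - 1) ?_ (by omega)
    have h1 : 2 * ((f : ℤ) * d) ≤ k - 1 := by linarith
    have h2 : (0 : ℤ) ≤ r * y := by positivity
    nlinarith [mul_le_mul_of_nonneg_left h1 h2]
  have hkpos : (0 : ℤ) < k := by exact_mod_cast hk1
  have hsq : (k : ℤ) * k ≤ (r * y) * (r * y) := mul_le_mul hry hry hkpos.le (by positivity)
  by_cases hy2 : y = 1
  · subst hy2
    have : eps = 1 := by rcases heps with e | e <;> omega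
    subst this
    push_cast at hB hsq
    nlinarith only [hB, hsq, hkpos]
  · have hyz : (2 : ℤ) ≤ y := by exact_mod_cast (show 2 ≤ y by omega)
    have h5 : 5 * ((y : ℤ) * y) ≤ (4 * y + eps) * (2 * y + eps) := by
      rcases heps with rfl | rfl <;> nlinarith only [hyz]
    have h6 := mul_le_mul_of_nonneg_left h5 (mul_self_nonneg (r : ℤ))
    rw [hB] at h6
    have e : (r : ℤ) * r * (5 * ((y : ℤ) * y)) = 5 * ((r : ℤ) * y * ((r : ℤ) * y)) := by ring
    linarith only [h6, e, hsq, mul_self_nonneg ((r : ℤ) * y)]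

variable {X : Type u} [Group X] [Finite X] {Δ : Type v} [Finite Δ] [MulAction X Δ] [FaithfulSMul X Δ]
variable {a b : Δ} {s : X}

/-- A four group of conjugates of `s` fixing the point `a`, and its maximality. -/
theorem TwoHyp.four_at_point (H : TwoHyp X a b s) (hodd : Odd (fixedBy Δ s).ncard) :
    ∃ y₀ : X, y₀ * y₀ = 1 ∧ y₀ * s = s * y₀ ∧ y₀ • a = a ∧ y₀ ≠ 1 ∧ y₀ ≠ s ∧
      ∀ x : X, x • a = a → x * s = s * x → (x * x = 1 ∨ x * x = s) →
        x = 1 ∨ x = s ∨ x = y₀ ∨ x = y₀ * s := by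
  classical
  obtain ⟨y, g, hy, hya, hyb⟩ := H.exists_swap
  have y2 := H.conjSet_sq hy
  obtain ⟨hys, -⟩ := H.swap_cases y2 hya hyb
  haveI : Fintype ↥(fixedBy Δ s) := Fintype.ofFinite _
  let Y := fixGroup Δ s
  have hyc : y ∈ Subgroup.centralizer ({s} : Set X) := Subgroup.mem_centralizer_singleton_iff.mpr hys
  -- a fixed point of `y` among those of `s`
  obtain ⟨e, he⟩ : ∃ e : ↥(fixedBy Δ s), toFix Δ s ⟨y, hyc⟩ • e = e := by
    by_contra h
    push Not at h
    have hev := fix_parity (Δ := ↥(fixedBy Δ s)) (x := toFix Δ s ⟨y, hyc⟩) (by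
      rw [← map_mul, show (⟨y, hyc⟩ : ↥(Subgroup.centralizer ({s} : Set X))) * ⟨y, hyc⟩ = 1 from Subtype.ext y2,
        map_one])
    rw [show fixedBy ↥(fixedBy Δ s) (toFix Δ s ⟨y, hyc⟩) = ∅ from Set.eq_empty_iff_forall_notMem.mpr h,
      Set.ncard_empty, Nat.sub_zero, Nat.card_coe_set_eq] at hev
    exact Nat.not_even_iff_odd.mpr hodd hev
  obtain ⟨e', he', hee'⟩ : ∃ e' ∈ fixedBy Δ s, e' ≠ (e : Δ) := by
    by_contra h
    push Not at h
    have := (Set.ncard_le_one_iff (Set.toFinite _)).mpr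
      fun {c d} (hc : c ∈ fixedBy Δ s) (hd : d ∈ fixedBy Δ s) => (h c hc).trans (h d hd).symm
    have := H.two_le
    omega
  obtain ⟨h, hh1, hh2⟩ := H.two (e : Δ) e' a b (Ne.symm hee') H.ne
  have hhs : h * s * h⁻¹ = s := by
    rcases H.only (h * s * h⁻¹) (by rw [mul_smul, mul_smul, ← hh1, inv_smul_smul, show s • (e : Δ) = e from e.2])
      (by rw [mul_smul, mul_smul, ← hh2, inv_smul_smul, show s • e' = e' from he']) with h' | h'
    · exact absurd (conj_eq_one_iff.mp h') H.ne_one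
    · exact h'
  set y₀ := h * y * h⁻¹ with hy₀
  have hy₀a : y₀ • a = a := by
    rw [hy₀, mul_smul, mul_smul, ← hh1, inv_smul_smul, show y • (e : Δ) = e from congrArg Subtype.val he]
  have hy₀2 : y₀ * y₀ = 1 := by rw [hy₀, conj_mul, y2, mul_one, mul_inv_cancel]
  have hy₀s : y₀ * s = s * y₀ := by
    rw [hy₀]
    nth_rewrite 1 [← hhs]
    nth_rewrite 2 [← hhs]
    rw [conj_mul, conj_mul, hys]
  have hy1 : y ≠ 1 := fun e' => H.ne (((one_smul X a).symm.trans (e' ▸ rfl)).trans hya)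
  have hy₀1 : y₀ ≠ 1 := fun e' => hy1 (conj_eq_one_iff.mp e')
  have hy₀ns : y₀ ≠ s := fun e' => H.ne (by
    have : y = s := mul_left_cancel (mul_right_cancel (e'.trans hhs.symm))
    rw [this, H.fix_a] at hya
    exact hya)
  refine ⟨y₀, hy₀2, hy₀s, hy₀a, hy₀1, hy₀ns, fun x hxa hxs hx2 => ?_⟩
  -- the group on the fixed points of `s` is sharply doubly transitive
  have hxc : x ∈ Subgroup.centralizer ({s} : Set X) := Subgroup.mem_centralizer_singleton_iff.mpr hxs
  have hy₀c : y₀ ∈ Subgroup.centralizer ({s} : Set X) := Subgroup.mem_centralizer_singleton_iff.mpr hy₀s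
  have hker : ∀ z : ↥(Subgroup.centralizer ({s} : Set X)), toFix Δ s z = 1 ↔ (z : X) = 1 ∨ (z : X) = s := by
    intro z
    rw [toFix_eq_one]
    constructor
    · exact fun hz => H.only z (hz a H.fix_a) (hz b H.fix_b)
    · rintro (hz | hz) c hc <;> rw [hz]
      · exact one_smul X c
      · exact hc
  have h2 : TwoTrans ↥(fixGroup Δ s) ↥(fixedBy Δ s) := by
    intro c d c' d' hcd hcd'
    have key : ∀ p q : ↥(fixedBy Δ s), p ≠ q →
        ∃ g ∈ Subgroup.centralizer ({s} : Set X), g • a = p ∧ g • b = q := by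
      intro p q hpq
      obtain ⟨g, hgc, hg⟩ := witt_elem H.two H.ne (t := s) (fun k ha hb => by
        rcases H.only _ ha hb with e | e
        · exact absurd (conj_eq_one_iff.mp e) H.ne_one
        · exact ⟨1, one_smul _ _, one_smul _ _, by simp [e]⟩) (fun e => hpq (Subtype.ext e)) p.2 q.2
      exact ⟨g, Subgroup.mem_centralizer_singleton_iff.mpr hgc, hg⟩
    obtain ⟨g, hg, hga, hgb⟩ := key c d hcd
    obtain ⟨g', hg', hga', hgb'⟩ := key c' d' hcd'
    refine ⟨toFix Δ s ⟨g' * g⁻¹, mul_mem hg' (inv_mem hg)⟩, Subtype.ext ?_, Subtype.ext ?_⟩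
    · rw [toFix_smul, mul_smul, ← hga, inv_smul_smul, hga']
    · rw [toFix_smul, mul_smul, ← hgb, inv_smul_smul, hgb']
  have hsharp : ∀ (z : ↥(fixGroup Δ s)) (c d : ↥(fixedBy Δ s)), c ≠ d → z • c = c → z • d = d → z = 1 := by
    intro z c d hcd hc hd
    obtain ⟨g, rfl⟩ := toFix_surj z
    rw [hker]
    by_cases hg1 : (g : X) = 1
    · exact Or.inl hg1
    · right
      obtain ⟨k, hk1, hk2⟩ := H.two a b c d H.ne (fun e => hcd (Subtype.ext e))
      have h1 : (k⁻¹ * g * k) • a = a := by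
        rw [mul_smul, mul_smul, hk1, show (g : X) • (c : Δ) = c from congrArg Subtype.val hc, ← hk1, inv_smul_smul]
      have h2 : (k⁻¹ * g * k) • b = b := by
        rw [mul_smul, mul_smul, hk2, show (g : X) • (d : Δ) = d from congrArg Subtype.val hd, ← hk2, inv_smul_smul]
      have h3 : (k⁻¹ * s * k) • a = a := by
        rw [mul_smul, mul_smul, hk1, show s • (c : Δ) = c from c.2, ← hk1, inv_smul_smul]
      have h4 : (k⁻¹ * s * k) • b = b := by
        rw [mul_smul, mul_smul, hk2, show s • (d : Δ) = d from d.2, ← hk2, inv_smul_smul]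
      have cg : ∀ z : X, k⁻¹ * z * k = 1 → z = 1 := fun z e => by
        calc z = k * (k⁻¹ * z * k) * k⁻¹ := by group
          _ = 1 := by rw [e]; group
      have e1 := (H.only _ h1 h2).resolve_left (fun e => hg1 (cg _ e))
      have e2 := (H.only _ h3 h4).resolve_left (fun e => H.ne_one (cg _ e))
      exact mul_left_cancel (mul_right_cancel (e1.trans e2.symm))
  have hsq : ∀ (z : ↥(Subgroup.centralizer ({s} : Set X))), (z : X) * z = 1 ∨ (z : X) * z = s →
      toFix Δ s z * toFix Δ s z = 1 := fun z hz => by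
    rw [← map_mul]; exact (hker (z * z)).mpr hz
  by_cases hx1 : toFix Δ s ⟨x, hxc⟩ = 1
  · rcases (hker _).mp hx1 with e' | e'
    · exact Or.inl e'
    · exact Or.inr (Or.inl e')
  · have hy₀bar : toFix Δ s ⟨y₀, hy₀c⟩ ≠ 1 := fun e' => ((hker _).mp e').elim hy₀1 hy₀ns
    have heq := sharp_inv_unique h2 (a := ⟨a, H.fix_a⟩) (b := ⟨b, H.fix_b⟩)
      (fun e' => H.ne (congrArg Subtype.val e')) hsharp (by rw [Nat.card_coe_set_eq]; exact hodd)
      (hsq _ hx2) hx1 (Subtype.ext hxa) (hsq _ (Or.inl hy₀2)) hy₀bar (Subtype.ext hy₀a)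
    have h1 : toFix Δ s (⟨y₀, hy₀c⟩⁻¹ * ⟨x, hxc⟩) = 1 := by
      show (fixHom Δ s).rangeRestrict _ = 1
      rw [map_mul, map_inv]
      exact inv_mul_eq_one.mpr heq.symm
    rcases (hker _).mp h1 with e' | e'
    · exact Or.inr (Or.inr (Or.inl (inv_mul_eq_one.mp e').symm))
    · exact Or.inr (Or.inr (Or.inr (eq_mul_of_inv_mul_eq e')))

set_option maxHeartbeats 800000 in
theorem TwoHyp.no_double (H : TwoHyp X a b s) (hodd : Odd (Nat.card Δ))
    (hdeg : Nat.card Δ + (fixedBy Δ s).ncard = 2 * ((fixedBy Δ s).ncard * (fixedBy Δ s).ncard)) : False := by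
  classical
  haveI : Fact (Nat.Prime 2) := ⟨Nat.prime_two⟩
  set k := (fixedBy Δ s).ncard with hk
  set m := Nat.card Δ with hm
  have hk2 : 2 ≤ k := H.two_le
  have hkodd : Odd k := by
    rw [Nat.odd_iff] at hodd ⊢
    omega
  obtain ⟨y₀, y2, y0s, y0a, y01, y0ns, hmax⟩ := H.four_at_point hkodd
  -- every involution is conjugate to `s`
  have hall : ∀ x : X, x * x = 1 → x ≠ 1 → ∃ g : X, g * s * g⁻¹ = x := by
    obtain ⟨w, hw, hlt, hcase⟩ := H.relation
    rw [← hm, ← hk] at hw
    rw [← hk] at hlt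
    have hw2 : w = 2 := by
      rcases hcase with e | ⟨e, -⟩
      · exact e
      · exfalso
        rw [e, one_mul] at hw
        obtain ⟨k', hk'⟩ : ∃ k', k = k' + 2 := ⟨k - 2, by omega⟩
        rw [hk', show k' + 2 - 1 = k' + 1 by omega] at hw
        rw [hk'] at hdeg hlt
        have e1 : (k' + 2) * (k' + 2) = (k' + 2) * (k' + 1) + (k' + 2) := by ring
        have e2 : 0 < (k' + 2) * (k' + 1) := by positivity
        omega
    obtain ⟨y, g, hy, hya, hyb⟩ := H.exists_swap
    obtain ⟨hys, huniq⟩ := H.swap_cases (H.conjSet_sq hy) hya hyb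
    have hysC : ∃ g, g * s * g⁻¹ = y * s := by
      by_contra hno
      set C : Set X := {x | ∃ g : X, g * s * g⁻¹ = x} with hC
      have hCc : ∀ g x : X, x ∈ C → g * x * g⁻¹ ∈ C := by
        rintro g x ⟨j, rfl⟩
        exact ⟨g * j, by group⟩
      have hfix := fix_count H.two H.ne C hCc (fun x hx => H.fix_conj hx.choose_spec)
      have hswap := swap_count H.two H.ne C hCc (fun x hx => H.conjSet_sq hx.choose_spec)
        (fun x hx => H.fix_conj hx.choose_spec)
      have h1 : {x : X | x ∈ C ∧ x • a = a ∧ x • b = b}.ncard = 1 := by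
        rw [Set.ncard_eq_one]
        refine ⟨s, Set.eq_singleton_iff_unique_mem.mpr ⟨⟨⟨1, by group⟩, H.fix_a, H.fix_b⟩, ?_⟩⟩
        rintro x ⟨hx, ha, hb⟩
        exact (H.only x ha hb).resolve_left (fun e => by
          obtain ⟨j, hj⟩ := hx
          exact H.ne_one (conj_eq_one_iff.mp (hj.trans e)))
      have h2 : {x : X | x ∈ C ∧ x • a = b ∧ x • b = a}.ncard = 1 := by
        rw [Set.ncard_eq_one]
        refine ⟨y, Set.eq_singleton_iff_unique_mem.mpr ⟨⟨⟨g, hy⟩, hya, hyb⟩, ?_⟩⟩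
        rintro x ⟨hx, ha, hb⟩
        exact (huniq x ha hb).resolve_right (fun e => hno (e ▸ hx))
      rw [h1, ← hk, ← hm] at hfix
      rw [h2, ← hk, ← hm, ← hfix] at hswap
      have hpos : 0 < C.ncard := (Set.ncard_pos (Set.toFinite _)).mpr ⟨s, 1, by group⟩
      have h3 := Nat.eq_of_mul_eq_mul_left hpos hswap
      rw [h3, hw2] at hw
      have : 0 < k * (k - 1) := Nat.mul_pos (by omega) (by omega)
      omega
    intro x x2 x1
    obtain ⟨c, hc⟩ : ∃ c : Δ, x • c ≠ c := by
      by_contra h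
      push Not at h
      exact x1 (eq_of_smul_eq_smul (α := Δ) fun c => by rw [h c, one_smul])
    obtain ⟨j, hj1, hj2⟩ := H.two c (x • c) a b (fun e => hc e.symm) H.ne
    have hsw1 : (j * x * j⁻¹) • a = b := by rw [mul_smul, mul_smul, ← hj1, inv_smul_smul, hj2]
    have hsw2 : (j * x * j⁻¹) • b = a := by
      rw [mul_smul, mul_smul, ← hj2, inv_smul_smul, ← mul_smul x x, x2, one_smul, hj1]
    rcases huniq _ hsw1 hsw2 with e | e
    · exact ⟨j⁻¹ * g, by rw [show j⁻¹ * g * s * (j⁻¹ * g)⁻¹ = j⁻¹ * (g * s * g⁻¹) * j by group, hy, ← e]; group⟩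
    · obtain ⟨g', hg'⟩ := hysC
      exact ⟨j⁻¹ * g', by rw [show j⁻¹ * g' * s * (j⁻¹ * g')⁻¹ = j⁻¹ * (g' * s * g'⁻¹) * j by group, hg', ← e]; group⟩
  -- transport to the base point
  have hmove : ∀ c c' : Δ, c ≠ c' → ∀ r : X, r ≠ 1 → r • c = c → r • c' = c' →
      ∃ g : X, g • c = a ∧ g * r * g⁻¹ = s := by
    intro c c' hcc r r1 hc hc'
    obtain ⟨g, hg1, hg2⟩ := H.two c c' a b hcc H.ne
    refine ⟨g, hg1, (H.only _ (by rw [mul_smul, mul_smul, ← hg1, inv_smul_smul, hc])
      (by rw [mul_smul, mul_smul, ← hg2, inv_smul_smul, hc'])).resolve_left fun e => r1 (conj_eq_one_iff.mp e)⟩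
  have hother : ∀ (r : X) (c : Δ), r * r = 1 → r ≠ 1 → r • c = c → ∃ c', c' ≠ c ∧ r • c' = c' := by
    intro r c r2 r1 hc
    obtain ⟨g, hg⟩ := hall r r2 r1
    by_contra h
    push Not at h
    have h1 : (fixedBy Δ r).ncard ≤ 1 := (Set.ncard_le_one_iff (Set.toFinite _)).mpr fun {p q} (hp : r • p = p) (hq : r • q = q) =>
      (by_contra fun e => h p e hp : p = c).trans (by_contra fun e => h q e hq : q = c).symm
    rw [H.fix_conj hg, ← hk] at h1
    omega
  -- no elements of order four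
  have hnofour : ∀ x : X, x * x * (x * x) = 1 → x * x = 1 := by
    intro x hx
    by_contra hne
    obtain ⟨g, hg⟩ := hall _ hx hne
    set x' := g⁻¹ * x * g with hx'
    have hx2 : x' * x' = s := by
      rw [hx', show g⁻¹ * x * g * (g⁻¹ * x * g) = g⁻¹ * (x * x) * g by group, ← hg]; group
    have hxs : x' * s = s * x' := by rw [← hx2]; group
    obtain ⟨e, he⟩ : ∃ e ∈ fixedBy Δ s, x' • e = e := by
      by_contra h
      push Not at h
      have hc : x' ∈ Subgroup.centralizer ({s} : Set X) := Subgroup.mem_centralizer_singleton_iff.mpr hxs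
      have hev := fix_parity (Δ := ↥(fixedBy Δ s)) (x := toFix Δ s ⟨x', hc⟩) (by
        rw [← map_mul]
        exact toFix_eq_one.mpr fun c hc' => (congrArg (· • c) hx2).trans hc')
      rw [show fixedBy ↥(fixedBy Δ s) (toFix Δ s ⟨x', hc⟩) = ∅ from
        Set.eq_empty_iff_forall_notMem.mpr fun p hp => h p p.2 (congrArg Subtype.val hp),
        Set.ncard_empty, Nat.sub_zero, Nat.card_coe_set_eq] at hev
      exact Nat.not_even_iff_odd.mpr hkodd hev
    obtain ⟨hes, hex⟩ := he
    obtain ⟨e', hee', he'⟩ := hother s e H.sq H.ne_one hes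
    obtain ⟨h, hh, hhs⟩ := hmove e e' (Ne.symm hee') s H.ne_one hes he'
    set x'' := h * x' * h⁻¹ with hx''
    have h1 : x'' • a = a := by rw [hx'', mul_smul, mul_smul, ← hh, inv_smul_smul, hex]
    have h2 : x'' * x'' = s := by rw [hx'', conj_mul, hx2, hhs]
    have h3 : x'' * s = s * x'' := by rw [← h2]; group
    have hsq1 : x'' * x'' = 1 := by
      rcases hmax x'' h1 h3 (Or.inr h2) with e | e | e | e <;> rw [e]
      · exact one_mul 1
      · exact H.sq
      · exact y2
      · rw [y0s, mul_assoc, ← mul_assoc y₀ s y₀, y0s, mul_assoc s y₀ y₀, y2, mul_one, H.sq]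
    exact H.ne_one (h2.symm.trans hsq1)
  -- no subgroup of order eight
  have h8 : ¬ 8 ∣ Nat.card X := by
    intro h
    obtain ⟨P, hP⟩ := Sylow.exists_subgroup_card_pow_prime 2 (show 2 ^ 3 ∣ Nat.card X from h)
    have hsqP : ∀ x ∈ P, x * x = 1 := by
      intro x hx
      have h8 : x ^ 8 = 1 := by
        have h1 : (⟨x, hx⟩ : P) ^ Nat.card P = 1 := pow_card_eq_one'
        rw [hP] at h1
        exact congrArg Subtype.val h1
      refine hnofour x (hnofour (x * x) ?_)
      rw [← h8]; simp only [pow_succ, pow_zero, one_mul, mul_assoc]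
    obtain ⟨c, hc⟩ := (IsPGroup.of_card hP : IsPGroup 2 P).nonempty_fixed_point_of_prime_not_dvd_card Δ
      (fun h2 => Nat.not_even_iff_odd.mpr hodd (even_iff_two_dvd.mpr h2))
    obtain ⟨r, hr, r1⟩ : ∃ r ∈ P, r ≠ 1 := by
      by_contra h'
      push Not at h'
      have : P = ⊥ := (Subgroup.eq_bot_iff_forall _).mpr h'
      rw [this, Subgroup.card_bot] at hP
      norm_num at hP
    obtain ⟨c', hcc', hc'⟩ := hother r c (hsqP r hr) r1 (hc ⟨r, hr⟩)
    obtain ⟨g, hg, hgr⟩ := hmove c c' (Ne.symm hcc') r r1 (hc ⟨r, hr⟩) hc'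
    have hsub : (P : Set X) ⊆ (fun x => g⁻¹ * x * g) '' ({1, s, y₀, y₀ * s} : Set X) := by
      intro p hp
      refine ⟨g * p * g⁻¹, ?_, by group⟩
      refine hmax _ (by rw [mul_smul, mul_smul, ← hg, inv_smul_smul, show p • c = c from hc ⟨p, hp⟩]) ?_
        (Or.inl (by rw [conj_mul, hsqP p hp, mul_one, mul_inv_cancel]))
      rw [← hgr, conj_mul, conj_mul, four_comm' hsqP hp hr]
    have h4 := (Set.ncard_le_ncard hsub (Set.toFinite _)).trans ((Set.ncard_image_le (Set.toFinite _)).trans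
      ((Set.ncard_insert_le _ _).trans (Nat.succ_le_succ ((Set.ncard_insert_le _ _).trans
        (Nat.succ_le_succ ((Set.ncard_insert_le _ _).trans (by rw [Set.ncard_singleton])))))))
    rw [← Nat.card_coe_set_eq, show Nat.card ↥(P : Set X) = Nat.card P from rfl, hP] at h4
    norm_num at h4
  -- the four group at `a`
  have hsy : s * y₀ ≠ 1 := fun e => y0ns (by
    rw [eq_inv_of_mul_eq_one_right e, inv_eq_of_mul_eq_one_left H.sq])
  let V : Subgroup X :=
    { carrier := {x | x = 1 ∨ x = s ∨ x = y₀ ∨ x = s * y₀}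
      one_mem' := Or.inl rfl
      mul_mem' := by
        have e1 : y₀ * (s * y₀) = s := by rw [← mul_assoc, y0s, mul_assoc, y2, mul_one]
        have e2 : s * (s * y₀) = y₀ := by rw [← mul_assoc, H.sq, one_mul]
        have e3 : s * y₀ * s = y₀ := by rw [mul_assoc, y0s, e2]
        have e4 : s * y₀ * y₀ = s := by rw [mul_assoc, y2, mul_one]
        have e5 : s * y₀ * (s * y₀) = 1 := by rw [mul_assoc, e1, H.sq]
        rintro p q (rfl | rfl | rfl | rfl) (rfl | rfl | rfl | rfl) <;>
          simp [H.sq, y2, y0s, e1, e2, e3, e4, e5]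
      inv_mem' := by
        rintro p (rfl | rfl | rfl | rfl)
        · exact Or.inl inv_one
        · exact Or.inr (Or.inl (inv_eq_of_mul_eq_one_left H.sq))
        · exact Or.inr (Or.inr (Or.inl (inv_eq_of_mul_eq_one_left y2)))
        · refine Or.inr (Or.inr (Or.inr (inv_eq_of_mul_eq_one_left ?_)))
          rw [mul_assoc, ← mul_assoc y₀ s, y0s, mul_assoc, y2, mul_one, H.sq] }
  have hVmem : ∀ x, x ∈ V ↔ x = 1 ∨ x = s ∨ x = y₀ ∨ x = s * y₀ := fun x => Iff.rfl
  have hVsq : ∀ v ∈ V, v * v = 1 := by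
    rintro v (rfl | rfl | rfl | rfl)
    · exact one_mul 1
    · exact H.sq
    · exact y2
    · rw [mul_assoc, ← mul_assoc y₀ s, y0s, mul_assoc, y2, mul_one, H.sq]
  have hVcard : Nat.card V = 4 := by
    show Nat.card ↥({1, s, y₀, s * y₀} : Set X) = 4
    rw [Nat.card_coe_set_eq, Set.ncard_insert_of_notMem (by simp [H.ne_one.symm, y01.symm, hsy.symm]),
      Set.ncard_insert_of_notMem (by simp [Ne.symm y0ns, y01]),
      Set.ncard_insert_of_notMem (by simp [H.ne_one]), Set.ncard_singleton]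
  have hVonly : ∀ c : Δ, s • c = c → y₀ • c = c → c = a := by
    intro c hcs hcy
    by_contra hca
    obtain ⟨g, hg1, hg2⟩ := H.two c a a b hca H.ne
    have e1 := (H.only (g * s * g⁻¹) (by rw [mul_smul, mul_smul, ← hg1, inv_smul_smul, hcs])
      (by rw [mul_smul, mul_smul, ← hg2, inv_smul_smul, H.fix_a])).resolve_left
      fun e => H.ne_one (conj_eq_one_iff.mp e)
    have e2 := (H.only (g * y₀ * g⁻¹) (by rw [mul_smul, mul_smul, ← hg1, inv_smul_smul, hcy])
      (by rw [mul_smul, mul_smul, ← hg2, inv_smul_smul, y0a])).resolve_left fun e => y01 (conj_eq_one_iff.mp e)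
    exact y0ns (mul_left_cancel (mul_right_cancel (e2.trans e1.symm)))
  -- no transitive normal subgroup of odd order
  have hnoO : ∀ O : Subgroup X, O.Normal → Odd (Nat.card O) → O = ⊥ := by
    intro O hO hOodd
    by_contra hne
    haveI := hO
    have htr : ∀ c d : Δ, ∃ x ∈ O, x • c = d := by
      haveI : IsPreprimitive X Δ := isPreprimitive_of_is_two_pretransitive
        (is_two_pretransitive_iff.mpr fun hab hcd => H.two _ _ _ _ hab hcd)
      have hfne : fixedPoints O Δ ≠ Set.univ := fun h => hne ((Subgroup.eq_bot_iff_forall _).mpr fun n hn =>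
        eq_of_smul_eq_smul (α := Δ) fun c => by
          rw [one_smul]; exact (h ▸ Set.mem_univ c : c ∈ fixedPoints O Δ) ⟨n, hn⟩)
      haveI := IsQuasiPreprimitive.isPretransitive_of_normal (G := X) hfne
      intro c d
      obtain ⟨x, hx⟩ := exists_smul_eq O c d
      exact ⟨x, x.2, hx⟩
    obtain ⟨P, p, j, hPn, hp, -, hmP, hPc, hPtr, hPreg, -, -⟩ := affine_of_semi H.two H.ne O htr
      fun x hx c d hcd hc hd => by
        by_contra x1
        obtain ⟨g, hg⟩ := H.of_fix hcd hc hd x1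
        have h2 : orderOf x = 2 := orderOf_eq_prime (by rw [pow_two, H.conjSet_sq hg]) x1
        exact absurd (hOodd.of_dvd_nat (h2 ▸ Subgroup.orderOf_dvd_natCard O hx)) (by decide)
    haveI := hPn
    have hPodd : Odd (Nat.card P) := by rw [hPc, ← hmP]; exact hodd
    have hform := four_formula hPodd H.sq y2 y0s.symm H.ne_one y01 (Ne.symm y0ns)
      (fun x hx => hPn.conj_mem x hx s) (fun x hx => hPn.conj_mem x hx y₀) hVmem
    have hd1 : Nat.card ↥(P ⊓ Subgroup.centralizer (V : Set X)) = 1 := by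
      rw [Subgroup.card_eq_one, Subgroup.eq_bot_iff_forall]
      rintro x ⟨hxP, hxC⟩
      refine hPreg x hxP a (hVonly _ ?_ ?_)
      · rw [← mul_smul, Subgroup.mem_centralizer_iff.mp hxC s (Or.inr (Or.inl rfl)), mul_smul, H.fix_a]
      · rw [← mul_smul, Subgroup.mem_centralizer_iff.mp hxC y₀ (Or.inr (Or.inr (Or.inl rfl))), mul_smul, y0a]
    obtain ⟨g₁, hg₁⟩ := hall y₀ y2 y01
    obtain ⟨g₂, hg₂⟩ := hall (s * y₀) (hVsq _ (Or.inr (Or.inr (Or.inr rfl)))) hsy
    rw [hd1, card_cent_regular P hPtr hPreg H.fix_a, card_cent_regular P hPtr hPreg y0a,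
      card_cent_regular P hPtr hPreg (show (s * y₀) • a = a by rw [mul_smul, y0a, H.fix_a]),
      H.fix_conj hg₁, H.fix_conj hg₂, ← hk, hPc, ← hmP, one_pow, mul_one] at hform
    rw [← hm] at hform
    rw [hform] at hdeg
    nlinarith [Nat.mul_le_mul hk2 hk2, hdeg, hk2]
  -- the perfect residual contains the four group
  obtain ⟨n, hn⟩ := CfsgLib.GW.exists_perfect_derived X
  haveI := hn
  set L := derivedSeries X n with hL
  haveI hLn : L.Normal := derivedSeries_normal X n
  have hLne : L ≠ ⊥ := by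
    intro hbot
    have hex : ∃ j, derivedSeries X j = ⊥ := ⟨n, hbot⟩
    obtain ⟨j, hj⟩ : ∃ j, Nat.find hex = j + 1 := by
      refine ⟨Nat.find hex - 1, (Nat.succ_pred_eq_of_pos (Nat.pos_of_ne_zero fun h => ?_)).symm⟩
      have := Nat.find_spec hex
      rw [h, derivedSeries_zero] at this
      have h1 : s ∈ (⊥ : Subgroup X) := this ▸ Subgroup.mem_top s
      exact H.ne_one (Subgroup.mem_bot.mp h1)
    have hbot' : derivedSeries X (j + 1) = ⊥ := hj ▸ Nat.find_spec hex
    have hne : derivedSeries X j ≠ ⊥ := Nat.find_min hex (by omega)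
    haveI : (derivedSeries X j).Normal := derivedSeries_normal X j
    haveI : IsPreprimitive X Δ := isPreprimitive_of_is_two_pretransitive
      (is_two_pretransitive_iff.mpr fun hab hcd => H.two _ _ _ _ hab hcd)
    have hfne : fixedPoints (derivedSeries X j) Δ ≠ Set.univ := fun h =>
      hne ((Subgroup.eq_bot_iff_forall _).mpr fun w hw => eq_of_smul_eq_smul (α := Δ) fun c => by
        rw [one_smul]; exact (h ▸ Set.mem_univ c : c ∈ fixedPoints (derivedSeries X j) Δ) ⟨w, hw⟩)
    haveI := IsQuasiPreprimitive.isPretransitive_of_normal (G := X) hfne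
    have hcomm : ∀ u ∈ derivedSeries X j, ∀ w ∈ derivedSeries X j, u * w = w * u := by
      intro u hu w hw
      have h1 : ⁅u, w⁆ ∈ derivedSeries X (j + 1) := by
        rw [derivedSeries_succ]; exact Subgroup.commutator_mem_commutator hu hw
      rw [hbot', Subgroup.mem_bot] at h1
      exact commutatorElement_eq_one_iff_mul_comm.mp h1
    have hreg : ∀ u ∈ derivedSeries X j, ∀ c : Δ, u • c = c → u = 1 := by
      intro u hu c hc
      refine eq_of_smul_eq_smul (α := Δ) fun d => ?_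
      obtain ⟨⟨w, hw⟩, rfl⟩ := exists_smul_eq (derivedSeries X j) c d
      show u • w • c = (1 : X) • w • c
      rw [one_smul, ← mul_smul, hcomm u hu w hw, mul_smul, hc]
    refine hne (hnoO _ inferInstance ?_)
    have hcard : Nat.card (derivedSeries X j) = Nat.card Δ :=
      Nat.card_eq_of_bijective (fun w : derivedSeries X j => (w : X) • a)
        ⟨fun w w' e => Subtype.ext (inv_mul_eq_one.mp (hreg _ (mul_mem (inv_mem w'.2) w.2) a
          (by rw [mul_smul, show (w : X) • a = (w' : X) • a from e, inv_smul_smul]))).symm,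
        fun c => exists_smul_eq (derivedSeries X j) a c⟩
    rw [hcard]; exact hodd
  have hVL : V ≤ L := by
    have heven : 2 ∣ Nat.card L := even_iff_two_dvd.mp (Nat.not_odd_iff_even.mp fun h => hLne (hnoO L hLn h))
    obtain ⟨r, hr⟩ := exists_prime_orderOf_dvd_card' 2 heven
    rw [← Subgroup.orderOf_coe] at hr
    have hr2 : (r : X) * r = 1 := by rw [← pow_two, ← hr, pow_orderOf_eq_one]
    obtain ⟨g, hg⟩ := hall r hr2 (fun e => by rw [e, orderOf_one] at hr; norm_num at hr)
    intro v hv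
    by_cases v1 : v = 1
    · exact v1 ▸ one_mem L
    obtain ⟨g', hg'⟩ := hall v (hVsq v hv) v1
    have : v = (g' * g⁻¹) * r * (g' * g⁻¹)⁻¹ := by rw [← hg, ← hg']; group
    exact this ▸ hLn.conj_mem _ r.2 _
  obtain ⟨q, y, c, d, f, O, hq3, -, hqy, hO, -, hdc, hd, hf, hcardX, hcent, hnorm⟩ :=
    numerics_of_perfect (t := s) hVcard hVsq h8 L hVL (Or.inr (Or.inl rfl)) H.ne_one
  -- the normaliser of the four group fixes `a`
  have hNa : Subgroup.normalizer (V : Set X) ≤ stabilizer X a := by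
    intro g hg
    have hfix : ∀ v ∈ V, v • g • a = g • a := fun v hv => by
      have hv' := (Subgroup.mem_normalizer_iff''.mp hg v).mp hv
      have : (g⁻¹ * v * g) • a = a := by
        rcases hv' with e | e | e | e <;> rw [e]
        · exact one_smul X a
        · exact H.fix_a
        · exact y0a
        · rw [mul_smul, y0a, H.fix_a]
      rw [mul_smul, mul_smul, inv_smul_eq_iff] at this
      exact this
    exact hVonly _ (hfix s (Or.inr (Or.inl rfl))) (hfix y₀ (Or.inr (Or.inr (Or.inl rfl))))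
  have hle : Nat.card ↥(Subgroup.normalizer (V : Set X)) ≤ 3 * ((k - 1) * 2) := by
    rw [hk, ← H.card_cent.2]
    let φ : ↥(Subgroup.normalizer (V : Set X)) →
        {x : X // x ∈ ({s, y₀, s * y₀} : Set X)} := fun g =>
      ⟨(g : X) * s * (g : X)⁻¹, by
        have h := (Subgroup.mem_normalizer_iff.mp g.2 s).mp (Or.inr (Or.inl rfl))
        exact h.resolve_left fun e => H.ne_one (conj_eq_one_iff.mp e)⟩
    haveI : Fintype ↥(Subgroup.normalizer (V : Set X)) := Fintype.ofFinite _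
    haveI : Fintype {x : X // x ∈ ({s, y₀, s * y₀} : Set X)} := Fintype.ofFinite _
    have h3 : Fintype.card {x : X // x ∈ ({s, y₀, s * y₀} : Set X)} ≤ 3 := by
      rw [← Nat.card_eq_fintype_card]
      refine (Nat.card_coe_set_eq ({s, y₀, s * y₀} : Set X)).le.trans ?_
      exact (Set.ncard_insert_le _ _).trans (Nat.succ_le_succ ((Set.ncard_insert_le _ _).trans
        (by rw [Set.ncard_singleton])))
    rw [Nat.card_eq_fintype_card]
    refine (Finset.card_le_mul_card_image (s := (Finset.univ : Finset ↥(Subgroup.normalizer (V : Set X))))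
      (f := φ) (Nat.card ↥(Subgroup.centralizer ({s} : Set X) ⊓ stabilizer X a)) fun x _ => ?_).trans ?_
    · rw [← Nat.card_eq_finsetCard]
      by_cases hx : ∃ g, φ g = x
      · obtain ⟨g₀, hg₀⟩ := hx
        refine Nat.card_le_card_of_injective (fun g => ⟨(g₀ : X)⁻¹ * ((g : ↥(Subgroup.normalizer (V : Set X))) : X),
          ?_, (stabilizer X a).mul_mem ((stabilizer X a).inv_mem (hNa g₀.2)) (hNa g.1.2)⟩) fun g g' e => ?_
        · have e1 := congrArg Subtype.val ((Finset.mem_filter.mp g.2).2.trans hg₀.symm)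
          refine Subgroup.mem_centralizer_singleton_iff.mpr ?_
          have e2 : ((g₀ : X)⁻¹ * g.1) * s * ((g₀ : X)⁻¹ * g.1)⁻¹ = s := by
            rw [show ((g₀ : X)⁻¹ * g.1) * s * ((g₀ : X)⁻¹ * g.1)⁻¹ = (g₀ : X)⁻¹ * ((g.1 : X) * s * (g.1 : X)⁻¹) * g₀
              by group, show (g.1 : X) * s * (g.1 : X)⁻¹ = (g₀ : X) * s * (g₀ : X)⁻¹ from e1]
            group
          exact mul_inv_eq_iff_eq_mul.mp e2
        · exact Subtype.ext (Subtype.ext (mul_left_cancel (congrArg Subtype.val e)))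
      · rw [Nat.card_eq_finsetCard, Finset.filter_false_of_mem fun g _ e => hx ⟨g, e⟩]
        simp
    · rw [mul_comm]
      exact Nat.mul_le_mul_right _ ((Finset.card_le_univ _).trans h3)
  obtain ⟨r, rfl⟩ := hdc
  have hOeq : O = r * r * r * d := Nat.eq_of_mul_eq_mul_right (pow_pos hd 2) (by rw [hO]; ring)
  rw [hnorm] at hle
  rw [H.card_cent.1, ← hk] at hcent
  rw [H.card_group.1, ← hm, hOeq] at hcardX
  exact double_arith hodd hk2 hdeg hq3 hqy hd hf hcardX hcent hle

end CfsgLib.StabAlt5
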