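import Mathlib

/-!
The Diophantine condition in the case of even degree.
-/

set_option autoImplicit false

namespace CfsgLib.StabAlt5

theorem not_primePow_twentyOne : ¬ IsPrimePow 21 := by
  intro h
  obtain ⟨p, k, hp, hk, he⟩ := (isPrimePow_nat_iff _).mp h
  have h3 : p = 3 := ((Nat.prime_dvd_prime_iff_eq (by norm_num) hp).mp
    ((Nat.Prime.dvd_of_dvd_pow (by norm_num : Nat.Prime 3) (by rw [he]; norm_num)))).symm
  have h7 : p = 7 := ((Nat.prime_dvd_prime_iff_eq (by norm_num) hp).mp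
    ((Nat.Prime.dvd_of_dvd_pow (by norm_num : Nat.Prime 7) (by rw [he]; norm_num)))).symm
  omega

/-- The equation in the shape `k²`. -/
theorem solve_square {w r y : ℕ} (hw : w = 1 ∨ w = 10 ∨ w = 15 ∨ w = 16) (hr : Odd r) (hy : Odd y)
    (eps : ℤ) (he : eps = 1 ∨ eps = -1)
    (h : (r : ℤ) * r * (8 * y * y + 6 * eps * y + 1) = w * (r * y - 1) * (r * y - 1) + 15) :
    (r * y = 1) ∨ (w = 10 ∧ r = 1 ∧ y = 3 ∧ eps = -1) ∨ (w = 10 ∧ r = 5 ∧ y = 5 ∧ eps = 1) ∨
      (w = 16 ∧ r = 31 ∧ y = 1 ∧ eps = 1) := by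
  have hd : r ∣ w + 15 := by
    have : (r : ℤ) ∣ ((w + 15 : ℕ) : ℤ) :=
      ⟨r * (8 * y * y + 6 * eps * y + 1) - w * y * (r * y - 2), by push_cast; linear_combination -h⟩
    exact_mod_cast this
  have hle : r ≤ 31 := (Nat.le_of_dvd (by omega) hd).trans (by omega)
  obtain ⟨j, rfl⟩ := hr
  obtain ⟨i, rfl⟩ := hy
  have hj : j ≤ 15 := by omega
  rcases hw with rfl | rfl | rfl | rfl <;> interval_cases j <;> (norm_num at hd) <;>
    rcases he with rfl | rfl <;>
    · push_cast at h
      have hi : i ≤ 6 := by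
        by_contra hi
        push Not at hi
        have hi' : (7 : ℤ) ≤ i := by exact_mod_cast hi
        nlinarith
      interval_cases i <;> omega

/-- The equation in the shape `2k² - k`. -/
theorem solve_double {w r y : ℕ} (hw : w = 1 ∨ w = 10 ∨ w = 15 ∨ w = 16) (hr : Odd r) (hy : Odd y)
    (eps : ℤ) (he : eps = 1 ∨ eps = -1)
    (h : 2 * (r : ℤ) * r * (8 * y * y + 6 * eps * y + 1) = w * (r * y - 1) * (r * y - 2) + 30) :
    (r * y = 1) ∨ (w = 10 ∧ r = 5 ∧ y = 1 ∧ eps = -1) := by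
  have hd : r ∣ 2 * w + 30 := by
    have : (r : ℤ) ∣ ((2 * w + 30 : ℕ) : ℤ) :=
      ⟨2 * r * (8 * y * y + 6 * eps * y + 1) - w * y * (r * y - 3), by push_cast; linear_combination -h⟩
    exact_mod_cast this
  have hle : r ≤ 62 := (Nat.le_of_dvd (by omega) hd).trans (by omega)
  obtain ⟨j, rfl⟩ := hr
  obtain ⟨i, rfl⟩ := hy
  have hj : j ≤ 30 := by omega
  rcases hw with rfl | rfl | rfl | rfl <;> interval_cases j <;> (norm_num at hd) <;>
    rcases he with rfl | rfl <;>
    · push_cast at h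
      have hi : i ≤ 6 := by
        by_contra hi
        push Not at hi
        have hi' : (7 : ℤ) ≤ i := by exact_mod_cast hi
        nlinarith
      interval_cases i <;> omega

/-- All solutions of the numerical conditions in even degree. -/
theorem even_arith {w q y r D m k : ℕ} (hw : w = 1 ∨ w = 10 ∨ w = 15 ∨ w = 16) (hq : 3 < q)
    (hqp : IsPrimePow q) (hqy : q = 4 * y + 1 ∨ q + 1 = 4 * y) (hy : Odd y) (hr : Odd r) (hD : 0 < D)
    (hm : m = r * D * y + 1) (hk : k = D + 1) (hforms : m = k ∨ m = k * k ∨ m + k = 2 * (k * k))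
    (heq : r * r * (q * (q ^ 2 - 1)) = 8 * y * (w * m + 15)) :
    (w = 10 ∧ q = 11 ∧ r = 1 ∧ D = 1 ∧ m = 4 ∧ k = 2) ∨
      (w = 16 ∧ q = 5 ∧ r = 31 ∧ D = 29 ∧ m = 900 ∧ k = 30) := by
  obtain ⟨eps, he, hq'⟩ : ∃ eps : ℤ, (eps = 1 ∨ eps = -1) ∧ (q : ℤ) = 4 * y + eps := by
    rcases hqy with h | h
    · exact ⟨1, Or.inl rfl, by omega⟩
    · exact ⟨-1, Or.inr rfl, by omega⟩
  have hy0 : 0 < y := hy.pos
  have hes : eps * eps = 1 := by rcases he with rfl | rfl <;> norm_num
  have h1q : 1 ≤ q ^ 2 := Nat.one_le_pow _ _ (by omega)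
  have heqz : (r : ℤ) * r * ((q : ℤ) * ((q : ℤ) ^ 2 - 1)) = 8 * (y : ℤ) * ((w : ℤ) * m + 15) := by
    have := congrArg (fun z : ℕ => (z : ℤ)) heq
    push_cast [h1q] at this
    linear_combination this
  have key : (r : ℤ) * r * (8 * y * y + 6 * eps * y + 1) = (w : ℤ) * m + 15 := by
    refine mul_left_cancel₀ (a := 8 * (y : ℤ)) (by positivity) ?_
    rw [← heqz, hq']
    linear_combination (-(12 * (r : ℤ) * r * y + eps * r * r)) * hes
  rcases hforms with h | h | h
  · -- all of the four group fixes the same points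
    have h1 : r * y = 1 := by
      refine Nat.eq_of_mul_eq_mul_left hD ?_
      have e : r * D * y = D * (r * y) := by ring
      omega
    have hy1 : y = 1 := Nat.eq_one_of_mul_eq_one_left h1
    have hr1 : r = 1 := Nat.eq_one_of_mul_eq_one_right h1
    exfalso
    have hpos : (0 : ℤ) < (w : ℤ) * m := by
      have : 0 < w * m := Nat.mul_pos (by omega) (by omega)
      exact_mod_cast this
    subst hy1 hr1
    rcases he with rfl | rfl <;> norm_num at key <;> omega
  · have hu : r * y = D + 2 := by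
      refine Nat.eq_of_mul_eq_mul_left hD ?_
      have e : r * D * y = D * (r * y) := by ring
      have e2 : k * k = D * (D + 2) + 1 := by rw [hk]; ring
      omega
    have hmz : (m : ℤ) = ((r : ℤ) * y - 1) * ((r : ℤ) * y - 1) := by
      have e : ((r * y : ℕ) : ℤ) = ((D + 2 : ℕ) : ℤ) := by exact_mod_cast hu
      have e1 : (m : ℤ) = ((k * k : ℕ) : ℤ) := by exact_mod_cast h
      push_cast at e e1
      rw [e1, hk, e]; push_cast; ring
    rw [hmz, ← mul_assoc] at key
    rcases solve_square hw hr hy eps he key with e | ⟨rfl, rfl, rfl, rfl⟩ | ⟨rfl, rfl, rfl, rfl⟩ |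
      ⟨rfl, rfl, rfl, rfl⟩
    · omega
    · refine Or.inl ⟨rfl, ?_, rfl, ?_⟩
      · omega
      · have : D = 1 := by omega
        subst this
        omega
    · exfalso
      have : q = 21 := by omega
      exact not_primePow_twentyOne (this ▸ hqp)
    · refine Or.inr ⟨rfl, ?_, rfl, ?_⟩
      · omega
      · have : D = 29 := by omega
        subst this
        omega
  · have hu : r * y = 2 * D + 3 := by
      refine Nat.eq_of_mul_eq_mul_left hD ?_
      have e : r * D * y = D * (r * y) := by ring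
      have e2 : 2 * (k * k) = D * (2 * D + 3) + D + 2 := by rw [hk]; ring
      omega
    have hmz : 2 * (m : ℤ) = ((r : ℤ) * y - 1) * ((r : ℤ) * y - 2) := by
      have e : ((r * y : ℕ) : ℤ) = ((2 * D + 3 : ℕ) : ℤ) := by exact_mod_cast hu
      have e1 : ((m + k : ℕ) : ℤ) = ((2 * (k * k) : ℕ) : ℤ) := by exact_mod_cast h
      push_cast at e e1
      rw [hk] at e1
      push_cast at e1
      rw [e]
      linear_combination 2 * e1
    have key2 : 2 * (r : ℤ) * r * (8 * y * y + 6 * eps * y + 1) =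
        (w : ℤ) * (r * y - 1) * (r * y - 2) + 30 := by
      linear_combination 2 * key + (w : ℤ) * hmz
    rcases solve_double hw hr hy eps he key2 with e | ⟨rfl, rfl, rfl, rfl⟩
    · omega
    · omega

end CfsgLib.StabAlt5
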