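import Cfsg.Agent.Lib.StabAlt5.Swap

/-!
The possible numbers of conjugates of the involution interchanging the two points.
-/

set_option autoImplicit false
set_option linter.unusedSectionVars false
set_option linter.style.haveILetI false

namespace CfsgLib.StabAlt5

open MulAction

universe u v

variable {G : Type u} [Group G] [Finite G] {Ω : Type v} [Finite Ω] [MulAction G Ω] [FaithfulSMul G Ω]
variable {a b : Ω} {t : G}

/-- The symmetric case: ten conjugates, like transpositions. -/
def CaseTen (t : G) (a b : Ω) : Prop := swapNum t a b = 10 ∧ OuterSwap G a b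

/-- The case in which `t` is conjugate to an involution centralising the two-point stabiliser. -/
def CaseCentral (t : G) (a b : Ω) : Prop :=
  (swapNum t a b = 1 ∨ swapNum t a b = 16) ∧
    ∃ z ∈ conjSet t, Swaps z a b ∧ ∀ y ∈ pairStab G a b, z * y = y * z

/-- The case of fifteen swapping conjugates: one further involution interchanges the points. -/
def CaseFifteen (t : G) (a b : Ω) : Prop :=
  swapNum t a b = 15 ∧ ∃ z : G, z * z = 1 ∧ Swaps z a b ∧ z ∉ conjSet t ∧
    ∀ x : G, x * x = 1 → Swaps x a b → x ∉ conjSet t → x = z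

theorem swap_cases (H : Hyp G a b) (T : InvIn t a b) :
    CaseTen t a b ∨ CaseCentral t a b ∨ CaseFifteen t a b := by
  classical
  have hpos := swapNum_pos H T
  have hclass : ∀ x y : G, x ∈ conjSet t → ∀ u : G, u * x * u⁻¹ = y → y ∈ conjSet t :=
    fun x y hx u hu => hu ▸ conjSet_closed H u x hx
  rcases central_or_outer H with ⟨z, hz, hz2, hzc⟩ | hO
  · right
    obtain ⟨e⟩ := H.iso
    set P := {u : G | u ∈ pairStab G a b ∧ (u * u = 1 ∧ u ≠ 1)} with hP
    have hP15 : P.ncard = 15 := ncard_inv e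
    have hmem : ∀ u ∈ pairStab G a b, u * u = 1 → (z * u) * (z * u) = 1 ∧ Swaps (z * u) a b := fun u hu hu2 => by
      refine ⟨?_, hz.mul_right hu⟩
      rw [mul_assoc, ← mul_assoc u z, ← hzc u hu, mul_assoc, hu2, mul_one, hz2]
    have hchar : ∀ x : G, x * x = 1 → Swaps x a b → x = z ∨ ∃ u ∈ P, z * u = x := by
      intro x hx hsx
      have hu := hz.div_mem hsx
      by_cases h1 : z⁻¹ * x = 1
      · exact Or.inl (inv_mul_eq_one.mp h1).symm
      · refine Or.inr ⟨z⁻¹ * x, ⟨hu, ?_, h1⟩, by simp⟩
        have h := hx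
        rw [show x = z * (z⁻¹ * x) by simp, mul_assoc, ← mul_assoc (z⁻¹ * x) z, ← hzc _ hu, mul_assoc,
          ← mul_assoc z z, hz2, one_mul] at h
        exact h
    have hfuse : ∀ u ∈ P, z * u ∈ conjSet t ↔ z * t ∈ conjSet t := by
      intro u hu
      obtain ⟨g, hg, hgu⟩ := conj_A e T.mem hu.1 T.sq T.ne_one hu.2.1 hu.2.2
      have e1 : g * (z * t) * g⁻¹ = z * u := by
        rw [← mul_assoc, ← hzc g hg, mul_assoc z, mul_assoc z, hgu]
      exact ⟨fun h => hclass _ _ h g⁻¹ (by rw [← e1]; group), fun h => hclass _ _ h g e1⟩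
    have hinj : Set.InjOn (fun u => z * u) P := fun x _ y _ e => mul_left_cancel e
    by_cases hzt : z ∈ conjSet t
    · refine Or.inl ⟨?_, z, hzt, hz, hzc⟩
      by_cases h2 : z * t ∈ conjSet t
      · right
        have heq : {x : G | x ∈ conjSet t ∧ x • a = b ∧ x • b = a} = insert z ((fun u => z * u) '' P) := by
          ext x
          constructor
          · rintro ⟨hx, hs⟩
            rcases hchar x (conjSet_sq H T hx) hs with e | ⟨u, hu, rfl⟩
            · exact Or.inl e
            · exact Or.inr ⟨u, hu, rfl⟩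
          · rintro (rfl | ⟨u, hu, rfl⟩)
            · exact ⟨hzt, hz⟩
            · exact ⟨(hfuse u hu).mpr h2, (hmem u hu.1 hu.2.1).2⟩
        rw [swapNum, heq, Set.ncard_insert_of_notMem ?_, Set.ncard_image_of_injOn hinj, hP15]
        rintro ⟨u, hu, h⟩
        exact hu.2.2 (mul_eq_left.mp h)
      · left
        rw [swapNum, Set.ncard_eq_one]
        refine ⟨z, Set.eq_singleton_iff_unique_mem.mpr ⟨⟨hzt, hz⟩, ?_⟩⟩
        rintro x ⟨hx, hs⟩
        rcases hchar x (conjSet_sq H T hx) hs with e | ⟨u, hu, rfl⟩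
        · exact e
        · exact absurd ((hfuse u hu).mp hx) h2
    · refine Or.inr ?_
      by_cases h2 : z * t ∈ conjSet t
      · refine ⟨?_, z, hz2, hz, hzt, fun x hx hs hn => ?_⟩
        · have heq : {x : G | x ∈ conjSet t ∧ x • a = b ∧ x • b = a} = (fun u => z * u) '' P := by
            ext x
            constructor
            · rintro ⟨hx, hs⟩
              rcases hchar x (conjSet_sq H T hx) hs with e | ⟨u, hu, rfl⟩
              · exact absurd (e ▸ hx) hzt
              · exact ⟨u, hu, rfl⟩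
            · rintro ⟨u, hu, rfl⟩
              exact ⟨(hfuse u hu).mpr h2, (hmem u hu.1 hu.2.1).2⟩
          rw [swapNum, heq, Set.ncard_image_of_injOn hinj, hP15]
        · rcases hchar x hx hs with e | ⟨u, hu, rfl⟩
          · exact e
          · exact absurd ((hfuse u hu).mpr h2) hn
      · exfalso
        obtain ⟨x, hx, hs⟩ := Set.nonempty_of_ncard_ne_zero hpos.ne'
        rcases hchar x (conjSet_sq H T hx) hs with e | ⟨u, hu, rfl⟩
        · exact hzt (e ▸ hx)
        · exact h2 ((hfuse u hu).mp hx)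
  · refine Or.inl ⟨?_, hO⟩
    obtain ⟨x, hx, hs⟩ := Set.nonempty_of_ncard_ne_zero hpos.ne'
    rw [swapNum, ← hO.1]
    congr 1
    ext y
    refine ⟨fun h => ⟨conjSet_sq H T h.1, h.2⟩, fun h => ⟨?_, h.2⟩⟩
    obtain ⟨u, -, hu⟩ := hO.2.1 x y (conjSet_sq H T hx) hs h.1 h.2
    exact hclass x y hx u hu

end CfsgLib.StabAlt5
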