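import Mathlib

/-!
Counting in doubly transitive groups: Witt's lemma, orbit counts and double counting of pairs.
-/

set_option autoImplicit false
set_option linter.unusedSectionVars false
set_option linter.style.haveILetI false

namespace CfsgLib.StabAlt5

open MulAction

universe u v

variable {G : Type u} [Group G] {Ω : Type v} [MulAction G Ω]

/-- Double transitivity. -/
def TwoTrans (G : Type u) (Ω : Type v) [Group G] [MulAction G Ω] : Prop :=
  ∀ a b c d : Ω, a ≠ b → c ≠ d → ∃ g : G, g • a = c ∧ g • b = d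

/-- The common fixed points of a subgroup. -/
def fixPts (Ω : Type v) [MulAction G Ω] (K : Subgroup G) : Set Ω := {c | ∀ x ∈ K, x • c = c}

theorem mem_fixPts {K : Subgroup G} {c : Ω} : c ∈ fixPts Ω K ↔ ∀ x ∈ K, x • c = c := Iff.rfl

theorem smul_mem_fixPts {K : Subgroup G} {g : G} (hg : g ∈ Subgroup.normalizer (K : Set G)) {c : Ω}
    (hc : c ∈ fixPts Ω K) : g • c ∈ fixPts Ω K := fun x hx => by
  have h : g⁻¹ * x * g ∈ K := (Subgroup.mem_normalizer_iff'' (g := g)).mp hg x |>.mp hx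
  have e := hc _ h
  rw [mul_smul, mul_smul, inv_smul_eq_iff] at e
  exact e

/-- Witt's lemma for the centraliser of an element. -/
theorem witt_elem (h2 : TwoTrans G Ω) {a b : Ω} (hab : a ≠ b) {t : G}
    (hfus : ∀ g : G, (g * t * g⁻¹) • a = a → (g * t * g⁻¹) • b = b →
      ∃ h : G, h • a = a ∧ h • b = b ∧ g * t * g⁻¹ = h * t * h⁻¹)
    {c d : Ω} (hcd : c ≠ d) (hc : t • c = c) (hd : t • d = d) :
    ∃ g : G, g * t = t * g ∧ g • a = c ∧ g • b = d := by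
  obtain ⟨g, hga, hgb⟩ := h2 a b c d hab hcd
  have e : ∀ (p q : Ω), g • p = q → t • q = q → (g⁻¹ * t * g⁻¹⁻¹) • p = p := fun p q hp hq => by
    rw [inv_inv, mul_smul, mul_smul, hp, hq, ← hp, inv_smul_smul]
  obtain ⟨h, ha, hb, he⟩ := hfus g⁻¹ (e a c hga hc) (e b d hgb hd)
  rw [inv_inv] at he
  refine ⟨g * h, ?_, by rw [mul_smul, ha, hga], by rw [mul_smul, hb, hgb]⟩
  calc g * h * t = g * (h * t * h⁻¹) * h := by group
    _ = g * (g⁻¹ * t * g) * h := by rw [← he]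
    _ = t * (g * h) := by group

/-- Witt's lemma for the normaliser of a subgroup. -/
theorem witt_subgroup [Finite G] (h2 : TwoTrans G Ω) {a b : Ω} (hab : a ≠ b) {K : Subgroup G}
    (hfus : ∀ g : G, (∀ x ∈ K, (g * x * g⁻¹) • a = a ∧ (g * x * g⁻¹) • b = b) →
      ∃ h : G, h • a = a ∧ h • b = b ∧ ∀ x ∈ K, h⁻¹ * (g * x * g⁻¹) * h ∈ K)
    {c d : Ω} (hcd : c ≠ d) (hc : c ∈ fixPts Ω K) (hd : d ∈ fixPts Ω K) :
    ∃ g ∈ Subgroup.normalizer (K : Set G), g • a = c ∧ g • b = d := by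
  obtain ⟨g, hga, hgb⟩ := h2 a b c d hab hcd
  have e : ∀ (p q : Ω), g • p = q → q ∈ fixPts Ω K → ∀ x ∈ K, (g⁻¹ * x * g⁻¹⁻¹) • p = p :=
    fun p q hp hq x hx => by
      rw [inv_inv, mul_smul, mul_smul, hp, hq x hx, ← hp, inv_smul_smul]
  obtain ⟨h, ha, hb, he⟩ := hfus g⁻¹ fun x hx => ⟨e a c hga hc x hx, e b d hgb hd x hx⟩
  refine ⟨g * h, ?_, by rw [mul_smul, ha, hga], by rw [mul_smul, hb, hgb]⟩
  refine Subgroup.mem_normalizer_iff''.mpr ?_
  have key : ∀ x ∈ K, (g * h)⁻¹ * x * (g * h) ∈ K := fun x hx => by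
    have := he x hx
    rwa [inv_inv, show h⁻¹ * (g⁻¹ * x * g) * h = (g * h)⁻¹ * x * (g * h) by group] at this
  have hs : Function.Surjective fun x : K => (⟨_, key x x.2⟩ : K) :=
    Finite.surjective_of_injective fun x y e => Subtype.ext (by simpa using congrArg Subtype.val e)
  intro x
  refine ⟨key x, fun hx => ?_⟩
  obtain ⟨y, hy⟩ := hs ⟨_, hx⟩
  have e' : (g * h)⁻¹ * (y : G) * (g * h) = (g * h)⁻¹ * x * (g * h) := congrArg Subtype.val hy
  rw [← mul_left_cancel (mul_right_cancel e')]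
  exact y.2

/-- The orbit count of a subgroup transitive on the ordered pairs of an invariant set. -/
theorem card_of_pairs [Finite G] [Finite Ω] (H : Subgroup G) {Δ : Set Ω} {a b : Ω} (ha : a ∈ Δ) (hb : b ∈ Δ)
    (hab : a ≠ b) (hinv : ∀ g ∈ H, ∀ c ∈ Δ, g • c ∈ Δ)
    (htr : ∀ c d : Ω, c ∈ Δ → d ∈ Δ → c ≠ d → ∃ g ∈ H, g • a = c ∧ g • b = d) :
    Nat.card H = Δ.ncard * ((Δ.ncard - 1) * Nat.card ↥(H ⊓ (stabilizer G a ⊓ stabilizer G b))) ∧
      Nat.card ↥(H ⊓ stabilizer G a) = (Δ.ncard - 1) * Nat.card ↥(H ⊓ (stabilizer G a ⊓ stabilizer G b)) := by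
  classical
  have h1 : orbit H a = Δ := by
    ext c
    constructor
    · rintro ⟨g, rfl⟩
      exact hinv g g.2 a ha
    · intro hc
      by_cases e : c = a
      exact e ▸ (mem_orbit_self c : c ∈ orbit H c)
      · by_cases e' : c = b
        · obtain ⟨g, hg, h1, -⟩ := htr b a hb ha (Ne.symm hab)
          exact ⟨⟨g, hg⟩, h1.trans e'.symm⟩
        · obtain ⟨g, hg, h1, -⟩ := htr c b hc hb e'
          exact ⟨⟨g, hg⟩, h1⟩
  have hs1 : Nat.card ↥(stabilizer H a) = Nat.card ↥(H ⊓ stabilizer G a) :=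
    Nat.card_congr
      { toFun := fun x => ⟨(x.1 : G), x.1.2, x.2⟩
        invFun := fun x => ⟨⟨x.1, x.2.1⟩, x.2.2⟩
        left_inv := fun _ => rfl
        right_inv := fun _ => rfl }
  have h2 : orbit ↥(H ⊓ stabilizer G a) b = Δ \ {a} := by
    ext c
    constructor
    · rintro ⟨g, rfl⟩
      refine ⟨hinv g g.2.1 b hb, fun e => hab ?_⟩
      have hga : (g : G) • a = a := g.2.2
      exact (MulAction.injective (g : G) (hga.trans (Eq.symm e))).symm.symm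
    · rintro ⟨hc, hca⟩
      obtain ⟨g, hg, h1, h2⟩ := htr a c ha hc (fun e => hca e.symm)
      exact ⟨⟨g, hg, h1⟩, h2⟩
  have hs2 : Nat.card ↥(stabilizer ↥(H ⊓ stabilizer G a) b) =
      Nat.card ↥(H ⊓ (stabilizer G a ⊓ stabilizer G b)) :=
    Nat.card_congr
      { toFun := fun x => ⟨(x.1 : G), x.1.2.1, x.1.2.2, x.2⟩
        invFun := fun x => ⟨⟨x.1, x.2.1, x.2.2.1⟩, x.2.2.2⟩
        left_inv := fun _ => rfl
        right_inv := fun _ => rfl }
  have o1 := Subgroup.card_mul_index (stabilizer ↥(H ⊓ stabilizer G a) b)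
  rw [index_stabilizer, hs2, h2, Set.ncard_sdiff_singleton_of_mem ha, mul_comm] at o1
  have o2 := Subgroup.card_mul_index (stabilizer H a)
  rw [index_stabilizer, hs1, h1, ← o1, mul_comm] at o2
  exact ⟨o2.symm, o1.symm⟩

/-- Double counting against the ordered pairs of distinct points. -/
theorem pair_count [Finite G] [Finite Ω] (h2 : TwoTrans G Ω) {a b : Ω} (hab : a ≠ b) (C : Set G)
    (hC : ∀ g x : G, x ∈ C → g * x * g⁻¹ ∈ C) (R : G → Ω → Ω → Prop)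
    (hR : ∀ (g x : G) (c d : Ω), R x c d → R (g * x * g⁻¹) (g • c) (g • d)) {r : ℕ}
    (hr : ∀ x ∈ C, {p : Ω × Ω | p.1 ≠ p.2 ∧ R x p.1 p.2}.ncard = r) :
    C.ncard * r = Nat.card Ω * (Nat.card Ω - 1) * {x : G | x ∈ C ∧ R x a b}.ncard := by
  classical
  haveI := Fintype.ofFinite G
  haveI := Fintype.ofFinite Ω
  haveI : Finite C := inferInstance
  have hfib : ∀ p : Ω × Ω, p.1 ≠ p.2 →
      {x : G | x ∈ C ∧ R x p.1 p.2}.ncard = {x : G | x ∈ C ∧ R x a b}.ncard := by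
    intro p hp
    obtain ⟨g, hg1, hg2⟩ := h2 a b p.1 p.2 hab hp
    symm
    refine Set.ncard_congr (fun x _ => g * x * g⁻¹) (fun x hx => ⟨hC g x hx.1, ?_⟩)
      (fun x y _ _ e => mul_left_cancel (mul_right_cancel e)) (fun y hy => ⟨g⁻¹ * y * g, ⟨?_, ?_⟩, by group⟩)
    · rw [← hg1, ← hg2]; exact hR g x a b hx.2
    · simpa using hC g⁻¹ y hy.1
    · have := hR g⁻¹ y _ _ hy.2
      rwa [← hg1, ← hg2, inv_smul_smul, inv_smul_smul, inv_inv] at this
  have e1 : Nat.card {q : G × (Ω × Ω) // q.1 ∈ C ∧ q.2.1 ≠ q.2.2 ∧ R q.1 q.2.1 q.2.2} = C.ncard * r := by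
    rw [Nat.card_congr (β := Σ x : C, {p : Ω × Ω // p.1 ≠ p.2 ∧ R x p.1 p.2})
      { toFun := fun q => ⟨⟨q.1.1, q.2.1⟩, ⟨q.1.2, q.2.2⟩⟩
        invFun := fun q => ⟨(q.1.1, q.2.1), q.1.2, q.2.2⟩
        left_inv := fun _ => rfl
        right_inv := fun _ => rfl }, Nat.card_sigma]
    have hs : ∀ x : C, Nat.card {p : Ω × Ω // p.1 ≠ p.2 ∧ R x p.1 p.2} = r := fun x =>
      (Nat.card_coe_set_eq {p : Ω × Ω | p.1 ≠ p.2 ∧ R x p.1 p.2}).trans (hr x x.2)
    simp only [hs, Finset.sum_const, smul_eq_mul, Finset.card_univ]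
    rw [← Nat.card_eq_fintype_card, Nat.card_coe_set_eq]
  rw [← e1, Nat.card_congr (β := Σ p : {p : Ω × Ω // p.1 ≠ p.2}, {x : G // x ∈ C ∧ R x p.1.1 p.1.2})
      { toFun := fun q => ⟨⟨q.1.2, q.2.2.1⟩, ⟨q.1.1, q.2.1, q.2.2.2⟩⟩
        invFun := fun q => ⟨(q.2.1, q.1.1), q.2.2.1, q.1.2, q.2.2.2⟩
        left_inv := fun _ => rfl
        right_inv := fun _ => rfl }, Nat.card_sigma]
  have hs : ∀ p : {p : Ω × Ω // p.1 ≠ p.2},
      Nat.card {x : G // x ∈ C ∧ R x p.1.1 p.1.2} = {x : G | x ∈ C ∧ R x a b}.ncard := fun p =>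
    (Nat.card_coe_set_eq {x : G | x ∈ C ∧ R x p.1.1 p.1.2}).trans (hfib p.1 p.2)
  simp only [hs, Finset.sum_const, smul_eq_mul]
  congr 1
  rw [Finset.card_univ, Fintype.card_subtype, Nat.card_eq_fintype_card,
    show (Finset.univ.filter fun p : Ω × Ω => p.1 ≠ p.2) = (Finset.univ : Finset Ω).offDiag by ext; simp,
    Finset.offDiag_card, Finset.card_univ, Nat.mul_sub, mul_one]

/-- The pairs fixed by `x`. -/
theorem ncard_fix_pairs [Finite Ω] (x : G) :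
    {p : Ω × Ω | p.1 ≠ p.2 ∧ x • p.1 = p.1 ∧ x • p.2 = p.2}.ncard =
      (fixedBy Ω x).ncard * ((fixedBy Ω x).ncard - 1) := by
  classical
  haveI := Fintype.ofFinite Ω
  have e : {p : Ω × Ω | p.1 ≠ p.2 ∧ x • p.1 = p.1 ∧ x • p.2 = p.2} =
      ((fixedBy Ω x).toFinset.offDiag : Set (Ω × Ω)) := by
    ext p; simp; tauto
  rw [e, Set.ncard_coe_finset, Finset.offDiag_card, ← Set.ncard_eq_toFinset_card', Nat.mul_sub, mul_one]

/-- The pairs swapped by an involution. -/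
theorem ncard_swap_pairs [Finite Ω] {x : G} (hx : x * x = 1) :
    {p : Ω × Ω | p.1 ≠ p.2 ∧ x • p.1 = p.2 ∧ x • p.2 = p.1}.ncard =
      Nat.card Ω - (fixedBy Ω x).ncard := by
  classical
  haveI := Fintype.ofFinite Ω
  rw [← Set.ncard_univ, ← Set.ncard_sdiff (Set.subset_univ _)]
  refine Set.ncard_congr (fun p _ => p.1) (fun p hp => ⟨trivial, fun h => hp.1 (h.symm.trans hp.2.1)⟩)
    (fun p q hp hq e => Prod.ext e (by rw [← hp.2.1, ← hq.2.1, e])) (fun c hc => ⟨(c, x • c), ⟨?_, rfl, ?_⟩, rfl⟩)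
  · exact fun h => hc.2 h.symm
  · show x • x • c = c
    rw [← mul_smul, hx, one_smul]

theorem fix_count [Finite G] [Finite Ω] (h2 : TwoTrans G Ω) {a b : Ω} (hab : a ≠ b) (C : Set G)
    (hC : ∀ g x : G, x ∈ C → g * x * g⁻¹ ∈ C) {f : ℕ} (hf : ∀ x ∈ C, (fixedBy Ω x).ncard = f) :
    C.ncard * (f * (f - 1)) =
      Nat.card Ω * (Nat.card Ω - 1) * {x : G | x ∈ C ∧ x • a = a ∧ x • b = b}.ncard :=
  pair_count h2 hab C hC (fun x c d => x • c = c ∧ x • d = d)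
    (fun g x c d h => by constructor <;> simp [mul_smul, h.1, h.2])
    fun x hx => (ncard_fix_pairs x).trans (by rw [hf x hx])

theorem swap_count [Finite G] [Finite Ω] (h2 : TwoTrans G Ω) {a b : Ω} (hab : a ≠ b) (C : Set G)
    (hC : ∀ g x : G, x ∈ C → g * x * g⁻¹ ∈ C) (hinv : ∀ x ∈ C, x * x = 1) {f : ℕ}
    (hf : ∀ x ∈ C, (fixedBy Ω x).ncard = f) :
    C.ncard * (Nat.card Ω - f) =
      Nat.card Ω * (Nat.card Ω - 1) * {x : G | x ∈ C ∧ x • a = b ∧ x • b = a}.ncard :=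
  pair_count h2 hab C hC (fun x c d => x • c = d ∧ x • d = c)
    (fun g x c d h => by constructor <;> simp [mul_smul, h.1, h.2])
    fun x hx => (ncard_swap_pairs (hinv x hx)).trans (by rw [hf x hx])

/-- The fixed points of a conjugate. -/
theorem ncard_fixedBy_conj (g x : G) : (fixedBy Ω (g * x * g⁻¹)).ncard = (fixedBy Ω x).ncard := by
  symm
  refine Set.ncard_congr (fun c _ => g • c) (fun c hc => ?_) (fun c d _ _ e => MulAction.injective g e)
    (fun c hc => ⟨g⁻¹ • c, ?_, smul_inv_smul g c⟩)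
  · show (g * x * g⁻¹) • g • c = g • c
    rw [mul_smul, inv_smul_smul, mul_smul, show x • c = c from hc]
  · show x • g⁻¹ • c = g⁻¹ • c
    rw [eq_inv_smul_iff, smul_smul, smul_smul, show (g * x * g⁻¹) • c = c from hc]

theorem TwoTrans.transitive (h2 : TwoTrans G Ω) {a b : Ω} (hab : a ≠ b) (c : Ω) : ∃ g : G, g • a = c := by
  by_cases e : c = b
  · obtain ⟨g, hg, -⟩ := h2 a b b a hab (Ne.symm hab)
    exact ⟨g, hg.trans e.symm⟩
  · obtain ⟨g, hg, -⟩ := h2 a b c b hab e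
    exact ⟨g, hg⟩

end CfsgLib.StabAlt5
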