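import Cfsg.Agent.Lib.StabAlt5.Four
import Cfsg.Agent.Lib.GW.Final
import Cfsg.Agent.Lib.GW.Model.Psl

/-!
Groups with a Sylow four group lying in a perfect subgroup: orders of the involution centraliser and of the
normaliser of the four group.
-/

set_option autoImplicit false
set_option linter.unusedSectionVars false
set_option linter.style.haveILetI false

namespace CfsgLib.StabAlt5

open Cfsg

universe u

variable {M : Type u} [Group M] [Finite M]

/-- The numerical data of a group with Sylow four group and `PSL₂(q)` as perfect part modulo odd core. -/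
def Numerics (M : Type u) [Group M] (t : M) (V : Subgroup M) : Prop :=
  ∃ q y c d f O : ℕ, 3 < q ∧ IsPrimePow q ∧ (q = 4 * y + 1 ∨ q + 1 = 4 * y) ∧ O * d ^ 2 = c ^ 3 ∧
    Odd c ∧ d ∣ c ∧ 0 < d ∧ 0 < f ∧ Nat.card M * 2 = f * O * (q * (q ^ 2 - 1)) ∧
    Nat.card ↥(Subgroup.centralizer ({t} : Set M)) = f * c * (4 * y) ∧
    Nat.card ↥(Subgroup.normalizer (V : Set M)) = 12 * f * d

theorem mem_normalizer_of_le {G : Type*} [Group G] [Finite G] {K : Subgroup G} {g : G}
    (h : ∀ x ∈ K, g * x * g⁻¹ ∈ K) : g ∈ Subgroup.normalizer (K : Set G) := by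
  have hs : Function.Surjective fun x : K => (⟨_, h x x.2⟩ : K) :=
    Finite.surjective_of_injective fun x y e => Subtype.ext (by simpa using congrArg Subtype.val e)
  refine Subgroup.mem_normalizer_iff.mpr fun x => ⟨h x, fun hx => ?_⟩
  obtain ⟨y, hy⟩ := hs ⟨_, hx⟩
  rw [← mul_left_cancel (mul_right_cancel (congrArg Subtype.val hy : g * (y : G) * g⁻¹ = g * x * g⁻¹))]
  exact y.2

/-- The order of a subgroup supplementing a normal subgroup. -/
theorem card_supplement (L K : Subgroup M) [L.Normal] (h : ∀ g : M, ∃ l ∈ L, l * g ∈ K) :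
    Nat.card K = L.index * Nat.card ↥(L ⊓ K) := by
  have hs : Function.Surjective ((QuotientGroup.mk' L).comp K.subtype) := by
    intro x
    obtain ⟨g, rfl⟩ := QuotientGroup.mk'_surjective L x
    obtain ⟨l, hl, hk⟩ := h g
    refine ⟨⟨l * g, hk⟩, ?_⟩
    show QuotientGroup.mk' L (l * g) = _
    rw [map_mul, (QuotientGroup.eq_one_iff l).mpr hl |> (fun e => (show QuotientGroup.mk' L l = 1 from e)), one_mul]
  have h1 := Subgroup.card_mul_index ((QuotientGroup.mk' L).comp K.subtype).ker
  rw [Subgroup.index_ker, MonoidHom.range_eq_top.mpr hs, Subgroup.card_top, mul_comm] at h1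
  rw [← h1, Subgroup.index]
  congr 1
  exact Nat.card_congr
    { toFun := fun x => ⟨(x.1 : M), (QuotientGroup.eq_one_iff _).mp x.2, x.1.2⟩
      invFun := fun x => ⟨⟨x.1, x.2.2⟩, (QuotientGroup.eq_one_iff _).mpr x.2.1⟩
      left_inv := fun _ => rfl
      right_inv := fun _ => rfl }

/-- The kernel of a map restricted to a subgroup. -/
theorem card_image_mul {N : Type*} [Group N] (π : M →* N) (K : Subgroup M) :
    Nat.card ↥(π.ker ⊓ K) * Nat.card ↥(K.map π) = Nat.card K := by
  have h1 := Subgroup.card_mul_index (π.comp K.subtype).ker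
  rw [Subgroup.index_ker] at h1
  rw [← h1]
  congr 1
  · exact Nat.card_congr
      { toFun := fun x => ⟨⟨x.1, x.2.2⟩, x.2.1⟩
        invFun := fun x => ⟨(x.1 : M), x.2, x.1.2⟩
        left_inv := fun _ => rfl
        right_inv := fun _ => rfl }
  · rw [MonoidHom.range_comp, Subgroup.range_subtype]

variable {t : M} {V : Subgroup M}

theorem isKleinFour_of_sq (hV : Nat.card V = 4) (hsq : ∀ v ∈ V, v * v = 1) : IsKleinFour V := by
  haveI : Nontrivial V := Finite.one_lt_card_iff_nontrivial.mp (by omega)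
  refine ⟨hV, (Monoid.exponent_eq_prime_iff Nat.prime_two).mpr fun g hg => orderOf_eq_prime ?_ hg⟩
  rw [pow_two]; exact Subtype.ext (hsq g g.2)

/-- The numerical consequences of the Gorenstein–Walter theorem. -/
theorem numerics (hV : Nat.card V = 4) (hsq : ∀ v ∈ V, v * v = 1) (h8 : ¬ 8 ∣ Nat.card M) (ht : t ∈ V)
    (t1 : t ≠ 1) (A : Subgroup M) [Group.IsPerfect A] (hVA : V ≤ A)
    (hconj : ∀ v ∈ V, v ≠ 1 → ∃ g ∈ A, g * t * g⁻¹ = v)
    (hout : ∃ g ∈ A, g ∈ Subgroup.normalizer (V : Set M) ∧ g * t ≠ t * g) : Numerics M t V := by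
  classical
  haveI : Fact (Nat.Prime 2) := ⟨Nat.prime_two⟩
  have hK := isKleinFour_of_sq hV hsq
  obtain ⟨n, hn⟩ := CfsgLib.GW.exists_perfect_derived M
  set L := derivedSeries M n with hL
  haveI : Group.IsPerfect L := hn
  haveI hLn : L.Normal := derivedSeries_normal M n
  have hAL : A ≤ L := CfsgLib.GW.perfect_le_derived A n
  have hVL : V ≤ L := hVA.trans hAL
  -- the four group is a Sylow subgroup of every subgroup containing it
  have hfac : ∀ (K : Subgroup M), V ≤ K → (Nat.card K).factorization 2 = 2 := by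
    intro K hVK
    have h4 : 4 ∣ Nat.card K := hV ▸ Subgroup.card_dvd_of_le hVK
    have hn8 : ¬ 8 ∣ Nat.card K := fun h => h8 (h.trans (Subgroup.card_subgroup_dvd_card K))
    have h1 := (Nat.prime_two.pow_dvd_iff_le_factorization (k := 2) Nat.card_pos.ne').mp (by simpa using h4)
    have h2 : ¬ 3 ≤ (Nat.card K).factorization 2 := fun h =>
      hn8 (by simpa using (Nat.prime_two.pow_dvd_iff_le_factorization (k := 3) Nat.card_pos.ne').mpr h)
    omega
  let S : Sylow 2 L := Sylow.ofCard (V.subgroupOf L) (by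
    rw [Nat.card_congr (Subgroup.subgroupOfEquivOfLe hVL).toEquiv, hV, hfac L hVL]; rfl)
  have hSV : (S : Subgroup L).map L.subtype = V := by
    rw [Sylow.coe_ofCard, Subgroup.map_subgroupOf_eq_of_le hVL]
  haveI := hK
  haveI hKS : IsKleinFour (S : Subgroup L) := by
    rw [Sylow.coe_ofCard]
    exact CfsgLib.DihedralFusion.isKleinFour_of_equiv (Subgroup.subgroupOfEquivOfLe hVL).symm
  have hD : CfsgLib.GW.GWDihedral L := ⟨S, 2, le_rfl, IsKleinFour.nonempty_mulEquiv⟩
  set O := oddCore L with hO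
  have hOodd : Odd (Nat.card O) := CfsgLib.odd_card_oddCore
  set π := QuotientGroup.mk' O with hπ
  have hker : π.ker = O := QuotientGroup.ker_mk' O
  have hπs : Function.Surjective π := QuotientGroup.mk'_surjective O
  let tL : L := ⟨t, hVL ht⟩
  have ht2 : tL * tL = 1 := Subtype.ext (hsq t ht)
  have hVinj : ∀ x : L, (x : M) ∈ V → π x = 1 → x = 1 := by
    intro x hx hπx
    have h1 : x ∈ O := (QuotientGroup.eq_one_iff x).mp hπx
    by_contra hx1
    have h2 : orderOf x = 2 := orderOf_eq_prime (by rw [pow_two]; exact Subtype.ext (hsq x hx)) hx1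
    have := hOodd.of_dvd_nat (h2 ▸ Subgroup.orderOf_dvd_natCard O h1)
    exact absurd this (by decide)
  have htbar1 : π tL ≠ 1 := fun e => t1 (congrArg Subtype.val (hVinj tL ht e))
  have htbar2 : π tL * π tL = 1 := by rw [← map_mul, ht2, map_one]
  rcases CfsgLib.GW.gwThm L hD with ⟨F, _, _, hodd, h3, ⟨e⟩⟩ | he
  swap
  · exfalso
    obtain ⟨e⟩ := he
    have h8' : 8 ∣ Nat.card (L ⧸ O) := by
      rw [hO, Nat.card_congr e.toEquiv, nat_card_alternatingGroup, Nat.card_fin]
      decide
    exact h8 (h8'.trans ((Subgroup.card_quotient_dvd_card O).trans (Subgroup.card_subgroup_dvd_card L)))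
  set q := Fintype.card F with hq
  have hqpp : IsPrimePow q := FiniteField.isPrimePow_card F
  -- `q ≡ ±1 (mod 4)`
  obtain ⟨eps, y, heps, hy⟩ : ∃ (eps : ℤ) (y : ℕ), (eps = 1 ∨ eps = -1) ∧ (q : ℤ) - eps = 4 * (y : ℤ) := by
    rw [Nat.odd_iff] at hodd
    rcases (show q % 4 = 1 ∨ q % 4 = 3 by omega) with h | h
    · exact ⟨1, q / 4, Or.inl rfl, by omega⟩
    · exact ⟨-1, q / 4 + 1, Or.inr rfl, by omega⟩
  have hqy : q = 4 * y + 1 ∨ q + 1 = 4 * y := by rcases heps with rfl | rfl <;> omega
  have hx2 : e (π tL) * e (π tL) = 1 := by rw [← map_mul, htbar2, map_one]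
  have hx1 : e (π tL) ≠ 1 := fun h => htbar1 (e.map_eq_one_iff.mp h)
  have hcbar : Nat.card ↥(Subgroup.centralizer ({π tL} : Set (L ⧸ O))) = 4 * y := by
    have h := CfsgLib.GW.Model.psl_card_centralizer hodd h3 heps ⟨(y : ℤ), hy⟩ hx2 hx1
    have heq : Nat.card ↥(Subgroup.centralizer ({π tL} : Set (L ⧸ O))) =
        Nat.card ↥(Subgroup.centralizer ({e (π tL)} : Set _)) :=
      Nat.card_congr (e.toEquiv.subtypeEquiv fun x => by
        show x ∈ Subgroup.centralizer ({π tL} : Set (L ⧸ O)) ↔ e x ∈ Subgroup.centralizer ({e (π tL)} : Set _)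
        rw [Subgroup.mem_centralizer_singleton_iff, Subgroup.mem_centralizer_singleton_iff, ← map_mul, ← map_mul,
          e.injective.eq_iff])
    rw [heq]
    omega
  -- centralisers map onto centralisers
  have hcmap : (Subgroup.centralizer ({tL} : Set L)).map π = Subgroup.centralizer ({π tL} : Set (L ⧸ O)) := by
    apply le_antisymm
    · rintro _ ⟨x, hx, rfl⟩
      rw [Subgroup.mem_centralizer_singleton_iff, ← map_mul, ← map_mul,
        Subgroup.mem_centralizer_singleton_iff.mp hx]
    · intro xb hxb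
      obtain ⟨x, rfl⟩ := hπs xb
      rw [Subgroup.mem_centralizer_singleton_iff, ← map_mul, ← map_mul] at hxb
      set o := tL * (x * tL * x⁻¹) with ho
      have hoO : o ∈ O := (QuotientGroup.eq_one_iff o).mp (by
        show π o = 1
        rw [ho, map_mul, map_mul (f := π) (x * tL), hxb, ← map_mul, mul_inv_cancel_right, ← map_mul, ht2, map_one])
      have hinv : tL * o * tL = o⁻¹ := by
        rw [ho, mul_inv_rev, mul_inv_rev, mul_inv_rev, inv_inv, inv_eq_of_mul_eq_one_left ht2,
          ← mul_assoc tL tL, ht2, one_mul]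
        group
      obtain ⟨k, hk⟩ := hOodd.of_dvd_nat (Subgroup.orderOf_dvd_natCard O hoO)
      set u := o ^ (k + 1) with hu
      have huu : u * u = o := by
        rw [hu, ← pow_add, show k + 1 + (k + 1) = (2 * k + 1) + 1 by ring, pow_succ, ← hk, pow_orderOf_eq_one,
          one_mul]
      have hut : tL * u * tL = u⁻¹ := by
        have hci : tL⁻¹ = tL := inv_eq_of_mul_eq_one_left ht2
        have h1 : tL * u * tL⁻¹ = (tL * o * tL⁻¹) ^ (k + 1) := by rw [conj_pow]
        rw [hci] at h1
        rw [h1, hinv, hu, inv_pow]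
      refine ⟨u * x, Subgroup.mem_centralizer_singleton_iff.mpr ?_, ?_⟩
      · have h5 : x * tL * x⁻¹ = tL * o := by rw [ho, ← mul_assoc, ht2, one_mul]
        have h6 : u * x * tL * (u * x)⁻¹ = tL := by
          calc u * x * tL * (u * x)⁻¹ = u * (x * tL * x⁻¹) * u⁻¹ := by group
            _ = u * (tL * (u * u)) * (tL * u * tL) := by rw [h5, huu, hut]
            _ = u * (tL * (u * u)) * tL * u * tL := by group
            _ = u * ((tL * u * tL) * (tL * u * tL)) * u * tL := by
              simp only [mul_assoc]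
              rw [← mul_assoc tL tL (u * (tL * (u * tL))), ht2, one_mul]
            _ = tL := by rw [hut]; group
        exact mul_inv_eq_iff_eq_mul.mp h6
      · show π (u * x) = π x
        rw [map_mul, show π u = 1 from (QuotientGroup.eq_one_iff u).mpr (pow_mem hoO _), one_mul]
  set c := Nat.card ↥(O ⊓ Subgroup.centralizer ({tL} : Set L)) with hc
  set VL := V.subgroupOf L with hVLdef
  set d := Nat.card ↥(O ⊓ Subgroup.centralizer (VL : Set L)) with hd
  have hcL : Nat.card ↥(Subgroup.centralizer ({tL} : Set L)) = c * (4 * y) := by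
    rw [← card_image_mul π (Subgroup.centralizer ({tL} : Set L)), hcmap, hcbar, hker]
  -- the image of the four group
  have hVcomm : ∀ v ∈ VL, ∀ w ∈ VL, v * w = w * v := fun v hv w hw => by
    have h1 : v * v = 1 := Subtype.ext (hsq _ hv)
    have h2 : w * w = 1 := Subtype.ext (hsq _ hw)
    have h3 : v * w * (v * w) = 1 := Subtype.ext (hsq _ (mul_mem hv hw : v * w ∈ VL))
    rw [← inv_eq_of_mul_eq_one_left h3, mul_inv_rev, inv_eq_of_mul_eq_one_left h1, inv_eq_of_mul_eq_one_left h2]
  have hVLcard : Nat.card VL = 4 := by rw [Nat.card_congr (Subgroup.subgroupOfEquivOfLe hVL).toEquiv, hV]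
  set Vb := VL.map π with hVb
  have hVbcard : Nat.card Vb = 4 := by
    rw [← hVLcard]
    refine (Nat.card_congr (Equiv.ofBijective (fun v : VL => (⟨π v, v, v.2, rfl⟩ : Vb)) ⟨fun v w h => ?_, ?_⟩)).symm
    · have h' : π (v : L) = π w := congrArg Subtype.val h
      have h1 : π ((v : L)⁻¹ * w) = 1 := by rw [map_mul, map_inv, h', inv_mul_cancel]
      exact Subtype.ext (inv_mul_eq_one.mp (hVinj _ (mul_mem (inv_mem (show ((v : L) : M) ∈ V from v.2))
        (show ((w : L) : M) ∈ V from w.2)) h1))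
    · rintro ⟨_, v, hv, rfl⟩
      exact ⟨⟨v, hv⟩, rfl⟩
  obtain ⟨v, hv, v1, vt⟩ : ∃ v ∈ VL, v ≠ 1 ∧ v ≠ tL := by
    by_contra h
    push Not at h
    have hsub : (VL : Set L) ⊆ ({1, tL} : Set L) := fun v hv => by
      by_cases v1 : v = 1
      · exact Or.inl v1
      · exact Or.inr (h v hv v1)
    have h2 := (Set.ncard_le_ncard hsub (Set.toFinite _)).trans ((Set.ncard_insert_le _ _).trans
      (by rw [Set.ncard_singleton]))
    have h4 : (VL : Set L).ncard = 4 := (Nat.card_coe_set_eq _).symm.trans hVLcard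
    omega
  have htVL : tL ∈ VL := ht
  have hVLmem : ∀ a : L, a ∈ VL ↔ a = 1 ∨ a = tL ∨ a = v ∨ a = tL * v := by
    have hsub : ({1, tL, v, tL * v} : Set L) ⊆ (VL : Set L) := by
      rintro x (rfl | rfl | rfl | rfl)
      exacts [one_mem _, htVL, hv, mul_mem htVL hv]
    have h4 : ({1, tL, v, tL * v} : Set L).ncard = 4 := by
      have d0 : tL ≠ 1 := fun e => t1 (congrArg Subtype.val e)
      have d1 : tL * v ≠ 1 := fun e => vt (by
        rw [eq_inv_of_mul_eq_one_right e, inv_eq_of_mul_eq_one_left ht2])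
      have d2 : tL * v ≠ tL := fun e => v1 (mul_eq_left.mp e)
      have d3 : tL * v ≠ v := fun e => d0 (mul_eq_right.mp e)
      rw [Set.ncard_insert_of_notMem (by simp [d0.symm, v1.symm, d1.symm]),
        Set.ncard_insert_of_notMem (by simp [Ne.symm vt, d2.symm]),
        Set.ncard_insert_of_notMem (by simp [d3.symm]), Set.ncard_singleton]
    have heq := Set.eq_of_subset_of_ncard_le hsub (by rw [h4]; exact ((Nat.card_coe_set_eq _).symm.trans hVLcard).le)
    intro a
    rw [← SetLike.mem_coe, ← heq]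
    rfl
  have hv2 : v * v = 1 := Subtype.ext (hsq _ hv)
  have htvc : tL * v = v * tL := hVcomm _ htVL _ hv
  -- the centraliser of the image is itself
  have hCVb : Subgroup.centralizer (Vb : Set (L ⧸ O)) = Vb := by
    apply le_antisymm
    · intro xb hxb
      have h1 : xb * π tL = π tL * xb := (Subgroup.mem_centralizer_iff.mp hxb _ ⟨tL, htVL, rfl⟩).symm
      have h2 : xb * π v = π v * xb := (Subgroup.mem_centralizer_iff.mp hxb _ ⟨v, hv, rfl⟩).symm
      have hv1b : π v ≠ 1 := fun e => v1 (hVinj v hv e)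
      have hvt : π v ≠ π tL := fun e => vt (by
        have h : π (tL * v) = 1 := by rw [map_mul, e, htbar2]
        have := hVinj _ (mul_mem ht (show (v : M) ∈ V from hv)) h
        rw [eq_inv_of_mul_eq_one_right this, inv_eq_of_mul_eq_one_left ht2])
      rcases CfsgLib.GW.Model.psl_centralizer_pair hodd h3 (x := e (π tL)) (y := e (π v)) (z := e xb) hx2 hx1
        (by rw [← map_mul, ← map_mul, hv2, map_one, map_one]) (fun h => hv1b (e.map_eq_one_iff.mp h))
        (fun h => hvt (e.injective h)) (by rw [← map_mul, ← map_mul, ← map_mul, ← map_mul, htvc])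
        (by rw [← map_mul, h1, map_mul]) (by rw [← map_mul, h2, map_mul]) with h | h | h | h
      · rw [e.map_eq_one_iff.mp h]; exact one_mem _
      · rw [e.injective h]; exact ⟨tL, htVL, rfl⟩
      · rw [e.injective h]; exact ⟨v, hv, rfl⟩
      · rw [← map_mul] at h
        rw [e.injective h, ← map_mul]; exact ⟨_, mul_mem htVL hv, rfl⟩
    · rintro _ ⟨x, hx, rfl⟩
      rw [Subgroup.mem_centralizer_iff]
      rintro _ ⟨w, hw, rfl⟩
      rw [← map_mul, ← map_mul, hVcomm w hw x hx]
  -- the normaliser of the image has order twelve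
  obtain ⟨g, hgA, hgN, hgt⟩ := hout
  let gL : L := ⟨g, hAL hgA⟩
  have hgLN : gL ∈ Subgroup.normalizer (VL : Set L) :=
    Subgroup.mem_normalizer_iff.mpr fun x => Subgroup.mem_normalizer_iff.mp hgN (x : M)
  have hNb12 : Nat.card ↥(Subgroup.normalizer (Vb : Set (L ⧸ O))) = 12 := by
    set Nb := Subgroup.normalizer (Vb : Set (L ⧸ O)) with hNb
    have hVN : Vb ≤ Nb := Subgroup.le_normalizer
    haveI : (Vb.subgroupOf Nb).Normal := Subgroup.normal_in_normalizer
    have hdvd : Nat.card ↥Nb ∣ 24 := by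
      -- the faithful action on the three involutions
      haveI : Fintype ↥Nb := Fintype.ofFinite _
      let T3 := {w : L ⧸ O // w ∈ Vb ∧ w ≠ 1}
      let act : ↥Nb →* Equiv.Perm T3 :=
        { toFun := fun x =>
            { toFun := fun w => ⟨x * w * (x : L ⧸ O)⁻¹, (Subgroup.mem_normalizer_iff.mp x.2 _).mp w.2.1,
                fun h => w.2.2 (conj_eq_one_iff.mp h)⟩
              invFun := fun w => ⟨(x : L ⧸ O)⁻¹ * w * x, by
                  exact (Subgroup.mem_normalizer_iff''.mp x.2 _).mp w.2.1,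
                fun h => w.2.2 (conj_eq_one_iff.mp
                  (show (x : L ⧸ O)⁻¹ * w * (x : L ⧸ O)⁻¹⁻¹ = 1 by rw [inv_inv]; exact h))⟩
              left_inv := fun w => Subtype.ext (by simp [mul_assoc])
              right_inv := fun w => Subtype.ext (by simp [mul_assoc]) }
          map_one' := Equiv.ext fun w => Subtype.ext (by simp)
          map_mul' := fun x y => Equiv.ext fun w => Subtype.ext (by simp [mul_assoc]) }
      have hk : act.ker = Vb.subgroupOf Nb := by
        ext x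
        rw [MonoidHom.mem_ker, Subgroup.mem_subgroupOf]
        constructor
        · intro h
          have hx : (x : L ⧸ O) ∈ Subgroup.centralizer (Vb : Set (L ⧸ O)) := Subgroup.mem_centralizer_iff.mpr
            fun w hw => by
              by_cases w1 : w = 1
              · simp [w1]
              · have := congrArg (fun p : Equiv.Perm T3 => ((p ⟨w, hw, w1⟩ : T3) : L ⧸ O)) h
                exact (mul_inv_eq_iff_eq_mul.mp this).symm
          rwa [hCVb] at hx
        · intro hx
          refine Equiv.ext fun w => Subtype.ext ?_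
          rw [← hCVb] at hx
          show (x : L ⧸ O) * w * (x : L ⧸ O)⁻¹ = w
          rw [← Subgroup.mem_centralizer_iff.mp hx _ w.2.1, mul_inv_cancel_right]
      have h3' : Nat.card T3 = 3 := by
        show Nat.card ↥({w : L ⧸ O | w ∈ Vb ∧ w ≠ 1}) = 3
        rw [Nat.card_coe_set_eq, show {w : L ⧸ O | w ∈ Vb ∧ w ≠ 1} = (Vb : Set (L ⧸ O)) \ {1} from rfl,
          Set.ncard_sdiff_singleton_of_mem (one_mem Vb)]
        have h4 : (Vb : Set (L ⧸ O)).ncard = 4 := (Nat.card_coe_set_eq _).symm.trans hVbcard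
        omega
      have h6 : act.ker.index ∣ 6 := by
        rw [Subgroup.index_ker]
        refine (Subgroup.card_subgroup_dvd_card act.range).trans ?_
        rw [Nat.card_perm, h3']
        rfl
      rw [← Subgroup.card_mul_index act.ker, hk, Nat.card_congr (Subgroup.subgroupOfEquivOfLe hVN).toEquiv, hVbcard,
        show 24 = 4 * 6 from rfl]
      exact Nat.mul_dvd_mul_left 4 (hk ▸ h6)
    have hn8 : ¬ 8 ∣ Nat.card ↥Nb := fun h => h8 (h.trans ((Subgroup.card_subgroup_dvd_card Nb).trans
      ((Subgroup.card_quotient_dvd_card O).trans (Subgroup.card_subgroup_dvd_card L))))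
    have h4 : 4 ∣ Nat.card ↥Nb := hVbcard ▸ Subgroup.card_dvd_of_le hVN
    have hne : Nat.card ↥Nb ≠ 4 := by
      intro h
      have he : Vb = Nb := Subgroup.eq_of_le_of_card_ge hVN (by rw [h, hVbcard])
      have hg : π gL ∈ Nb := by
        refine Subgroup.mem_normalizer_iff.mpr fun w => ?_
        constructor
        · rintro ⟨x, hx, rfl⟩
          exact ⟨gL * x * gL⁻¹, (Subgroup.mem_normalizer_iff.mp hgLN x).mp hx, by simp⟩
        · rintro ⟨x, hx, he'⟩
          refine ⟨gL⁻¹ * x * gL, ?_, by rw [map_mul, map_mul, map_inv, he']; group⟩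
          simpa using (Subgroup.mem_normalizer_iff.mp (inv_mem hgLN) x).mp hx
      rw [← he, ← hCVb] at hg
      have hcomm := Subgroup.mem_centralizer_iff.mp hg _ ⟨tL, htVL, rfl⟩
      have hw : gL * tL * gL⁻¹ ∈ VL := (Subgroup.mem_normalizer_iff.mp hgLN tL).mp htVL
      have hone : π ((gL * tL * gL⁻¹) * tL) = 1 := by
        rw [map_mul, map_mul, map_mul, map_inv, ← hcomm, mul_inv_cancel_right, htbar2]
      have := hVinj _ (mul_mem (show ((gL * tL * gL⁻¹ : L) : M) ∈ V from hw) ht) hone
      rw [mul_eq_one_iff_eq_inv, inv_eq_of_mul_eq_one_left ht2] at this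
      exact hgt (congrArg Subtype.val (mul_inv_eq_iff_eq_mul.mp this))
    have hle := Nat.le_of_dvd (by norm_num) hdvd
    interval_cases h : Nat.card ↥Nb <;> omega
  -- the normaliser of the four group covers that of its image
  have hnmap : (Subgroup.normalizer (VL : Set L)).map π = Subgroup.normalizer (Vb : Set (L ⧸ O)) := by
    apply le_antisymm
    · exact Subgroup.le_normalizer_map π
    · intro xb hxb
      obtain ⟨x, rfl⟩ := hπs xb
      set P : Subgroup L := Vb.comap π with hP
      have hVP : VL ≤ P := fun a ha => ⟨a, ha, rfl⟩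
      have hxV : VL.map (MulAut.conj x).toMonoidHom ≤ P := by
        rintro _ ⟨a, ha, rfl⟩
        show π (x * a * x⁻¹) ∈ Vb
        rw [map_mul, map_mul, map_inv]
        exact (Subgroup.mem_normalizer_iff.mp hxb _).mp ⟨a, ha, rfl⟩
      have hfacP : (Nat.card P).factorization 2 = 2 := by
        have h4 : 4 ∣ Nat.card P := hVLcard ▸ Subgroup.card_dvd_of_le hVP
        have hn8 : ¬ 8 ∣ Nat.card P := fun h => h8 (h.trans ((Subgroup.card_subgroup_dvd_card P).trans
          (Subgroup.card_subgroup_dvd_card L)))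
        have h1 := (Nat.prime_two.pow_dvd_iff_le_factorization (k := 2) Nat.card_pos.ne').mp (by simpa using h4)
        have h2 : ¬ 3 ≤ (Nat.card P).factorization 2 := fun h =>
          hn8 (by simpa using (Nat.prime_two.pow_dvd_iff_le_factorization (k := 3) Nat.card_pos.ne').mpr h)
        omega
      let S₁ : Sylow 2 P := Sylow.ofCard (VL.subgroupOf P) (by
        rw [Nat.card_congr (Subgroup.subgroupOfEquivOfLe hVP).toEquiv, hVLcard, hfacP]; rfl)
      let S₂ : Sylow 2 P := Sylow.ofCard ((VL.map (MulAut.conj x).toMonoidHom).subgroupOf P) (by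
        rw [Nat.card_congr (Subgroup.subgroupOfEquivOfLe hxV).toEquiv,
          Subgroup.card_map_of_injective (MulAut.conj x).injective, hVLcard, hfacP]; rfl)
      obtain ⟨p, hp⟩ := MulAction.exists_smul_eq P S₂ S₁
      obtain ⟨w, hw, hwp⟩ : ∃ w ∈ VL, π w = π (p : L) := p.2
      have hkey : (w⁻¹ * (p : L)) * x ∈ Subgroup.normalizer (VL : Set L) := by
        have hpx : ∀ a ∈ VL, (p : L) * (x * a * x⁻¹) * (p : L)⁻¹ ∈ VL := by
          intro a ha
          have hm : (⟨x * a * x⁻¹, hxV ⟨a, ha, rfl⟩⟩ : P) ∈ (S₂ : Subgroup P) := by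
            rw [Sylow.coe_ofCard, Subgroup.mem_subgroupOf]
            exact ⟨a, ha, rfl⟩
          have := Subgroup.smul_mem_pointwise_smul _ (MulAut.conj p) _ hm
          rw [← Sylow.coe_subgroup_smul] at this
          have h' : MulAut.conj p • (⟨x * a * x⁻¹, hxV ⟨a, ha, rfl⟩⟩ : P) ∈ (S₁ : Subgroup P) := hp ▸ this
          rw [Sylow.coe_ofCard, Subgroup.mem_subgroupOf] at h'
          exact h'
        refine CfsgLib.StabAlt5.mem_normalizer_of_le fun a ha => ?_
        have h := hpx a ha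
        have h2 : w⁻¹ * ((p : L) * (x * a * x⁻¹) * (p : L)⁻¹) * w = (p : L) * (x * a * x⁻¹) * (p : L)⁻¹ := by
          rw [mul_assoc, hVcomm _ h _ hw, inv_mul_cancel_left]
        rw [show w⁻¹ * (p : L) * x * a * (w⁻¹ * (p : L) * x)⁻¹ =
          w⁻¹ * ((p : L) * (x * a * x⁻¹) * (p : L)⁻¹) * w by group, h2]
        exact h
      refine ⟨_, hkey, ?_⟩
      rw [map_mul, map_mul, map_inv, hwp, inv_mul_cancel, one_mul]
  have hcd : Subgroup.centralizer (VL : Set L) ≤ Subgroup.centralizer ({tL} : Set L) :=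
    Subgroup.centralizer_le (Set.singleton_subset_iff.mpr htVL)
  have hdN : O ⊓ Subgroup.normalizer (VL : Set L) = O ⊓ Subgroup.centralizer (VL : Set L) := by
    apply le_antisymm
    · rintro x ⟨hxO, hxN⟩
      refine ⟨hxO, Subgroup.mem_centralizer_iff.mpr fun a ha => ?_⟩
      have h1 := (Subgroup.mem_normalizer_iff.mp hxN a).mp ha
      have h2 : π ((x * a * x⁻¹) * a⁻¹) = 1 := by
        rw [map_mul, map_mul, map_mul, map_inv, map_inv, show π x = 1 from (QuotientGroup.eq_one_iff x).mpr hxO]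
        group
      have h3' := hVinj _ (mul_mem (show ((x * a * x⁻¹ : L) : M) ∈ V from h1) (inv_mem (show (a : M) ∈ V from ha))) h2
      exact (mul_inv_eq_iff_eq_mul.mp (mul_inv_eq_one.mp h3')).symm
    · rintro x ⟨hxO, hxC⟩
      refine ⟨hxO, CfsgLib.StabAlt5.mem_normalizer_of_le fun a ha => ?_⟩
      rw [← Subgroup.mem_centralizer_iff.mp hxC a ha, mul_inv_cancel_right]
      exact ha
  have hnL : Nat.card ↥(Subgroup.normalizer (VL : Set L)) = d * 12 := by
    rw [← card_image_mul π (Subgroup.normalizer (VL : Set L)), hnmap, hNb12, hker, hdN]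
  -- all involutions of `L` are conjugate
  have hLconj : ∀ x : M, x ∈ L → x * x = 1 → x ≠ 1 → ∃ l ∈ L, l * t * l⁻¹ = x := by
    intro x hxL hx2' hx1'
    have hp : IsPGroup 2 (Subgroup.zpowers (⟨x, hxL⟩ : L)) := IsPGroup.of_card (n := 1) (by
      rw [Nat.card_zpowers, pow_one]
      exact orderOf_eq_prime (by rw [pow_two]; exact Subtype.ext hx2') fun e => hx1' (congrArg Subtype.val e))
    obtain ⟨Q, hQ⟩ := hp.exists_le_sylow
    obtain ⟨l, hl⟩ := MulAction.exists_smul_eq L Q S
    have hm := Subgroup.smul_mem_pointwise_smul _ (MulAut.conj l) _ (hQ (Subgroup.mem_zpowers _))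
    rw [← Sylow.coe_subgroup_smul] at hm
    have h' : MulAut.conj l • (⟨x, hxL⟩ : L) ∈ (S : Subgroup L) := hl ▸ hm
    rw [Sylow.coe_ofCard, Subgroup.mem_subgroupOf] at h'
    obtain ⟨g', hg', hg''⟩ := hconj _ h' (fun e => hx1' (by simpa [conj_eq_one_iff] using e))
    refine ⟨(l : M)⁻¹ * g', mul_mem (inv_mem l.2) (hAL hg'), ?_⟩
    rw [show (l : M)⁻¹ * g' * t * ((l : M)⁻¹ * g')⁻¹ = (l : M)⁻¹ * (g' * t * g'⁻¹) * l by group, hg'']
    show (l : M)⁻¹ * ((l : M) * x * (l : M)⁻¹) * l = x
    group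
  have hsupC : ∀ g : M, ∃ l ∈ L, l * g ∈ Subgroup.centralizer ({t} : Set M) := by
    intro g
    obtain ⟨l, hl, hle⟩ := hLconj (g * t * g⁻¹) (hLn.conj_mem t (hVL ht) g)
      (by rw [conj_mul, hsq t ht, mul_one, mul_inv_cancel]) (fun e => t1 (conj_eq_one_iff.mp e))
    refine ⟨l⁻¹, inv_mem hl, Subgroup.mem_centralizer_singleton_iff.mpr ?_⟩
    refine mul_inv_eq_iff_eq_mul.mp ?_
    rw [show l⁻¹ * g * t * (l⁻¹ * g)⁻¹ = l⁻¹ * (g * t * g⁻¹) * l by group, ← hle]
    group
  have hsupN : ∀ g : M, ∃ l ∈ L, l * g ∈ Subgroup.normalizer (V : Set M) := by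
    intro g
    have hg : g ∈ (Subgroup.normalizer (((S : Subgroup L).map L.subtype : Subgroup M) : Set M)) ⊔ L := by
      rw [Sylow.normalizer_sup_eq_top S]; trivial
    rw [sup_comm, hSV, Subgroup.mem_sup_of_normal_left] at hg
    obtain ⟨l, hl, k, hk, rfl⟩ := hg
    exact ⟨l⁻¹, inv_mem hl, by simpa using hk⟩
  have hcM : Nat.card ↥(L ⊓ Subgroup.centralizer ({t} : Set M)) = c * (4 * y) := by
    rw [← hcL]
    exact Nat.card_congr
      { toFun := fun x => ⟨⟨x.1, x.2.1⟩, Subgroup.mem_centralizer_singleton_iff.mpr (Subtype.ext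
          (Subgroup.mem_centralizer_singleton_iff.mp x.2.2))⟩
        invFun := fun x => ⟨(x.1 : M), x.1.2, Subgroup.mem_centralizer_singleton_iff.mpr
          (congrArg Subtype.val (Subgroup.mem_centralizer_singleton_iff.mp x.2))⟩
        left_inv := fun _ => rfl
        right_inv := fun _ => rfl }
  have hnM : Nat.card ↥(L ⊓ Subgroup.normalizer (V : Set M)) = d * 12 := by
    rw [← hnL]
    refine Nat.card_congr
      { toFun := fun x => ⟨⟨x.1, x.2.1⟩, Subgroup.mem_normalizer_iff.mpr fun a =>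
          Subgroup.mem_normalizer_iff.mp x.2.2 (a : M)⟩
        invFun := fun x => ⟨(x.1 : M), x.1.2, CfsgLib.StabAlt5.mem_normalizer_of_le fun a ha =>
          (Subgroup.mem_normalizer_iff.mp x.2 ⟨a, hVL ha⟩).mp ha⟩
        left_inv := fun _ => rfl
        right_inv := fun _ => rfl }
  -- the order formula
  have hnt : ∀ a : L, ∀ x ∈ O, a * x * a⁻¹ ∈ O := fun a x hx => (inferInstance : O.Normal).conj_mem x hx a
  have hform := four_formula (G := L) hOodd ht2 hv2 htvc (fun e => t1 (congrArg Subtype.val e)) v1 (Ne.symm vt)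
    (hnt tL) (hnt v) hVLmem
  have hcconj : ∀ w ∈ VL, w ≠ 1 → Nat.card ↥(O ⊓ Subgroup.centralizer ({w} : Set L)) = c := by
    intro w hw w1
    obtain ⟨g', hg', hg''⟩ := hconj (w : M) hw (fun e => w1 (Subtype.ext e))
    let g₀ : L := ⟨g', hAL hg'⟩
    have hw' : g₀ * tL * g₀⁻¹ = w := Subtype.ext hg''
    rw [hc, ← hw']
    symm
    refine Nat.card_congr ((MulAut.conj g₀).toEquiv.subtypeEquiv fun x => ?_)
    show x ∈ O ⊓ _ ↔ g₀ * x * g₀⁻¹ ∈ O ⊓ _
    rw [Subgroup.mem_inf, Subgroup.mem_inf, Subgroup.mem_centralizer_singleton_iff,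
      Subgroup.mem_centralizer_singleton_iff, conj_mul, conj_mul]
    exact and_congr ⟨fun h => hnt g₀ x h, fun h => by simpa [mul_assoc] using hnt g₀⁻¹ _ h⟩
      ⟨fun h => by rw [h], fun h => mul_left_cancel (mul_right_cancel h)⟩
  have htv1 : tL * v ≠ 1 := fun e => vt (by rw [eq_inv_of_mul_eq_one_right e, inv_eq_of_mul_eq_one_left ht2])
  rw [hcconj v hv v1, hcconj _ (mul_mem htVL hv) htv1, ← hc, ← hd] at hform
  -- the order
  have hpsl : Nat.card (L ⧸ O) * 2 = q * (q ^ 2 - 1) := by
    rw [Nat.card_congr e.toEquiv]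
    have h := CfsgLib.DicksonFull.card_psl (F := F)
    rw [Nat.odd_iff] at hodd
    have hg : Nat.gcd 2 (q - 1) = 2 := Nat.gcd_eq_left (by omega)
    rw [hg] at h
    rw [mul_comm]; exact h
  refine ⟨q, y, c, d, L.index, Nat.card O, h3, hqpp, hqy, ?_, ?_, ?_, Nat.card_pos,
    Nat.pos_of_ne_zero Subgroup.index_ne_zero_of_finite, ?_, ?_, ?_⟩
  · rw [hform]; ring
  · exact hOodd.of_dvd_nat (Subgroup.card_dvd_of_le inf_le_left)
  · exact Subgroup.card_dvd_of_le (inf_le_inf_left O hcd)
  · rw [← Subgroup.card_mul_index L, ← Subgroup.card_mul_index O, ← hpsl,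
      show O.index = Nat.card (L ⧸ O) from rfl]
    ring
  · rw [card_supplement L _ hsupC, hcM]; ring
  · rw [card_supplement L _ hsupN, hnM]; ring

end CfsgLib.StabAlt5
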