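import Cfsg.Agent.Lib.StabAlt5.Cases
import Cfsg.Agent.Lib.StabAlt5.Bridge
import Cfsg.Agent.Lib.StabAlt5.Local4
import Cfsg.Agent.Lib.StabAlt5.Arith

/-!
Even degree: the point stabiliser has a Sylow four group and the degree is twelve, or one exceptional set of
parameters.
-/

set_option autoImplicit false
set_option linter.unusedSectionVars false
set_option linter.style.haveILetI false

namespace CfsgLib.StabAlt5

open MulAction
open scoped commutatorElement

universe u v

theorem a5_perfect : Group.IsPerfect ↥(alternatingGroup (Fin 5)) := by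
  refine ⟨(((alternatingGroup.isSimpleGroup (α := Fin 5) (by simp))).eq_bot_or_eq_top_of_normal _ inferInstance).resolve_left fun h => ?_⟩
  have h2 : ∀ x y : alternatingGroup (Fin 5), x * y = y * x := fun x y => by
    have : ⁅x, y⁆ ∈ commutator ↥(alternatingGroup (Fin 5)) :=
      Subgroup.commutator_mem_commutator (Subgroup.mem_top x) (Subgroup.mem_top y)
    rw [h, Subgroup.mem_bot] at this
    exact commutatorElement_eq_one_iff_mul_comm.mp this
  exact absurd h2 (by decide +kernel)

variable {G : Type u} [Group G] [Finite G] {Ω : Type v} [Finite Ω] [MulAction G Ω] [FaithfulSMul G Ω]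
variable {a b : Ω} {t : G} (H : Hyp G a b) (T : InvIn t a b)
include H T

theorem degree_even (hm : Even (fixedBy Ω t).ncard) : Even (Nat.card Ω) := by
  have h := basic_relation H T
  have hlt := fix_lt H T
  obtain ⟨j, hj⟩ := hm
  obtain ⟨i, hi⟩ : ∃ i, swapNum t a b * ((fixedBy Ω t).ncard * ((fixedBy Ω t).ncard - 1)) = 2 * i :=
    ⟨swapNum t a b * (j * ((fixedBy Ω t).ncard - 1)), by rw [hj]; ring⟩
  rw [Nat.even_iff]
  omega

theorem swapNum_mem : swapNum t a b = 1 ∨ swapNum t a b = 10 ∨ swapNum t a b = 15 ∨ swapNum t a b = 16 := by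
  rcases swap_cases H T with h | h | h
  · exact Or.inr (Or.inl h.1)
  · rcases h.1 with e | e <;> simp [e]
  · exact Or.inr (Or.inr (Or.inl h.1))

/-- The outcome in even degree. -/
theorem even_outcome (hm : Even (fixedBy Ω t).ncard) :
    (swapNum t a b = 10 ∧ Nat.card Ω = 12) ∨
      (swapNum t a b = 16 ∧ (fixedBy Ω t).ncard = 900 ∧ (fixPts Ω (four t a b)).ncard = 30) := by
  obtain ⟨e⟩ := H.iso
  set n := Nat.card Ω with hn
  set m := (fixedBy Ω t).ncard with hmdef
  set k := (fixPts Ω (four t a b)).ncard with hkdef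
  have hneven : Even n := degree_even H T hm
  have hm2 : 2 ≤ m := two_le_fix H T
  have hk2 : 2 ≤ k := two_le_fixPts H T
  have hlt : m < n := fix_lt H T
  set M := stabilizer G a with hM
  have hcardM : Nat.card M = (n - 1) * 60 := H.card_stab
  have hAM : pairStab G a b ≤ M := inf_le_left
  have hVA : four t a b ≤ pairStab G a b := inf_le_left
  have h8 : ¬ 8 ∣ Nat.card M := by
    rw [hcardM]
    rw [Nat.even_iff] at hneven
    omega
  let A' := (pairStab G a b).subgroupOf M
  let V' := (four t a b).subgroupOf M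
  let t' : M := ⟨t, hAM T.mem⟩
  let eA : ↥A' ≃* ↥(alternatingGroup (Fin 5)) := (Subgroup.subgroupOfEquivOfLe hAM).trans e
  haveI : Group.IsPerfect ↥A' := by
    haveI := a5_perfect
    exact Group.IsPerfect.ofSurjective (f := eA.symm.toMonoidHom) eA.symm.surjective
  have hV' : Nat.card V' = 4 := by
    rw [Nat.card_congr (Subgroup.subgroupOfEquivOfLe (hVA.trans hAM)).toEquiv, card_four H T]
  obtain ⟨q, y, c, d, f, O, h3, hqp, hqy, hO, hc, hdc, hd, hf, hcardM', hcent, hnorm⟩ := numerics (M := M) (t := t')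
    (V := V') hV' (fun v hv => Subtype.ext (four_sq H T hv)) h8 (self_mem_four H T)
    (fun h => T.ne_one (congrArg Subtype.val h)) A' (fun v hv => hVA hv)
    (fun v hv v1 => by
      obtain ⟨g, hg, hgv⟩ := conj_A e T.mem (hVA hv) T.sq T.ne_one (four_sq H T hv)
        (fun h => v1 (Subtype.ext h))
      exact ⟨⟨g, hAM hg⟩, hg, Subtype.ext hgv⟩)
    (by
      by_contra hno
      push Not at hno
      have h12 := card_norm_four H T
      have hle : Subgroup.normalizer (four t a b : Set G) ⊓ pairStab G a b ≤ four t a b := fun g hg => by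
        have hgN : (⟨g, hAM hg.2⟩ : M) ∈ Subgroup.normalizer (V' : Set M) :=
          Subgroup.mem_normalizer_iff.mpr fun x => Subgroup.mem_normalizer_iff.mp hg.1 (x : G)
        exact mem_four.mpr ⟨hg.2, congrArg Subtype.val (hno ⟨g, hAM hg.2⟩ hg.2 hgN)⟩
      have := Subgroup.card_le_of_le hle
      rw [h12, card_four H T] at this
      omega)
  have hcent' : (m - 1) * 4 = f * c * (4 * y) := by
    rw [← hcent, ← (card_cent H T).2]
    exact Nat.card_congr
      { toFun := fun x => ⟨⟨x.1, x.2.2⟩, Subgroup.mem_centralizer_singleton_iff.mpr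
          (Subtype.ext (Subgroup.mem_centralizer_singleton_iff.mp x.2.1))⟩
        invFun := fun x => ⟨(x.1 : G), Subgroup.mem_centralizer_singleton_iff.mpr
          (congrArg Subtype.val (Subgroup.mem_centralizer_singleton_iff.mp x.2)), x.1.2⟩
        left_inv := fun _ => rfl
        right_inv := fun _ => rfl }
  have hnorm' : (k - 1) * 12 = 12 * f * d := by
    rw [← hnorm, ← (card_norm H T).2]
    exact Nat.card_congr
      { toFun := fun x => ⟨⟨x.1, x.2.2⟩, Subgroup.mem_normalizer_iff.mpr fun z =>
          Subgroup.mem_normalizer_iff.mp x.2.1 (z : G)⟩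
        invFun := fun x => ⟨(x.1 : G), mem_normalizer_of_le fun z hz =>
          (Subgroup.mem_normalizer_iff.mp x.2 ⟨z, hAM (hVA hz)⟩).mp hz, x.1.2⟩
        left_inv := fun _ => rfl
        right_inv := fun _ => rfl }
  obtain ⟨r, rfl⟩ := hdc
  have hr : Odd r := hc.of_dvd_nat (dvd_mul_left r d)
  have hm1 : m = r * (f * d) * y + 1 := by
    have e1 : f * (d * r) * (4 * y) = 4 * (r * (f * d) * y) := by ring
    omega
  have hk1 : k = f * d + 1 := by
    have e1 : 12 * f * d = 12 * (f * d) := by ring
    omega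
  have hy : Odd y := by
    by_contra hy
    rw [Nat.not_odd_iff_even] at hy
    obtain ⟨j, hj⟩ := hy
    have h8' : 8 ∣ Nat.card ↥(Subgroup.centralizer ({t'} : Set M)) := ⟨f * (d * r) * j, by rw [hcent, hj]; ring⟩
    exact h8 (h8'.trans (Subgroup.card_subgroup_dvd_card _))
  have hOeq : O = r * r * r * d :=
    Nat.eq_of_mul_eq_mul_right (pow_pos hd 2) (by rw [hO]; ring)
  have heq : r * r * (q * (q ^ 2 - 1)) = 8 * y * (swapNum t a b * m + 15) := by
    refine Nat.eq_of_mul_eq_mul_left (show 0 < r * (f * d) from Nat.mul_pos hr.pos (Nat.mul_pos hf hd)) ?_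
    have h2 : (n - 1) * 60 * 2 = r * (f * d) * (r * r * (q * (q ^ 2 - 1))) := by
      rw [← hcardM, hcardM', hOeq]; ring
    rw [← h2]
    have hrel := basic_relation H T
    rw [← hmdef, ← hn] at hrel
    have e1 : r * (f * d) * (8 * y * (swapNum t a b * m + 15)) =
        8 * ((r * (f * d) * y) * (swapNum t a b * m + 15)) := by ring
    have e2 : (r * (f * d) * y) * (swapNum t a b * m + 15) =
        swapNum t a b * (m * (r * (f * d) * y)) + 15 * (r * (f * d) * y) := by ring
    have hm' : m - 1 = r * (f * d) * y := by omega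
    rw [hm'] at hrel
    omega
  have hforms : m = k ∨ m = k * k ∨ m + k = 2 * (k * k) := fix_cases H T
  rcases even_arith (swapNum_mem H T) h3 hqp hqy hy hr (Nat.mul_pos hf hd) hm1 hk1 hforms heq with
    ⟨hw, -, -, -, hm4, -⟩ | ⟨hw, -, -, -, hm900, hk30⟩
  · refine Or.inl ⟨hw, ?_⟩
    have hrel := basic_relation H T
    rw [← hmdef, ← hn, hm4, hw] at hrel
    omega
  · exact Or.inr ⟨hw, hm900, hk30⟩

end CfsgLib.StabAlt5
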