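import Cfsg.Agent.Lib.StabAlt5.OddCases

/-!
The regular normal subgroup of the group on the fixed points, lifted to the centraliser of the involution.
-/

set_option autoImplicit false
set_option linter.unusedSectionVars false
set_option linter.style.haveILetI false

namespace CfsgLib.StabAlt5

open MulAction

universe u v

/-- A normal `p`-subgroup of `C(t)` regular on the fixed points of `t`. -/
structure RegLift {G : Type u} [Group G] (Ω : Type v) [MulAction G Ω] (t : G) (P : Subgroup G) (p j : ℕ) :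
    Prop where
  prime : p.Prime
  odd : Odd p
  pos : 1 ≤ j
  fix_card : (fixedBy Ω t).ncard = p ^ j
  card : Nat.card P = p ^ j
  le : P ≤ Subgroup.centralizer ({t} : Set G)
  comm : ∀ x ∈ P, ∀ y ∈ P, x * y = y * x
  trans : ∀ c d : Ω, t • c = c → t • d = d → ∃ x ∈ P, x • c = d
  reg : ∀ x ∈ P, ∀ c : Ω, t • c = c → x • c = c → x = 1
  normal : ∀ g ∈ Subgroup.centralizer ({t} : Set G), ∀ x ∈ P, g * x * g⁻¹ ∈ P

variable {G : Type u} [Group G] [Finite G] {Ω : Type v} [Finite Ω] [MulAction G Ω] [FaithfulSMul G Ω]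
variable {a b : Ω} {t : G} (H : Hyp G a b) (T : InvIn t a b)
include H T

/-- Elements of `C(t)` acting trivially on the fixed points. -/
theorem trivial_mem_four {g : G} (hg : g ∈ Subgroup.centralizer ({t} : Set G))
    (h : ∀ c ∈ fixedBy Ω t, g • c = c) : g ∈ four t a b :=
  mem_four.mpr ⟨⟨h a T.mem.1, h b T.mem.2⟩, Subgroup.mem_centralizer_singleton_iff.mp hg⟩

theorem trivial_cases (hk : (fixPts Ω (four t a b)).ncard ≠ (fixedBy Ω t).ncard) {g : G}
    (hg : g ∈ Subgroup.centralizer ({t} : Set G)) (h : ∀ c ∈ fixedBy Ω t, g • c = c) : g = 1 ∨ g = t := by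
  by_contra hne
  push Not at hne
  have hv := trivial_mem_four H T hg h
  refine hk (congrArg Set.ncard ?_)
  rw [fixPts_eq H T hv hne.1 hne.2]
  exact Set.Subset.antisymm (fun c hc => hc.1) fun c hc => ⟨hc, h c hc⟩

theorem exists_regLift (hm : Odd (fixedBy Ω t).ncard) : ∃ (P : Subgroup G) (p j : ℕ), RegLift Ω t P p j := by
  classical
  obtain ⟨⟨Pb, p, j, hPn, hp, hj, hmp, hPc, hPtr, hPreg, hPcomm, hPexp⟩, -⟩ := affine_fix H T hm
  haveI := hPn
  have hpodd : Odd p := by
    rw [Nat.card_coe_set_eq] at hmp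
    rw [hmp] at hm
    exact (Nat.odd_pow_iff (by omega : j ≠ 0)).mp hm
  set C := Subgroup.centralizer ({t} : Set G) with hC
  let ρ : ↥C →* ↥(fixGroup Ω t) := (fixHom Ω t).rangeRestrict
  set E : Subgroup ↥C := Pb.comap ρ with hE
  have hK : ∀ g : ↥C, ρ g = 1 → (g : G) ∈ four t a b := fun g hg =>
    trivial_mem_four H T g.2 (toFix_eq_one.mp hg)
  have hK2 : ∀ g : ↥C, ρ g = 1 → g * g = 1 := fun g hg => Subtype.ext (four_sq H T (hK g hg))
  have hEp : ∀ x ∈ E, ρ (x ^ p) = 1 := fun x hx => by rw [map_pow]; exact hPexp _ hx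
  have hodd2 : ∀ z : ↥C, z * z = 1 → z ^ p = z := fun z hz => by
    obtain ⟨i, hi⟩ := hpodd
    rw [hi, pow_succ, pow_mul, pow_two, hz, one_pow, one_mul]
  -- the kernel is central in the preimage
  have hcentral : ∀ x ∈ E, ∀ z : ↥C, ρ z = 1 → x * z = z * x := by
    intro x hx z hz
    have ht : ∀ g : ↥C, (g : G) * t = t * g := fun g => Subgroup.mem_centralizer_singleton_iff.mp g.2
    rcases (show (z : G) = 1 ∨ (z : G) = t ∨ ((z : G) ≠ 1 ∧ (z : G) ≠ t) by tauto) with h | h | ⟨h1, h2⟩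
    · exact Subtype.ext (by simp [h])
    · exact Subtype.ext (by simpa [h] using ht x)
    · have hv := hK z hz
      have hVfix : ∀ g : G, g ∈ four t a b → ∀ c ∈ fixedBy Ω t, g • c = c := by
        intro g hg c hc
        have hcF : c ∈ fixPts Ω (four t a b) := by
          rw [fixPts_eq H T hv h1 h2]
          exact ⟨hc, toFix_eq_one.mp hz c hc⟩
        exact hcF g hg
      set w := x * z * x⁻¹ with hw
      have hwρ : ρ w = 1 := by rw [hw, map_mul, map_mul, map_inv, hz, mul_one, mul_inv_cancel]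
      have hwv := hK w hwρ
      have hsub : ({1, t, (z : G), t * z} : Set G) = (four t a b : Set G) := by
        refine Set.eq_of_subset_of_ncard_le ?_ ?_
        · rintro y (rfl | rfl | rfl | rfl)
          exacts [one_mem _, self_mem_four H T, hv, mul_mem (self_mem_four H T) hv]
        · have d1 : t * (z : G) ≠ 1 := fun e => h2 (by
            rw [eq_inv_of_mul_eq_one_right e, inv_eq_of_mul_eq_one_left T.sq])
          have d2 : t * (z : G) ≠ t := fun e => h1 (mul_eq_left.mp e)
          have d3 : t * (z : G) ≠ z := fun e => T.ne_one (mul_eq_right.mp e)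
          rw [Set.ncard_insert_of_notMem (by simp [T.ne_one.symm, Ne.symm h1, d1.symm]),
            Set.ncard_insert_of_notMem (by simp [Ne.symm h2, d2.symm]),
            Set.ncard_insert_of_notMem (by simp [d3.symm]), Set.ncard_singleton]
          exact ((Nat.card_coe_set_eq _).symm.trans (card_four H T)).le
      have hw' : (w : G) ∈ ({1, t, (z : G), t * z} : Set G) := hsub ▸ hwv
      have hfin : (w : G) = z → x * z = z * x := fun e => mul_inv_eq_iff_eq_mul.mp (Subtype.ext e : w = z)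
      rcases hw' with e | e | e | e
      · exact absurd (congrArg Subtype.val (conj_eq_one_iff.mp (Subtype.ext e : w = 1))) h1
      · exfalso
        apply h2
        have e' : x * z * x⁻¹ = ⟨t, Subgroup.mem_centralizer_singleton_iff.mpr rfl⟩ := Subtype.ext e
        have e2 : z = x⁻¹ * ⟨t, Subgroup.mem_centralizer_singleton_iff.mpr rfl⟩ * x := by rw [← e']; group
        rw [e2, Subgroup.coe_mul, Subgroup.coe_mul, Subgroup.coe_inv, mul_assoc, ← ht x, inv_mul_cancel_left]
      · exact hfin e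
      · exfalso
        -- the induced permutation would have order two
        let tC : ↥C := ⟨t, Subgroup.mem_centralizer_singleton_iff.mpr rfl⟩
        have htC : tC * tC = 1 := Subtype.ext T.sq
        have e' : x * z * x⁻¹ = tC * z := Subtype.ext e
        have hcomm : ∀ i : ℕ, x ^ i * z * (x ^ i)⁻¹ = tC ^ i * z := by
          intro i
          induction i with
          | zero => simp
          | succ i ih =>
            have hx' : Commute tC (x ^ i) := Subtype.ext (ht (x ^ i)).symm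
            rw [pow_succ, pow_succ, show x ^ i * x * z * (x ^ i * x)⁻¹ = x ^ i * (x * z * x⁻¹) * (x ^ i)⁻¹ by group,
              e', ← mul_assoc, ← hx'.eq, mul_assoc tC, mul_assoc tC, ih, ← mul_assoc tC,
              (Commute.self_pow tC i).eq]
        have hfour : ((x ^ p : ↥C) : G) ∈ four t a b := hK _ (hEp x hx)
        have hc : x ^ p * z = z * x ^ p := Subtype.ext (four_comm H T hfour hv)
        have h' := hcomm p
        rw [hc, mul_inv_cancel_right, hodd2 tC htC, eq_comm, mul_eq_right] at h'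
        exact T.ne_one (congrArg Subtype.val h')
  have hEcomm : ∀ x ∈ E, ∀ y ∈ E, x * y = y * x := by
    intro x hx y hy
    set z := x * y * x⁻¹ * y⁻¹ with hz
    have hzρ : ρ z = 1 := by
      rw [hz, map_mul, map_mul, map_mul, map_inv, map_inv, hPcomm _ hx _ hy, mul_inv_cancel_right, mul_inv_cancel]
    have hconj : x * y * x⁻¹ = z * y := by rw [hz]; group
    have hi : ∀ i : ℕ, x ^ i * y * (x ^ i)⁻¹ = z ^ i * y := by
      intro i
      induction i with
      | zero => simp
      | succ i ih =>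
        rw [pow_succ, pow_succ, show x ^ i * x * y * (x ^ i * x)⁻¹ = x ^ i * (x * y * x⁻¹) * (x ^ i)⁻¹ by group,
          hconj, ← mul_assoc, hcentral (x ^ i) (pow_mem hx i) z hzρ, mul_assoc z, mul_assoc z, ih, ← mul_assoc z,
          (Commute.self_pow z i).eq]
    have h' := hi p
    rw [← hcentral y hy _ (hEp x hx), mul_inv_cancel_right, hodd2 z (hK2 z hzρ), eq_comm, mul_eq_right] at h'
    rw [h', one_mul] at hconj
    exact mul_inv_eq_iff_eq_mul.mp hconj
  let P0 : Subgroup ↥C :=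
    { carrier := {x | x ∈ E ∧ x ^ p = 1}
      one_mem' := ⟨one_mem E, one_pow p⟩
      mul_mem' := fun {x y} hx hy => ⟨mul_mem hx.1 hy.1, by
        rw [(show Commute x y from hEcomm x hx.1 y hy.1).mul_pow, hx.2, hy.2, one_mul]⟩
      inv_mem' := fun {x} hx => ⟨inv_mem hx.1, by rw [inv_pow, hx.2, inv_one]⟩ }
  have hinj : ∀ x ∈ P0, ρ x = 1 → x = 1 := fun x hx h => by
    have := hodd2 x (hK2 x h)
    rw [hx.2] at this
    exact this.symm
  have hsurj : ∀ π ∈ Pb, ∃ x ∈ P0, ρ x = π := by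
    intro π hπ
    obtain ⟨e, he⟩ := toFix_surj π
    have heE : e ∈ E := by show ρ e ∈ Pb; rw [show ρ e = π from he]; exact hπ
    refine ⟨e ^ (p + 1), ⟨pow_mem heE _, ?_⟩, ?_⟩
    · obtain ⟨i, hi⟩ := hpodd
      rw [← pow_mul, mul_comm, pow_mul, show p + 1 = 2 * (i + 1) by omega, pow_mul, pow_two, hK2 _ (hEp e heE),
        one_pow]
    · rw [pow_succ, map_mul, hEp e heE, one_mul]
      exact he
  have hcard : Nat.card P0 = p ^ j := by
    rw [← hPc]
    refine Nat.card_eq_of_bijective (fun x => (⟨ρ x, x.2.1⟩ : Pb)) ⟨fun x y h => ?_, fun π => ?_⟩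
    · have h' : ρ x = ρ y := congrArg Subtype.val h
      exact Subtype.ext (inv_mul_eq_one.mp (hinj _ (mul_mem (inv_mem y.2) x.2)
        (by rw [map_mul, map_inv, h', inv_mul_cancel]))).symm
    · obtain ⟨x, hx, he⟩ := hsurj π π.2
      exact ⟨⟨x, hx⟩, Subtype.ext he⟩
  refine ⟨P0.map C.subtype, p, j, hp, hpodd, hj, by rw [← Nat.card_coe_set_eq]; exact hmp, ?_,
    Subgroup.map_subtype_le P0, ?_, ?_, ?_, ?_⟩
  · rw [Subgroup.card_map_of_injective C.subtype_injective, hcard]
  · rintro _ ⟨x, hx, rfl⟩ _ ⟨y, hy, rfl⟩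
    exact congrArg Subtype.val (hEcomm x hx.1 y hy.1)
  · intro c d hc hd
    obtain ⟨π, hπ, hcd⟩ := hPtr ⟨c, hc⟩ ⟨d, hd⟩
    obtain ⟨x, hx, rfl⟩ := hsurj π hπ
    exact ⟨x, ⟨x, hx, rfl⟩, congrArg Subtype.val hcd⟩
  · rintro _ ⟨x, hx, rfl⟩ c hc hxc
    have h1 := hPreg (ρ x) hx.1 ⟨c, hc⟩ (Subtype.ext hxc)
    rw [hinj x hx h1]; rfl
  · rintro g hg _ ⟨x, hx, rfl⟩
    refine ⟨⟨g, hg⟩ * x * ⟨g, hg⟩⁻¹, ⟨?_, ?_⟩, rfl⟩
    · show ρ _ ∈ Pb
      rw [map_mul, map_mul, map_inv]
      exact hPn.conj_mem _ hx.1 _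
    · rw [conj_pow, hx.2, mul_one, mul_inv_cancel]

variable {P : Subgroup G} {p j : ℕ} (L : RegLift Ω t P p j)
include L

/-- The degree of the fixed points is coprime to `m - 1`. -/
theorem RegLift.not_dvd_pred : ¬ p ∣ ((fixedBy Ω t).ncard - 1) * 4 := by
  intro h
  rcases L.prime.dvd_mul.mp h with h | h
  · rw [L.fix_card] at h
    have hp : p ∣ p ^ j := dvd_pow_self p (by have := L.pos; omega)
    have h1 : 1 ≤ p ^ j := Nat.one_le_pow _ _ L.prime.pos
    have := (Nat.dvd_add_right h).mp (show p ∣ (p ^ j - 1) + 1 by rwa [Nat.sub_add_cancel h1])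
    exact L.prime.ne_one (Nat.dvd_one.mp this)
  · have h2 : p ∣ 2 := L.prime.dvd_of_dvd_pow (show p ∣ 2 ^ 2 from h)
    have := (Nat.prime_dvd_prime_iff_eq L.prime Nat.prime_two).mp h2
    have hodd := L.odd
    rw [this] at hodd
    exact absurd hodd (by decide)

/-- The lift contains all `p`-subgroups of `C(t)`. -/
theorem RegLift.le_of_pgroup {R : Subgroup G} (hR : IsPGroup p R)
    (hRC : R ≤ Subgroup.centralizer ({t} : Set G)) : R ≤ P := by
  haveI : Fact p.Prime := ⟨L.prime⟩
  have hPp : IsPGroup p P := IsPGroup.of_card L.card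
  have hnorm : R ≤ Subgroup.normalizer (P : Set G) := fun g hg => mem_normalizer_of_le (L.normal g (hRC hg))
  have hsup := hR.to_sup_of_normal_right' hPp hnorm
  obtain ⟨i, hi⟩ := IsPGroup.iff_card.mp hsup
  have hle : R ⊔ P ≤ Subgroup.centralizer ({t} : Set G) := sup_le hRC L.le
  have hdvd := Subgroup.card_dvd_of_le hle
  rw [(card_cent H T).1, hi, L.fix_card] at hdvd
  have hcop : Nat.Coprime (p ^ i) ((p ^ j - 1) * 4) := Nat.Coprime.pow_left i
    (L.prime.coprime_iff_not_dvd.mpr (by have := L.not_dvd_pred H T; rwa [L.fix_card] at this))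
  have hij : p ^ i ≤ p ^ j := Nat.le_of_dvd (pow_pos L.prime.pos j) (hcop.dvd_of_dvd_mul_right hdvd)
  have : P = R ⊔ P := Subgroup.eq_of_le_of_card_ge le_sup_right (by rw [hi, L.card]; exact hij)
  exact le_sup_left.trans this.ge

theorem RegLift.card_cent_four {v : G} (hv : v ∈ four t a b) (v1 : v ≠ 1) (vt : v ≠ t) :
    Nat.card ↥(P ⊓ Subgroup.centralizer ({v} : Set G)) = (fixPts Ω (four t a b)).ncard := by
  rw [← Nat.card_coe_set_eq]
  have hvt' : v * t = t * v := four_comm H T hv (self_mem_four H T)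
  refine Nat.card_eq_of_bijective (fun x => ⟨(x : G) • a, ?_⟩) ⟨fun x y e => ?_, fun c => ?_⟩
  · rw [fixPts_eq H T hv v1 vt]
    refine ⟨?_, ?_⟩
    · rw [← mul_smul, ← Subgroup.mem_centralizer_singleton_iff.mp (L.le x.2.1), mul_smul,
        show t • a = a from T.mem.1]
    · rw [← mul_smul, ← Subgroup.mem_centralizer_singleton_iff.mp x.2.2, mul_smul,
        show v • a = a from (mem_four.mp hv).1.1]
  · have e' : (x : G) • a = (y : G) • a := congrArg Subtype.val e
    exact Subtype.ext (inv_mul_eq_one.mp (L.reg _ (mul_mem (inv_mem y.2.1) x.2.1) a T.mem.1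
      (by rw [mul_smul, e', inv_smul_smul]))).symm
  · have hc : t • (c : Ω) = c ∧ v • (c : Ω) = c := by
      exact (Set.ext_iff.mp (fixPts_eq H T hv v1 vt) (c : Ω)).mp c.2
    obtain ⟨x, hx, hxc⟩ := L.trans a c T.mem.1 hc.1
    have hv' : v ∈ Subgroup.centralizer ({t} : Set G) := Subgroup.mem_centralizer_singleton_iff.mpr hvt'
    have h1 : (x⁻¹ * (v * x * v⁻¹)) • a = a := by
      rw [mul_smul, mul_smul, mul_smul, inv_smul_eq_iff.mpr (show v • a = a from (mem_four.mp hv).1.1).symm,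
        hxc, hc.2, ← hxc, inv_smul_smul]
    have h2 := inv_mul_eq_one.mp (L.reg _ (mul_mem (inv_mem hx) (L.normal v hv' x hx)) a T.mem.1 h1)
    refine ⟨⟨x, hx, Subgroup.mem_centralizer_singleton_iff.mpr ?_⟩, Subtype.ext hxc⟩
    nth_rewrite 1 [h2]
    group

/-- An element of `C(t)` fixing an orbit of its centralised part of the lift. -/
theorem RegLift.decompose (g : G) (hg : g ∈ Subgroup.centralizer ({t} : Set G)) :
    ∃ x ∈ P, (x⁻¹ * g) • a = a ∧ x⁻¹ * g ∈ Subgroup.centralizer ({t} : Set G) := by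
  obtain ⟨x, hx, hxa⟩ := L.trans a (g • a) T.mem.1 (smul_mem_fixedBy H hg T.mem.1)
  exact ⟨x, hx, by rw [mul_smul, ← hxa, inv_smul_smul], mul_mem (inv_mem (L.le hx)) hg⟩

end CfsgLib.StabAlt5
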