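import Cfsg.Agent.Lib.StabAlt5.EqualTools

/-!
Odd degree, symmetric case, four group acting trivially on the fixed points: the degree is seven.
-/

set_option autoImplicit false
set_option linter.unusedSectionVars false
set_option linter.style.haveILetI false

namespace CfsgLib.StabAlt5

open MulAction
open scoped commutatorElement

universe u v

variable {G : Type u} [Group G] [Finite G] {Ω : Type v} [Finite Ω] [MulAction G Ω] [FaithfulSMul G Ω]
variable {a b : Ω} {t : G} (H : Hyp G a b) (T : InvIn t a b)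
include H T

variable (hk : (fixPts Ω (four t a b)).ncard = (fixedBy Ω t).ncard)
include hk

variable {P : Subgroup G} {p j : ℕ} (L : RegLift Ω t P p j)
include L

/-- A perfect subgroup through the four group fixes the order of the centraliser. -/
theorem RegLift.card_of_perfect (hp3 : p ≠ 3) {x : G} (hx : x ∈ P) (x1 : x ≠ 1) (M : Subgroup G)
    (hP : P ≤ M) (hV : four t a b ≤ M) (hMx : M ≤ Subgroup.centralizer ({x} : Set G))
    (R : Subgroup G) [Group.IsPerfect R] (hR : R ≤ M) (hVR : four t a b ≤ R) :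
    Nat.card M = 60 * p ^ j ∧ Nat.card ↥(M ⊓ Subgroup.normalizer (four t a b : Set G)) = 12 * p ^ j := by
  let V' := (four t a b).subgroupOf M
  let t' : ↥M := ⟨t, hV (self_mem_four H T)⟩
  let R' := R.subgroupOf M
  haveI : Group.IsPerfect ↥R' :=
    Group.IsPerfect.ofSurjective (f := (Subgroup.subgroupOfEquivOfLe hR).symm.toMonoidHom)
      (Subgroup.subgroupOfEquivOfLe hR).symm.surjective
  obtain ⟨q, y, c, d, f, O, h3, -, hqy, hO, hc, hdc, hd, hf, hcardM, hcent, hnorm⟩ :=
    numerics_of_perfect (M := ↥M) (V := V') (by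
      rw [Nat.card_congr (Subgroup.subgroupOfEquivOfLe hV).toEquiv, card_four H T])
      (fun v hv => Subtype.ext (four_sq H T hv))
      (fun h => L.not_eight H T hk hx x1 (h.trans (Subgroup.card_dvd_of_le hMx)))
      R' (fun v hv => hVR hv) (t := t') (self_mem_four H T) (fun h => T.ne_one (congrArg Subtype.val h))
  have hN : Nat.card ↥(M ⊓ Subgroup.normalizer (four t a b : Set G)) =
      Nat.card ↥(Subgroup.normalizer (V' : Set ↥M)) :=
    Nat.card_congr
      { toFun := fun g => ⟨⟨g.1, g.2.1⟩, Subgroup.mem_normalizer_iff.mpr fun z =>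
          Subgroup.mem_normalizer_iff.mp g.2.2 (z : G)⟩
        invFun := fun g => ⟨(g.1 : G), g.1.2, mem_normalizer_of_le fun z hz =>
          (Subgroup.mem_normalizer_iff.mp g.2 ⟨z, hV hz⟩).mp hz⟩
        left_inv := fun _ => rfl
        right_inv := fun _ => rfl }
  have hC : Nat.card ↥(Subgroup.centralizer ({t'} : Set ↥M)) = 4 * p ^ j := by
    have hle : (Subgroup.centralizer ({t'} : Set ↥M)).map M.subtype ≤ M := Subgroup.map_subtype_le _
    refine Nat.dvd_antisymm ?_ ?_
    · let fPV : ↥(Subgroup.centralizer ({t'} : Set ↥M)) → Prop := fun g => InPV P t a b ((g : ↥M) : G)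
      have hsub : ((Subgroup.centralizer ({t'} : Set ↥M)).map M.subtype : Set G) ⊆
          (fun q : ↥P × ↥(four t a b) => (q.1 : G) * q.2) '' Set.univ := by
        rintro _ ⟨g, hg, rfl⟩
        obtain ⟨z, hz, h, hh, e⟩ := L.cent_point H T hk hx x1
          (Subgroup.mem_centralizer_singleton_iff.mpr (congrArg Subtype.val (Subgroup.mem_centralizer_singleton_iff.mp hg)))
          (Subgroup.mem_centralizer_singleton_iff.mp (hMx g.2))
        exact ⟨(⟨z, hz⟩, ⟨h, hh⟩), trivial, e.symm⟩
      have hcomm : ∀ (u : ↥P) (z : ↥(four t a b)), Commute (P.subtype u) ((four t a b).subtype z) :=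
        fun u z => (L.comm_four H T hk z.2 u u.2).symm
      have hle' : (Subgroup.centralizer ({t'} : Set ↥M)).map M.subtype ≤
          (P.subtype.noncommCoprod (four t a b).subtype hcomm).range := by
        intro g hg
        obtain ⟨q, -, e⟩ := hsub hg
        exact ⟨q, e⟩
      have h := (Subgroup.card_dvd_of_le hle').trans (Subgroup.card_range_dvd _)
      rwa [Subgroup.card_map_of_injective M.subtype_injective, Nat.card_prod, L.card, card_four H T, mul_comm] at h
    · rw [← Subgroup.card_map_of_injective (f := M.subtype) M.subtype_injective]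
      refine L.card_pv H T hk (fun z hz => ⟨⟨z, hP hz⟩, Subgroup.mem_centralizer_singleton_iff.mpr
        (Subtype.ext ?_), rfl⟩) (fun z hz => ⟨⟨z, hV hz⟩, Subgroup.mem_centralizer_singleton_iff.mpr
        (Subtype.ext (four_comm H T hz (self_mem_four H T))), rfl⟩)
      exact (L.comm_four H T hk (self_mem_four H T) z hz).symm
  rw [hC] at hcent
  rw [hnorm] at hN
  have h4 : 4 * p ^ j ∣ Nat.card ↥(M ⊓ Subgroup.normalizer (four t a b : Set G)) := by
    refine L.card_pv H T hk (fun z hz => ⟨hP hz, ?_⟩) (le_inf hV Subgroup.le_normalizer)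
    refine mem_normalizer_of_le fun w hw => ?_
    rw [← L.comm_four H T hk hw z hz, mul_inv_cancel_right]
    exact hw
  rw [hN] at h4
  have hfd : p ^ j ∣ f * d := by
    have h : p ^ j ∣ 3 * (f * d) := Nat.dvd_of_mul_dvd_mul_left (show 0 < 4 by norm_num)
      (by rwa [show 4 * (3 * (f * d)) = 12 * f * d by ring])
    exact (Nat.Coprime.pow_left j ((L.prime.coprime_iff_not_dvd).mpr fun h' =>
      hp3 ((Nat.prime_dvd_prime_iff_eq L.prime Nat.prime_three).mp h'))).dvd_of_dvd_mul_left h
  obtain ⟨r, rfl⟩ := hdc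
  have hm : p ^ j = f * d * (r * y) := by
    have : f * (d * r) * (4 * y) = 4 * (f * d * (r * y)) := by ring
    omega
  have hry : r * y = 1 := by
    obtain ⟨i, hi⟩ := hfd
    have hpos : 0 < p ^ j := pow_pos L.prime.pos j
    have h1 : p ^ j * 1 = p ^ j * (i * (r * y)) := by rw [mul_one, ← mul_assoc, ← hi, ← hm]
    exact (Nat.eq_one_of_mul_eq_one_left (Nat.eq_of_mul_eq_mul_left hpos h1).symm)
  obtain ⟨hr1, hy1⟩ := mul_eq_one.mp hry
  subst hr1 hy1
  have hq : q = 5 := by omega
  subst hq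
  rw [mul_one] at hm
  rw [mul_one] at hO
  have hOd : O = d := Nat.eq_of_mul_eq_mul_right (pow_pos hd 2) (by rw [hO]; ring)
  subst hOd
  refine ⟨?_, by rw [hN, hm]; ring⟩
  have : Nat.card M * 2 = 60 * p ^ j * 2 := by rw [hcardM, hm]; ring
  omega

/-- The centraliser of the lift normalises the four group or contains a perfect subgroup through it. -/
theorem RegLift.centralizer_cases :
    (∀ g ∈ Subgroup.centralizer (P : Set G), g ∈ Subgroup.normalizer (four t a b : Set G)) ∨
      ∃ R : Subgroup G, Group.IsPerfect R ∧ R ≤ Subgroup.centralizer (P : Set G) ∧ four t a b ≤ R := by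
  classical
  haveI : Fact (Nat.Prime 2) := ⟨Nat.prime_two⟩
  set W := Subgroup.centralizer (P : Set G) with hW
  have hPW : P ≤ W := fun x hx => Subgroup.mem_centralizer_iff.mpr fun y hy => L.comm y hy x hx
  have hVW : four t a b ≤ W := fun v hv => Subgroup.mem_centralizer_iff.mpr fun y hy =>
    (L.comm_four H T hk hv y hy).symm
  obtain ⟨x₀, hx₀, hx₀b⟩ := L.trans a b T.mem.1 T.mem.2
  have hx₀1 : x₀ ≠ 1 := fun e => H.ne (by rw [← hx₀b, e, one_smul])
  have hWx : W ≤ Subgroup.centralizer ({x₀} : Set G) := fun g hg =>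
    Subgroup.mem_centralizer_singleton_iff.mpr (Subgroup.mem_centralizer_iff.mp hg x₀ hx₀).symm
  set V' := (four t a b).subgroupOf W with hV'
  have hV4 : Nat.card V' = 4 := by rw [Nat.card_congr (Subgroup.subgroupOfEquivOfLe hVW).toEquiv, card_four H T]
  have h8 : ¬ 8 ∣ Nat.card ↥W := fun h => L.not_eight H T hk hx₀ hx₀1 (h.trans (Subgroup.card_dvd_of_le hWx))
  have hPV : ∀ (g : ↥W) (v : G), v ∈ four t a b → v ≠ 1 → (g : G) * v = v * g → InPV P t a b (g : G) :=
    fun g v hv v1 h => L.cent_four H T hk hx₀ hx₀1 hv v1 h (Subgroup.mem_centralizer_singleton_iff.mp (hWx g.2))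
  obtain ⟨n, hn⟩ := CfsgLib.GW.exists_perfect_derived ↥W
  haveI : Group.IsPerfect ↥(derivedSeries ↥W n) := hn
  haveI hDn : (derivedSeries ↥W n).Normal := derivedSeries_normal _ n
  by_cases hfull : V' ≤ derivedSeries ↥W n
  · right
    refine ⟨(derivedSeries ↥W n).map W.subtype, ?_, Subgroup.map_subtype_le _, fun v hv => ?_⟩
    · exact Group.IsPerfect.ofSurjective
        (f := ((derivedSeries ↥W n).equivMapOfInjective W.subtype W.subtype_injective).toMonoidHom)
        ((derivedSeries ↥W n).equivMapOfInjective W.subtype W.subtype_injective).surjective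
    · exact ⟨⟨v, hVW hv⟩, hfull (show (⟨v, hVW hv⟩ : ↥W) ∈ V' from hv), rfl⟩
  left
  -- the perfect residual meets the four group trivially
  have htriv : ∀ u ∈ V', u ∈ derivedSeries ↥W n → u = 1 := by
    intro u hu huD
    by_contra u1
    obtain ⟨S⟩ : Nonempty (Sylow 2 ↥(derivedSeries ↥W n)) := inferInstance
    have hSp : IsPGroup 2 ((S : Subgroup ↥(derivedSeries ↥W n)).map (derivedSeries ↥W n).subtype) := S.2.map _
    obtain ⟨g, hg⟩ := exists_conj_le hV4 h8 hSp
    have hle : Nat.card (S : Subgroup ↥(derivedSeries ↥W n)) ≤ 2 := by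
      have hlt : Nat.card ↥(V' ⊓ derivedSeries ↥W n) < 4 := by
        rw [← hV4]
        refine lt_of_le_of_ne (Subgroup.card_le_of_le inf_le_left) fun e => hfull ?_
        exact (Subgroup.eq_of_le_of_card_ge inf_le_left e.ge).ge.trans inf_le_right
      have hdvd : Nat.card ↥(V' ⊓ derivedSeries ↥W n) ∣ 4 := hV4 ▸ Subgroup.card_dvd_of_le inf_le_left
      have hle2 : Nat.card ↥(V' ⊓ derivedSeries ↥W n) ≤ 2 := by
        by_contra h
        have h3 : Nat.card ↥(V' ⊓ derivedSeries ↥W n) = 3 := by omega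
        rw [h3] at hdvd
        omega
      refine le_trans ?_ hle2
      refine Nat.card_le_card_of_injective
        (fun s => (⟨g * (s : ↥(derivedSeries ↥W n)) * g⁻¹, hg _ ⟨_, s.2, rfl⟩, hDn.conj_mem _ (s : ↥(derivedSeries ↥W n)).2 g⟩ :
          ↥(V' ⊓ derivedSeries ↥W n))) fun s s' e => ?_
      exact Subtype.ext (Subtype.ext (mul_left_cancel (mul_right_cancel (congrArg Subtype.val e))))
    have hge : 2 ^ 1 ∣ Nat.card (S : Subgroup ↥(derivedSeries ↥W n)) := by
      refine S.pow_dvd_card_of_pow_dvd_card ?_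
      have h2 : orderOf u = 2 := orderOf_eq_prime (by rw [pow_two]; exact Subtype.ext (four_sq H T hu)) u1
      simpa [h2] using Subgroup.orderOf_dvd_natCard _ huD
    refine perfect_not_two S (le_antisymm hle ?_)
    exact Nat.le_of_dvd Nat.card_pos (by simpa using hge)
  -- the first term meeting it trivially
  have hex : ∃ i, ∀ u ∈ V', u ∈ derivedSeries ↥W i → u = 1 := ⟨n, htriv⟩
  obtain ⟨i, hi, hmin⟩ : ∃ i, (∀ u ∈ V', u ∈ derivedSeries ↥W i → u = 1) ∧
      ∀ i' < i, ¬ ∀ u ∈ V', u ∈ derivedSeries ↥W i' → u = 1 :=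
    ⟨Nat.find hex, Nat.find_spec hex, fun i' h => Nat.find_min hex h⟩
  obtain ⟨i', rfl⟩ : ∃ i', i = i' + 1 := by
    refine ⟨i - 1, ?_⟩
    rcases Nat.eq_zero_or_pos i with rfl | h
    · exfalso
      refine T.ne_one (congrArg Subtype.val (hi ⟨t, hVW (self_mem_four H T)⟩ (self_mem_four H T) ?_))
      rw [derivedSeries_zero]; trivial
    · omega
  set X := derivedSeries ↥W (i' + 1) with hX
  haveI hXn : X.Normal := derivedSeries_normal _ _
  have hXodd : Odd (Nat.card X) := by
    refine Nat.not_even_iff_odd.mp fun h => ?_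
    obtain ⟨s, hs⟩ := exists_prime_orderOf_dvd_card' 2 (even_iff_two_dvd.mp h)
    have hs' : orderOf (s : ↥W) = 2 := by rwa [Subgroup.orderOf_coe]
    obtain ⟨g, hg⟩ := exists_conj_le hV4 h8 (S := Subgroup.zpowers (s : ↥W))
      (IsPGroup.of_card (n := 1) (by rw [Nat.card_zpowers, hs', pow_one]))
    have := hi _ (hg _ (Subgroup.mem_zpowers _)) (hXn.conj_mem _ s.2 g)
    rw [conj_eq_one_iff] at this
    rw [this, orderOf_one] at hs'
    omega
  set X0 := X.map W.subtype with hX0
  have hX0odd : Odd (Nat.card X0) := by rw [hX0, Subgroup.card_map_of_injective W.subtype_injective]; exact hXodd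
  have hX0P : X0 ≤ P := by
    obtain ⟨v, hv, v1, vt⟩ := exists_other H T
    have hV := four_list T H hv v1 vt
    have htv : t * v ∈ four t a b := mul_mem (self_mem_four H T) hv
    have htv1 : t * v ≠ 1 := fun e => vt (by rw [eq_inv_of_mul_eq_one_right e, inv_eq_of_mul_eq_one_left T.sq])
    have hnorm : ∀ w ∈ four t a b, ∀ z ∈ X0, w * z * w⁻¹ ∈ X0 := by
      rintro w hw _ ⟨z, hz, rfl⟩
      exact ⟨⟨w, hVW hw⟩ * z * ⟨w, hVW hw⟩⁻¹, hXn.conj_mem _ hz _, rfl⟩
    have key : ∀ w ∈ four t a b, w ≠ 1 → X0 ⊓ Subgroup.centralizer ({w} : Set G) = X0 ⊓ P := by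
      intro w hw w1
      refine le_antisymm ?_ ?_
      · rintro _ ⟨⟨z, hz, rfl⟩, hzw⟩
        exact ⟨⟨z, hz, rfl⟩, L.odd_mem H T hk (hPV z w hw w1 (Subgroup.mem_centralizer_singleton_iff.mp hzw))
          (hX0odd.of_dvd_nat (Subgroup.orderOf_dvd_natCard X0 ⟨z, hz, rfl⟩))⟩
      · rintro z ⟨hz, hzP⟩
        exact ⟨hz, Subgroup.mem_centralizer_singleton_iff.mpr (L.comm_four H T hk hw z hzP).symm⟩
    have hkey : X0 ⊓ Subgroup.centralizer (four t a b : Set G) = X0 ⊓ P := by
      refine le_antisymm ?_ ?_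
      · rw [← key t (self_mem_four H T) T.ne_one]
        exact inf_le_inf_left _ (Subgroup.centralizer_le (Set.singleton_subset_iff.mpr (self_mem_four H T)))
      · rintro z ⟨hz, hzP⟩
        exact ⟨hz, Subgroup.mem_centralizer_iff.mpr fun w hw => L.comm_four H T hk hw z hzP⟩
    have hform := four_formula hX0odd T.sq (four_sq H T hv) (four_comm H T (self_mem_four H T) hv) T.ne_one v1
      (Ne.symm vt) (hnorm t (self_mem_four H T)) (hnorm v hv) hV
    rw [hkey, key t (self_mem_four H T) T.ne_one, key v hv v1, key (t * v) htv htv1] at hform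
    have hc : Nat.card X0 = Nat.card ↥(X0 ⊓ P) :=
      Nat.eq_of_mul_eq_mul_right (pow_pos Nat.card_pos 2) (by rw [hform]; ring)
    exact (Subgroup.eq_of_le_of_card_ge inf_le_left hc.le).ge.trans inf_le_right
  -- the previous term consists of products of the lift with the four group
  obtain ⟨u, hu, huD, u1⟩ : ∃ u ∈ V', u ∈ derivedSeries ↥W i' ∧ u ≠ 1 := by
    by_contra h
    push Not at h
    exact hmin i' (Nat.lt_succ_self i') fun u hu huD => h u hu huD
  have hu0 : (u : G) ∈ four t a b := hu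
  have hD : ∀ z ∈ derivedSeries ↥W i', InPV P t a b (z : G) := by
    intro z hz
    refine hPV z u hu (fun e => u1 (Subtype.ext e)) ?_
    have hmem : ⁅z, u⁆ ∈ X := by
      rw [hX, derivedSeries_succ]
      exact Subgroup.commutator_mem_commutator hz huD
    set w : G := (z : G) * u * (z : G)⁻¹ * (u : G)⁻¹ with hw
    have hwP : w ∈ P := hX0P ⟨⁅z, u⁆, hmem, by simp [commutatorElement_def, hw]⟩
    have e1 : (z : G) * u * (z : G)⁻¹ = w * u := by rw [hw]; group
    have hu2 : (u : G) * u = 1 := four_sq H T hu0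
    have hsq : w * w = 1 := by
      have h2 : (z : G) * u * (z : G)⁻¹ * ((z : G) * u * (z : G)⁻¹) = 1 := by
        rw [conj_mul, hu2, mul_one, mul_inv_cancel]
      rw [e1, mul_assoc w, ← mul_assoc (u : G) w, L.comm_four H T hk hu0 w hwP, mul_assoc w (u : G), hu2,
        mul_one] at h2
      exact h2
    have hw1 : w = 1 := by
      by_contra hne
      have h2 : orderOf w = 2 := orderOf_eq_prime (by rw [pow_two, hsq]) hne
      have hd : 2 ∣ p ^ j := h2 ▸ L.card ▸ Subgroup.orderOf_dvd_natCard P hwP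
      exact Nat.not_even_iff_odd.mpr L.odd (even_iff_two_dvd.mpr (Nat.prime_two.dvd_of_dvd_pow hd))
    rw [hw1, one_mul] at e1
    exact mul_inv_eq_iff_eq_mul.mp e1
  haveI hDn' : (derivedSeries ↥W i').Normal := derivedSeries_normal _ _
  have hinv : ∀ v ∈ V', v ∈ derivedSeries ↥W i' → ∀ g : ↥W, g * v * g⁻¹ ∈ V' := by
    intro v hv hvD g
    refine L.two_mem H T hk (hD _ (hDn'.conj_mem _ hvD g)) (i := 1) ?_
    have : (g * v * g⁻¹) * (g * v * g⁻¹) = 1 := by
      rw [conj_mul, show v * v = 1 from Subtype.ext (four_sq H T hv), mul_one, mul_inv_cancel]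
    rw [pow_one, pow_two]
    exact congrArg Subtype.val this
  intro g hg
  refine mem_normalizer_of_le fun v hv => ?_
  let gW : ↥W := ⟨g, hg⟩
  by_cases hall : ∀ v ∈ V', v ∈ derivedSeries ↥W i'
  · exact hinv ⟨v, hVW hv⟩ hv (hall _ hv) gW
  · -- the whole group centralises `u`
    have hgu : gW * u * gW⁻¹ = u := by
      by_contra hne
      refine hall fun w hw => ?_
      have h1 := hinv u hu huD gW
      have h2 : gW * u * gW⁻¹ ∈ derivedSeries ↥W i' := hDn'.conj_mem _ huD gW
      have hc1 : gW * u * gW⁻¹ ≠ 1 := fun e => u1 (conj_eq_one_iff.mp e)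
      have hu' : (u : G) ≠ 1 := fun e => u1 (Subtype.ext e)
      have hlist := four_list (invIn_four H T hu0 hu') H
        (v := ((gW * u * gW⁻¹ : ↥W) : G)) (by rw [four_eq H T hu0 hu']; exact h1)
        (fun e => hc1 (Subtype.ext e)) (fun e => hne (Subtype.ext e))
      have hw' : (w : G) ∈ four (u : G) a b := by rw [four_eq H T hu0 hu']; exact hw
      rcases (hlist (w : G)).mp hw' with e | e | e | e
      · rw [show w = 1 from Subtype.ext e]; exact one_mem _
      · rw [show w = u from Subtype.ext e]; exact huD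
      · rw [show w = gW * u * gW⁻¹ from Subtype.ext e]; exact h2
      · rw [show w = u * (gW * u * gW⁻¹) from Subtype.ext e]; exact mul_mem huD h2
    obtain ⟨y, hy, h, hh, e⟩ := hPV gW u hu (fun e => u1 (Subtype.ext e))
      (congrArg Subtype.val (mul_inv_eq_iff_eq_mul.mp hgu))
    rw [show g = y * h from e, mul_inv_rev, show y * h * v * (h⁻¹ * y⁻¹) = y * (h * v * h⁻¹) * y⁻¹ by group,
      ← L.comm_four H T hk (mul_mem (mul_mem hh hv) (inv_mem hh)) y hy, mul_inv_cancel_right]
    exact mul_mem (mul_mem hh hv) (inv_mem hh)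

/-- The order of the normaliser of the lift. -/
theorem RegLift.card_normalizer (hp3 : p ≠ 3) :
    ∃ e : ℕ, Nat.card ↥(Subgroup.normalizer (P : Set G)) = e * (12 * (p ^ j * (p ^ j - 1))) ∧ (e = 1 ∨ (e = 5 ∧
      ∃ R : Subgroup G, Group.IsPerfect R ∧ R ≤ Subgroup.centralizer (P : Set G) ∧ four t a b ≤ R)) := by
  classical
  set W := Subgroup.centralizer (P : Set G) with hW
  set N := Subgroup.normalizer (P : Set G) with hN
  set NV := Subgroup.normalizer (four t a b : Set G) with hNV
  have hPW : P ≤ W := fun x hx => Subgroup.mem_centralizer_iff.mpr fun y hy => L.comm y hy x hx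
  have hVW : four t a b ≤ W := fun v hv => Subgroup.mem_centralizer_iff.mpr fun y hy =>
    (L.comm_four H T hk hv y hy).symm
  obtain ⟨x₀, hx₀, hx₀b⟩ := L.trans a b T.mem.1 T.mem.2
  have hx₀1 : x₀ ≠ 1 := fun e => H.ne (by rw [← hx₀b, e, one_smul])
  have hWx : W ≤ Subgroup.centralizer ({x₀} : Set G) := fun g hg =>
    Subgroup.mem_centralizer_singleton_iff.mpr (Subgroup.mem_centralizer_iff.mp hg x₀ hx₀).symm
  have hWN : W ≤ N := Subgroup.centralizer_le_normalizer _
  have hNVN : NV ≤ N := fun g hg => L.norm_le H T hk hg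
  have hcardNV : Nat.card NV = 12 * (p ^ j * (p ^ j - 1)) := by
    rw [hNV, (card_norm H T).1, hk, L.fix_card]; ring
  let Ws := W.subgroupOf N
  have hconj : ∀ g ∈ N, ∀ x ∈ W, g * x * g⁻¹ ∈ W := by
    intro g hg x hx
    refine Subgroup.mem_centralizer_iff.mpr fun y hy => ?_
    have h := Subgroup.mem_centralizer_iff.mp hx _ ((Subgroup.mem_normalizer_iff''.mp hg y).mp hy)
    calc y * (g * x * g⁻¹) = g * (g⁻¹ * y * g * x) * g⁻¹ := by group
      _ = g * (x * (g⁻¹ * y * g)) * g⁻¹ := by rw [h]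
      _ = g * x * g⁻¹ * y := by group
  haveI : Ws.Normal := ⟨fun x hx g => hconj g g.2 x hx⟩
  have hfr : ∀ g : ↥N, ∃ l ∈ Ws, l * g ∈ NV.subgroupOf N := by
    intro g
    have hV4 : Nat.card ↥((four t a b).subgroupOf W) = 4 := by
      rw [Nat.card_congr (Subgroup.subgroupOfEquivOfLe hVW).toEquiv, card_four H T]
    have hle : (four t a b).map (MulAut.conj (g : G)).toMonoidHom ≤ W := by
      rintro _ ⟨v, hv, rfl⟩
      exact hconj _ g.2 v (hVW hv)
    obtain ⟨w, hw⟩ := exists_conj_le hV4 (fun h => L.not_eight H T hk hx₀ hx₀1 (h.trans (Subgroup.card_dvd_of_le hWx)))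
      (S := ((four t a b).map (MulAut.conj (g : G)).toMonoidHom).subgroupOf W)
      (IsPGroup.of_card (n := 2) (by rw [Nat.card_congr (Subgroup.subgroupOfEquivOfLe hle).toEquiv,
        Subgroup.card_map_of_injective (MulAut.conj (g : G)).injective, card_four H T]; rfl))
    refine ⟨⟨w, hWN w.2⟩, w.2, mem_normalizer_of_le fun v hv => ?_⟩
    have h := hw ⟨(g : G) * v * (g : G)⁻¹, hle ⟨v, hv, rfl⟩⟩ ⟨v, hv, rfl⟩
    show (w : G) * g * v * ((w : G) * g)⁻¹ ∈ four t a b
    rw [show (w : G) * g * v * ((w : G) * g)⁻¹ = (w : G) * ((g : G) * v * (g : G)⁻¹) * (w : G)⁻¹ by group]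
    exact h
  have hcount := card_supplement Ws (NV.subgroupOf N) hfr
  rw [Nat.card_congr (Subgroup.subgroupOfEquivOfLe hNVN).toEquiv] at hcount
  have hinf : Nat.card ↥(Ws ⊓ NV.subgroupOf N) = Nat.card ↥(W ⊓ NV) :=
    Nat.card_congr
      { toFun := fun g => ⟨(g.1 : G), g.2.1, g.2.2⟩
        invFun := fun g => ⟨⟨g.1, hWN g.2.1⟩, g.2.1, g.2.2⟩
        left_inv := fun _ => rfl
        right_inv := fun _ => rfl }
  have hWs : Nat.card Ws = Nat.card W := Nat.card_congr (Subgroup.subgroupOfEquivOfLe hWN).toEquiv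
  have hN' : Nat.card N * Nat.card ↥(W ⊓ NV) = Nat.card W * Nat.card NV := by
    rw [← Subgroup.card_mul_index Ws, hWs, hcount, hinf]; ring
  rcases L.centralizer_cases H T hk with h | ⟨R, hR, hRW, hVR⟩
  · refine ⟨1, ?_, Or.inl rfl⟩
    rw [show W ⊓ NV = W from inf_eq_left.mpr h, mul_comm (Nat.card W)] at hN'
    rw [one_mul, ← hcardNV]
    exact Nat.eq_of_mul_eq_mul_right Nat.card_pos hN'
  · refine ⟨5, ?_, Or.inr ⟨rfl, R, hR, hRW, hVR⟩⟩
    haveI := hR
    obtain ⟨h1, h2⟩ := L.card_of_perfect H T hk hp3 hx₀ hx₀1 W hPW hVW hWx R hRW hVR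
    rw [h1, h2, hcardNV] at hN'
    refine Nat.eq_of_mul_eq_mul_right (Nat.mul_pos (show 0 < 12 by norm_num) (pow_pos L.prime.pos j)) ?_
    rw [hN']; ring

theorem RegLift.degree_seven (h10 : swapNum t a b = 10) : Nat.card Ω = 7 := by
  classical
  haveI : Fact p.Prime := ⟨L.prime⟩
  obtain ⟨hn, hG⟩ := order_ten H T h10
  rw [L.fix_card] at hn hG
  have hnormdvd : p ^ j * 12 ∣ Nat.card G := by
    refine dvd_trans ?_ (Subgroup.card_subgroup_dvd_card (Subgroup.normalizer (four t a b : Set G)))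
    rw [(card_norm H T).1, hk, L.fix_card]
    exact ⟨p ^ j - 1, by ring⟩
  by_cases hp3 : p = 3
  · subst hp3
    by_cases hj : j = 1
    · subst hj; omega
    exfalso
    refine not_dvd_order H T h10 L.prime L.odd L.pos L.fix_card (fun _ => by have := L.pos; omega) (by norm_num) ?_
    exact dvd_trans ⟨4, by ring⟩ hnormdvd
  exfalso
  have hp2 : p ≠ 2 := fun e => by have h := L.odd; rw [e] at h; exact absurd h (by decide)
  set m := p ^ j with hm
  have hm0 : 0 < m := pow_pos L.prime.pos j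
  have hpm : p ∣ m := dvd_pow_self p (by have := L.pos; omega)
  obtain ⟨u1, u2, u3⟩ := prime_not_dvd_units L.prime hp2 hp3 hpm hm0
  obtain ⟨e, hNc, he⟩ := L.card_normalizer H T hk hp3
  set N := Subgroup.normalizer (P : Set G) with hN
  set i := N.index with hi
  have hm2 : 2 ≤ m := by have := two_le_fix H T; rw [L.fix_card] at this; exact this
  have h9 : 9 * (e * i) = 5 * ((2 * m + 1) * (2 * m + 3)) := by
    refine Nat.eq_of_mul_eq_mul_left
      (Nat.mul_pos (show 0 < 12 by norm_num) (Nat.mul_pos hm0 (show 0 < m - 1 by omega))) ?_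
    calc 12 * (m * (m - 1)) * (9 * (e * i)) = 9 * (Nat.card N * i) := by rw [hNc]; ring
      _ = 60 * m * ((2 * m + 1) * ((m - 1) * (2 * m + 3))) := by rw [Subgroup.card_mul_index, hG]
      _ = _ := by ring
  by_cases h5 : p = 5
  swap
  · -- the lift is a Sylow subgroup
    have hndG := not_dvd_order H T h10 L.prime L.odd L.pos L.fix_card (fun h => absurd h hp3) h5
    have hfac : (Nat.card G).factorization p = j := by
      have h1 : j ≤ (Nat.card G).factorization p := (L.prime.pow_dvd_iff_le_factorization Nat.card_pos.ne').mp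
        (dvd_trans ⟨12, rfl⟩ hnormdvd)
      have h2 : ¬ j + 1 ≤ (Nat.card G).factorization p := fun h =>
        hndG ((L.prime.pow_dvd_iff_le_factorization Nat.card_pos.ne').mpr h)
      omega
    let SP : Sylow p G := Sylow.ofCard P (by rw [L.card, hfac])
    have hcount : Nat.card (Sylow p G) = i := by
      rw [Sylow.card_eq_index_normalizer SP]
      rfl
    have hmod := card_sylow_modEq_one p G
    rw [hcount] at hmod
    have hmodz : ((i : ℕ) : ZMod p) = 1 := by
      simpa using (ZMod.natCast_eq_natCast_iff' i 1 p).mpr hmod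
    have hmz : ((m : ℕ) : ZMod p) = 0 := (ZMod.natCast_eq_zero_iff _ _).mpr hpm
    have h := congrArg (fun n : ℕ => (n : ZMod p)) h9
    push_cast at h
    rw [hmodz, hmz] at h
    have hd : p ∣ 2 * (3 * 5) := by
      rcases he with rfl | ⟨rfl, -⟩
      · have h12 : ((6 : ℕ) : ZMod p) = 0 := by push_cast at h ⊢; linear_combination -h
        exact ((ZMod.natCast_eq_zero_iff _ _).mp h12).trans ⟨5, rfl⟩
      · have h12 : ((30 : ℕ) : ZMod p) = 0 := by push_cast at h ⊢; linear_combination h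
        exact (ZMod.natCast_eq_zero_iff _ _).mp h12
    rcases L.prime.dvd_mul.mp hd with h' | h'
    · exact hp2 ((Nat.prime_dvd_prime_iff_eq L.prime Nat.prime_two).mp h')
    rcases L.prime.dvd_mul.mp h' with h' | h'
    · exact hp3 ((Nat.prime_dvd_prime_iff_eq L.prime Nat.prime_three).mp h')
    · exact h5 ((Nat.prime_dvd_prime_iff_eq L.prime Nat.prime_five).mp h')
  subst h5
  obtain ⟨hG1, hG2⟩ := order_five H T h10 L.pos L.fix_card
  have hNd : 5 ^ (j + 1) ∣ Nat.card N := Sylow.prime_pow_dvd_card_normalizer hG1 L.card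
  rcases he with rfl | ⟨rfl, R, hR, hRW, hVR⟩
  · rw [hNc, pow_succ, ← hm, one_mul, show 12 * (m * (m - 1)) = m * (12 * (m - 1)) by ring] at hNd
    rcases Nat.prime_five.dvd_mul.mp (Nat.dvd_of_mul_dvd_mul_left hm0 hNd) with h | h
    · omega
    · exact u2 h
  haveI := hR
  obtain ⟨c, hc⟩ := hpm
  have hi2 : i % 5 = 2 := by
    rw [hc] at h9
    have e1 : (2 * (5 * c) + 1) * (2 * (5 * c) + 3) = 5 * (20 * (c * c) + 8 * c) + 3 := by ring
    rw [e1] at h9
    omega
  have hj2 : 2 ≤ j := by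
    by_contra h
    have : j = 1 := by have := L.pos; omega
    subst this
    rw [hm] at hn
    omega
  -- a Sylow subgroup normalises a second conjugate
  obtain ⟨S, hPS⟩ := (IsPGroup.of_card L.card : IsPGroup 5 P).exists_le_sylow
  have hScard : Nat.card (S : Subgroup G) = 5 * m := by
    have h1 : j + 1 ≤ (Nat.card G).factorization 5 :=
      (Nat.prime_five.pow_dvd_iff_le_factorization Nat.card_pos.ne').mp hG1
    have h2 : ¬ j + 2 ≤ (Nat.card G).factorization 5 := fun h =>
      hG2 ((Nat.prime_five.pow_dvd_iff_le_factorization Nat.card_pos.ne').mpr h)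
    rw [S.card_eq_multiplicity, show (Nat.card G).factorization 5 = j + 1 by omega, pow_succ, mul_comm]
  obtain ⟨g, hgN, hgS⟩ : ∃ g : G, g ∉ N ∧ ∀ r ∈ (S : Subgroup G), g⁻¹ * r * g ∈ N := by
    by_contra hno
    push Not at hno
    have hmod := S.2.card_modEq_card_fixedPoints (G ⧸ N)
    have hone : Nat.card (MulAction.fixedPoints ↥(S : Subgroup G) (G ⧸ N)) ≤ 1 := by
      refine Finite.card_le_one_iff_subsingleton.mpr ⟨fun q q' => ?_⟩
      suffices h : ∀ q : MulAction.fixedPoints ↥(S : Subgroup G) (G ⧸ N),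
          (q : G ⧸ N) = QuotientGroup.mk (1 : G) from Subtype.ext ((h q).trans (h q').symm)
      rintro ⟨q, hq⟩
      obtain ⟨g, rfl⟩ := QuotientGroup.mk_surjective q
      show (QuotientGroup.mk g : G ⧸ N) = QuotientGroup.mk 1
      rw [QuotientGroup.eq, mul_one, inv_mem_iff]
      by_contra hg
      obtain ⟨r, hr, hr'⟩ := hno g hg
      have h : (QuotientGroup.mk (r * g) : G ⧸ N) = QuotientGroup.mk g := hq ⟨r, hr⟩
      rw [QuotientGroup.eq] at h
      exact hr' (inv_mem_iff.mp (by simpa [mul_assoc] using h))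
    rw [show Nat.card (G ⧸ N) = i from rfl] at hmod
    unfold Nat.ModEq at hmod
    omega
  have hSn : (S : Subgroup G) ≤ Subgroup.normalizer ((P.map (MulAut.conj g).toMonoidHom : Subgroup G) : Set G) := by
    intro r hr
    refine mem_normalizer_of_le ?_
    rintro _ ⟨x, hx, rfl⟩
    refine ⟨(g⁻¹ * r * g) * x * (g⁻¹ * r * g)⁻¹, (Subgroup.mem_normalizer_iff.mp (hgS r hr) x).mp hx, ?_⟩
    show g * ((g⁻¹ * r * g) * x * (g⁻¹ * r * g)⁻¹) * g⁻¹ = r * (g * x * g⁻¹) * r⁻¹
    group
  set P2 := P.map (MulAut.conj g).toMonoidHom with hP2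
  have hP2S : P2 ≤ (S : Subgroup G) := by
    have hsup := S.2.to_sup_of_normal_right' ((IsPGroup.of_card L.card : IsPGroup 5 P).map _) hSn
    exact le_sup_right.trans (S.3 hsup le_sup_left).le
  -- two conjugates share an element
  obtain ⟨x, hx, hx2, x1⟩ : ∃ x ∈ P, x ∈ P2 ∧ x ≠ 1 := by
    by_contra hno
    push Not at hno
    have hcard2 : Nat.card P2 = m := by
      rw [hP2, Subgroup.card_map_of_injective (MulAut.conj g).injective, L.card]
    have h := Nat.card_le_card_of_injective (α := ↥P × ↥P2) (β := ↥(S : Subgroup G))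
      (fun q => ⟨q.1 * q.2, mul_mem (hPS q.1.2) (hP2S q.2.2)⟩) fun q q' e => by
        have e' : (q.1 : G) * q.2 = q'.1 * q'.2 := congrArg Subtype.val e
        have e2 : (q'.1 : G)⁻¹ * q.1 = q'.2 * (q.2 : G)⁻¹ := by
          rw [inv_mul_eq_iff_eq_mul, ← mul_assoc, ← e', mul_inv_cancel_right]
        have h1 := hno _ (mul_mem (inv_mem q'.1.2) q.1.2) (e2 ▸ mul_mem q'.2.2 (inv_mem q.2.2))
        have h2 : (q.1 : G) = q'.1 := (inv_mul_eq_one.mp h1).symm
        refine Prod.ext (Subtype.ext h2) (Subtype.ext ?_)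
        rw [h2] at e'
        exact mul_left_cancel e'
    rw [Nat.card_prod, L.card, hcard2, hScard] at h
    have : 25 ≤ m := by rw [hm]; exact (show 25 = 5 ^ 2 by norm_num) ▸ Nat.pow_le_pow_right (by norm_num) hj2
    have := Nat.le_of_mul_le_mul_right h hm0
    omega
  obtain ⟨y, hy, rfl⟩ : ∃ y ∈ P, g * y * g⁻¹ = x := hx2
  have hy1 : y ≠ 1 := fun e => x1 (by rw [e, mul_one, mul_inv_cancel])
  have hVW : four t a b ≤ Subgroup.centralizer (P : Set G) := fun v hv =>
    Subgroup.mem_centralizer_iff.mpr fun z hz => (L.comm_four H T hk hv z hz).symm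
  have hPW : P ≤ Subgroup.centralizer (P : Set G) := fun x hx =>
    Subgroup.mem_centralizer_iff.mpr fun y hy => L.comm y hy x hx
  have hcentW : ∀ z ∈ P, z ≠ 1 → Subgroup.centralizer ({z} : Set G) = Subgroup.centralizer (P : Set G) := by
    intro z hz z1
    have hWz : Subgroup.centralizer (P : Set G) ≤ Subgroup.centralizer ({z} : Set G) :=
      Subgroup.centralizer_le (Set.singleton_subset_iff.mpr hz)
    refine (Subgroup.eq_of_le_of_card_ge hWz ?_).symm
    rw [(L.card_of_perfect H T hk hp3 hz z1 _ (hPW.trans hWz) (hVW.trans hWz) le_rfl R (hRW.trans hWz) hVR).1,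
      (L.card_of_perfect H T hk hp3 hz z1 _ hPW hVW hWz R hRW hVR).1]
  have ht : g⁻¹ * t * g ∈ Subgroup.centralizer (P : Set G) := by
    rw [← hcentW y hy hy1, Subgroup.mem_centralizer_singleton_iff]
    have htx := Subgroup.mem_centralizer_iff.mp (hVW (self_mem_four H T)) _ hx
    calc g⁻¹ * t * g * y = g⁻¹ * (t * (g * y * g⁻¹)) * g := by group
      _ = g⁻¹ * (g * y * g⁻¹ * t) * g := by rw [htx]
      _ = y * (g⁻¹ * t * g) := by group
  have hP2C : P2 ≤ P := by
    refine L.le_of_pgroup H T ((IsPGroup.of_card L.card).map _) ?_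
    rintro _ ⟨z, hz, rfl⟩
    rw [Subgroup.mem_centralizer_singleton_iff]
    show g * z * g⁻¹ * t = t * (g * z * g⁻¹)
    have h := Subgroup.mem_centralizer_iff.mp ht z hz
    calc g * z * g⁻¹ * t = g * (z * (g⁻¹ * t * g)) * g⁻¹ := by group
      _ = g * (g⁻¹ * t * g * z) * g⁻¹ := by rw [h]
      _ = t * (g * z * g⁻¹) := by group
  exact hgN (mem_normalizer_of_le fun z hz => hP2C ⟨z, hz, rfl⟩)

end CfsgLib.StabAlt5
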