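import Cfsg.Agent.Lib.StabAlt5.OddTools

/-!
Odd degree, symmetric case, kernel of order two: impossible.
-/

set_option autoImplicit false
set_option linter.unusedSectionVars false
set_option linter.style.haveILetI false

namespace CfsgLib.StabAlt5

open MulAction

universe u v

variable {G : Type u} [Group G] [Finite G] {Ω : Type v} [Finite Ω] [MulAction G Ω] [FaithfulSMul G Ω]
variable {a b : Ω} {t : G} (H : Hyp G a b) (T : InvIn t a b)
include H T

variable {P : Subgroup G} {p j : ℕ} (L : RegLift Ω t P p j)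
include L

theorem RegLift.cent_inter (hk : (fixPts Ω (four t a b)).ncard ≠ (fixedBy Ω t).ncard) :
    Nat.card ↥(Subgroup.centralizer (P : Set G) ⊓ Subgroup.centralizer ({t} : Set G)) ∣ p ^ j * 2 ∧
      ∀ g ∈ Subgroup.centralizer (P : Set G) ⊓ Subgroup.centralizer ({t} : Set G), Odd (orderOf g) → g ∈ P := by
  set D := Subgroup.centralizer (P : Set G) ⊓ Subgroup.centralizer ({t} : Set G) with hD
  have hmem : ∀ g ∈ D, ∃ x ∈ P, g = x ∨ g = x * t := by
    rintro g ⟨hgP, hgt⟩
    obtain ⟨x, hx, h, -, hfix, rfl⟩ := L.cent_cases H T hgt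
      fun y hy => (Subgroup.mem_centralizer_iff.mp hgP y hy).symm
    have hh : h ∈ Subgroup.centralizer ({t} : Set G) := by
      have := mul_mem (inv_mem (L.le hx)) hgt
      rwa [inv_mul_cancel_left] at this
    rcases trivial_cases H T hk hh hfix with rfl | rfl
    · exact ⟨x, hx, Or.inl (mul_one x)⟩
    · exact ⟨x, hx, Or.inr rfl⟩
  have hcomm : ∀ (x : ↥P) (z : ↥(Subgroup.zpowers t)),
      Commute (P.subtype x) ((Subgroup.zpowers t).subtype z) := by
    rintro ⟨x, hx⟩ ⟨z, hz⟩
    obtain ⟨i, rfl⟩ := Subgroup.mem_zpowers_iff.mp hz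
    exact (show Commute x t from Subgroup.mem_centralizer_singleton_iff.mp (L.le hx)).zpow_right i
  let f := P.subtype.noncommCoprod (Subgroup.zpowers t).subtype hcomm
  have hle : D ≤ f.range := by
    intro g hg
    obtain ⟨x, hx, rfl | rfl⟩ := hmem g hg
    · exact ⟨(⟨g, hx⟩, 1), by simp [f]⟩
    · exact ⟨(⟨x, hx⟩, ⟨t, Subgroup.mem_zpowers t⟩), rfl⟩
  refine ⟨(Subgroup.card_dvd_of_le hle).trans ((Subgroup.card_range_dvd f).trans ?_), fun g hg ho => ?_⟩
  · rw [Nat.card_prod, L.card, Nat.card_zpowers, orderOf_eq_prime (by rw [pow_two, T.sq]) T.ne_one]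
  · obtain ⟨x, hx, e | e⟩ := hmem g hg
    · exact e ▸ hx
    · exfalso
      have hxt : Commute x t := Subgroup.mem_centralizer_singleton_iff.mp (L.le hx)
      obtain ⟨i, hi⟩ := ho
      have h1 : g ^ orderOf g = 1 := pow_orderOf_eq_one g
      rw [e, hxt.mul_pow, ← e, hi] at h1
      have h2 : t ^ (2 * i + 1) = t := by rw [pow_succ, pow_mul, pow_two, T.sq, one_pow, one_mul]
      rw [h2] at h1
      have h3 : t ∈ P := by rw [eq_inv_of_mul_eq_one_right h1]; exact inv_mem (pow_mem hx _)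
      exact T.ne_one (L.reg t h3 a T.mem.1 T.mem.1)

theorem RegLift.not_square (h10 : swapNum t a b = 10) (hO : OuterSwap G a b)
    (hk : (fixPts Ω (four t a b)).ncard ≠ (fixedBy Ω t).ncard) (hm : Odd (fixedBy Ω t).ncard) : False := by
  classical
  haveI : Fact p.Prime := ⟨L.prime⟩
  haveI : Fact (Nat.Prime 2) := ⟨Nat.prime_two⟩
  set k := (fixPts Ω (four t a b)).ncard with hkdef
  have hmk : (fixedBy Ω t).ncard = k * k := ((affine_fix H T hm).2).resolve_left (fun e => hk e.symm)
  have hk2 : 2 ≤ k := two_le_fixPts H T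
  obtain ⟨l, -, hkl⟩ := (Nat.dvd_prime_pow L.prime).mp (show k ∣ p ^ j from L.fix_card ▸ hmk ▸ dvd_mul_right k k)
  have hjl : j = 2 * l := by
    refine Nat.pow_right_injective L.prime.two_le ?_
    show p ^ j = p ^ (2 * l)
    rw [← L.fix_card, hmk, hkl, ← pow_add, two_mul]
  have hl1 : 1 ≤ l := by
    rcases Nat.eq_zero_or_pos l with e | e
    · rw [e, pow_zero] at hkl; omega
    · exact e
  have hp3 : p = 3 → 2 ≤ j := fun _ => by omega
  obtain ⟨hD, hDodd⟩ := L.cent_inter H T hk
  set W := Subgroup.centralizer (P : Set G) with hW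
  have hPW : P ≤ W := fun x hx => Subgroup.mem_centralizer_iff.mpr fun y hy => L.comm y hy x hx
  have htW : t ∈ W := Subgroup.mem_centralizer_iff.mpr fun y hy =>
    Subgroup.mem_centralizer_singleton_iff.mp (L.le hy)
  have hpo : ¬ 2 ∣ p ^ j := fun h => Nat.not_even_iff_odd.mpr L.odd.pow (even_iff_two_dvd.mpr h)
  -- the Sylow 2-subgroup of `W` has order two
  let tW : ↥W := ⟨t, htW⟩
  have htW2 : orderOf tW = 2 := orderOf_eq_prime (by rw [pow_two]; exact Subtype.ext T.sq)
    fun e => T.ne_one (congrArg Subtype.val e)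
  obtain ⟨S, hS⟩ := (IsPGroup.of_card (n := 1) (by rw [Nat.card_zpowers, htW2, pow_one]) :
    IsPGroup 2 (Subgroup.zpowers tW)).exists_le_sylow
  have hStw : tW ∈ (S : Subgroup ↥W) := hS (Subgroup.mem_zpowers _)
  have hScent : ∀ K : Subgroup ↥W, K ≤ (S : Subgroup ↥W) →
      (∀ x ∈ K, (x : G) * t = t * x) → Nat.card K ≤ 2 := by
    intro K hKS hKt
    obtain ⟨i, hi⟩ := IsPGroup.iff_card.mp (S.2.to_le hKS)
    have hle : K.map W.subtype ≤ W ⊓ Subgroup.centralizer ({t} : Set G) := by
      rintro _ ⟨x, hx, rfl⟩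
      exact ⟨x.2, Subgroup.mem_centralizer_singleton_iff.mpr (hKt x hx)⟩
    have hd := (Subgroup.card_dvd_of_le hle).trans hD
    rw [Subgroup.card_map_of_injective W.subtype_injective, hi] at hd
    have hcop : Nat.Coprime (2 ^ i) (p ^ j) :=
      Nat.Coprime.pow_left i ((Nat.prime_two.coprime_iff_not_dvd).mpr hpo)
    rw [hi]
    exact Nat.le_of_dvd (by norm_num) (hcop.dvd_of_dvd_mul_left hd)
  have hScard : Nat.card (S : Subgroup ↥W) = 2 := by
    have hne : Nontrivial (S : Subgroup ↥W) := ⟨⟨⟨tW, hStw⟩, 1, fun e => T.ne_one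
      (congrArg (fun z : (S : Subgroup ↥W) => ((z : ↥W) : G)) e)⟩⟩
    have hone : (2 : ℕ) ≤ Nat.card (S : Subgroup ↥W) := Finite.one_lt_card_iff_nontrivial.mpr hne
    haveI := S.2.center_nontrivial
    obtain ⟨⟨z, hz⟩, z1⟩ := exists_ne (1 : Subgroup.center (S : Subgroup ↥W))
    have hztc : ((z : ↥W) : G) * t = t * ((z : ↥W) : G) :=
      (congrArg (fun w : (S : Subgroup ↥W) => ((w : ↥W) : G)) (Subgroup.mem_center_iff.mp hz ⟨tW, hStw⟩)).symm
    have hzt : ((z : ↥W) : G) = t := by
      by_contra hne'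
      have h2 := hScent ((Subgroup.zpowers (z : ↥W)) ⊔ Subgroup.zpowers tW)
        (sup_le (Subgroup.zpowers_le.mpr z.2) (Subgroup.zpowers_le.mpr hStw)) (fun x hx => by
        have hle : Subgroup.zpowers (z : ↥W) ⊔ Subgroup.zpowers tW ≤
            Subgroup.centralizer ({tW} : Set ↥W) := sup_le
          (Subgroup.zpowers_le.mpr (Subgroup.mem_centralizer_singleton_iff.mpr (Subtype.ext hztc)))
          (Subgroup.zpowers_le.mpr (Subgroup.mem_centralizer_singleton_iff.mpr rfl))
        exact congrArg Subtype.val (Subgroup.mem_centralizer_singleton_iff.mp (hle hx)))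
      have hsub : ({1, tW, (z : ↥W)} : Set ↥W) ⊆
          ((Subgroup.zpowers (z : ↥W) ⊔ Subgroup.zpowers tW : Subgroup ↥W) : Set ↥W) := by
        rintro x (rfl | rfl | rfl)
        exacts [one_mem _, Subgroup.mem_sup_right (Subgroup.mem_zpowers _),
          Subgroup.mem_sup_left (Subgroup.mem_zpowers _)]
      have h3 := Set.ncard_le_ncard hsub (Set.toFinite _)
      have hz1 : (z : ↥W) ≠ 1 := fun e => z1 (Subtype.ext (Subtype.ext e))
      have htz : tW ≠ (z : ↥W) := fun e => hne' (congrArg Subtype.val e).symm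
      have ht1 : tW ≠ 1 := fun e => T.ne_one (congrArg Subtype.val e)
      rw [Set.ncard_insert_of_notMem (by simp [ht1.symm, hz1.symm]), Set.ncard_pair htz, ← Nat.card_coe_set_eq] at h3
      exact absurd (h3.trans h2) (by norm_num)
    refine le_antisymm (hScent _ le_rfl fun x hx => ?_) hone
    have := congrArg (fun w : (S : Subgroup ↥W) => ((w : ↥W) : G)) (Subgroup.mem_center_iff.mp hz ⟨x, hx⟩)
    simp only [Subgroup.coe_mul] at this
    rw [hzt] at this
    exact this
  have hSeq : (S : Subgroup ↥W) = Subgroup.zpowers tW :=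
    (Subgroup.eq_of_le_of_card_ge hS (by rw [hScard, Nat.card_zpowers, htW2])).symm
  -- the normal 2-complement
  have hNC : Subgroup.normalizer ((S : Subgroup ↥W) : Set ↥W) ≤
      Subgroup.centralizer ((S : Subgroup ↥W) : Set ↥W) := by
    intro g hg
    refine Subgroup.mem_centralizer_iff.mpr fun x hx => ?_
    by_cases x1 : x = 1
    · simp [x1]
    have hgx := (Subgroup.mem_normalizer_iff.mp hg x).mp hx
    have hgx1 : g * x * g⁻¹ ≠ 1 := fun e => x1 (conj_eq_one_iff.mp e)
    have two : ∀ y ∈ (S : Subgroup ↥W), y ≠ 1 → y = tW := by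
      intro y hy y1
      rw [hSeq] at hy
      obtain ⟨i, rfl⟩ := Subgroup.mem_zpowers_iff.mp hy
      have h2 : tW * tW = 1 := Subtype.ext T.sq
      rcases Int.even_or_odd' i with ⟨k', rfl | rfl⟩
      · exact absurd (by rw [zpow_mul, zpow_two, h2, one_zpow]) y1
      · rw [zpow_add, zpow_mul, zpow_two, h2, one_zpow, one_mul, zpow_one]
    have e := two _ hgx hgx1
    rw [two x hx x1] at e ⊢
    exact (mul_inv_eq_iff_eq_mul.mp e).symm
  set K := (MonoidHom.transferSylow S hNC).ker with hK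
  have hKc : Nat.card K * 2 = Nat.card W := by
    have h := (MonoidHom.ker_transferSylow_isComplement' S hNC).card_mul_card
    rwa [hScard] at h
  have hKodd : Odd (Nat.card K) := Nat.not_even_iff_odd.mp fun h => by
    exact MonoidHom.not_dvd_card_ker_transferSylow S hNC (even_iff_two_dvd.mp h)
  have hoddK : ∀ x : ↥W, Odd (orderOf x) → x ∈ K := fun x hx => by
    rw [hK, MonoidHom.mem_ker]
    have h1 : orderOf (MonoidHom.transferSylow S hNC x) ∣ orderOf x := orderOf_map_dvd _ x
    have h2 : orderOf (MonoidHom.transferSylow S hNC x) ∣ 2 := by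
      have := orderOf_dvd_natCard (MonoidHom.transferSylow S hNC x)
      rwa [hScard] at this
    rcases (Nat.dvd_prime Nat.prime_two).mp h2 with e | e
    · exact orderOf_eq_one_iff.mp e
    · exact absurd (e ▸ h1) (fun h => Nat.not_even_iff_odd.mpr hx (even_iff_two_dvd.mpr h))
  set W0 := K.map W.subtype with hW0
  have hW0odd : Odd (Nat.card W0) := by rw [hW0, Subgroup.card_map_of_injective W.subtype_injective]; exact hKodd
  have hW0mem : ∀ x, x ∈ W0 ↔ x ∈ W ∧ Odd (orderOf x) := fun x => by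
    constructor
    · intro hx
      refine ⟨Subgroup.map_subtype_le K hx, hW0odd.of_dvd_nat (Subgroup.orderOf_dvd_natCard W0 hx)⟩
    · rintro ⟨hx, ho⟩
      exact ⟨⟨x, hx⟩, hoddK _ (by rwa [← Subgroup.orderOf_coe]), rfl⟩
  have hPW0 : P ≤ W0 := fun x hx => (hW0mem x).mpr ⟨hPW hx, by
    have h := Subgroup.orderOf_dvd_natCard P hx
    rw [L.card] at h
    exact L.odd.pow.of_dvd_nat h⟩
  have hWnorm : ∀ g : G, g ∈ Subgroup.normalizer (P : Set G) → ∀ x ∈ W, g * x * g⁻¹ ∈ W := by
    intro g hg x hx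
    refine Subgroup.mem_centralizer_iff.mpr fun y hy => ?_
    have h := Subgroup.mem_centralizer_iff.mp hx _ ((Subgroup.mem_normalizer_iff''.mp hg y).mp hy)
    calc y * (g * x * g⁻¹) = g * (g⁻¹ * y * g * x) * g⁻¹ := by group
      _ = g * (x * (g⁻¹ * y * g)) * g⁻¹ := by rw [h]
      _ = g * x * g⁻¹ * y := by group
  have hCtN : ∀ g ∈ Subgroup.centralizer ({t} : Set G), g ∈ Subgroup.normalizer (P : Set G) :=
    fun g hg => mem_normalizer_of_le (L.normal g hg)
  have hW0conj : ∀ g : G, g ∈ Subgroup.normalizer (P : Set G) → ∀ x ∈ W0, g * x * g⁻¹ ∈ W0 := by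
    intro g hg x hx
    obtain ⟨hxW, ho⟩ := (hW0mem x).mp hx
    refine (hW0mem _).mpr ⟨hWnorm g hg x hxW, ?_⟩
    rwa [show g * x * g⁻¹ = MulAut.conj g x from rfl, MulEquiv.orderOf_eq]
  -- the outer element
  obtain ⟨τ, hτs, hτ2, hτt, v, hv, hτv⟩ := hO.2.2 t T
  have hvt : v ≠ t := fun e => hτv (by rw [e]; exact hτt)
  have hv1 : v ≠ 1 := fun e => hτv (by simp [e])
  have hV := four_list T H hv hv1 hvt
  have hvC : v ∈ Subgroup.centralizer ({t} : Set G) :=
    Subgroup.mem_centralizer_singleton_iff.mpr (four_comm H T hv (self_mem_four H T))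
  have hτC : τ ∈ Subgroup.centralizer ({t} : Set G) := Subgroup.mem_centralizer_singleton_iff.mpr hτt
  have hτv' : τ * v * τ⁻¹ = t * v := by
    have hmem : τ * v * τ⁻¹ ∈ four t a b := by
      refine mem_four.mpr ⟨Swaps.conj_mem hτs (mem_four.mp hv).1, ?_⟩
      have hτi : τ⁻¹ = τ := inv_eq_of_mul_eq_one_left hτ2
      calc τ * v * τ⁻¹ * t = τ * v * (τ⁻¹ * t) := by group
        _ = τ * v * (t * τ⁻¹) := by rw [hτi, hτt]
        _ = τ * (v * t) * τ⁻¹ := by group
        _ = τ * (t * v) * τ⁻¹ := by rw [four_comm H T hv (self_mem_four H T)]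
        _ = (τ * t) * v * τ⁻¹ := by group
        _ = t * τ * v * τ⁻¹ := by rw [hτt]
        _ = t * (τ * v * τ⁻¹) := by group
    rcases (hV _).mp hmem with e | e | e | e
    · exact absurd (conj_eq_one_iff.mp e) hv1
    · exfalso
      refine hvt ?_
      rw [← mul_left_cancel_iff (a := τ), hτt]
      exact mul_inv_eq_iff_eq_mul.mp e
    · exact absurd (mul_inv_eq_iff_eq_mul.mp e) hτv
    · exact e
  have htv1 : t * v ≠ 1 := fun e => hvt (by rw [eq_inv_of_mul_eq_one_right e, inv_eq_of_mul_eq_one_left T.sq])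
  have htv : t * v ∈ four t a b := mul_mem (self_mem_four H T) hv
  -- the centralisers in `W₀` of the involutions of the four group
  have hCt : W0 ⊓ Subgroup.centralizer ({t} : Set G) = P :=
    le_antisymm (fun x hx => hDodd x ⟨((hW0mem x).mp hx.1).1, hx.2⟩ ((hW0mem x).mp hx.1).2)
      (fun x hx => ⟨hPW0 hx, L.le hx⟩)
  have hd : W0 ⊓ Subgroup.centralizer (four t a b : Set G) = P ⊓ Subgroup.centralizer ({v} : Set G) := by
    apply le_antisymm
    · rintro x ⟨hx, hxV⟩
      have hxt : x ∈ Subgroup.centralizer ({t} : Set G) :=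
        Subgroup.centralizer_le (Set.singleton_subset_iff.mpr (self_mem_four H T)) hxV
      exact ⟨hCt.le ⟨hx, hxt⟩, Subgroup.centralizer_le (Set.singleton_subset_iff.mpr hv) hxV⟩
    · rintro x ⟨hx, hxv⟩
      refine ⟨hPW0 hx, Subgroup.mem_centralizer_iff.mpr fun y hy => ?_⟩
      have ct : x * t = t * x := Subgroup.mem_centralizer_singleton_iff.mp (L.le hx)
      have cv : x * v = v * x := Subgroup.mem_centralizer_singleton_iff.mp hxv
      rcases (hV y).mp hy with rfl | rfl | rfl | rfl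
      · simp
      · exact ct.symm
      · exact cv.symm
      · exact ((show Commute x t from ct).mul_right cv).eq.symm
  have hab : ∀ v ∈ four t a b, v ≠ 1 → v ≠ t →
      Nat.card ↥(W0 ⊓ Subgroup.centralizer ({v} : Set G)) ∣ p ^ j ∧
      p ^ l ∣ Nat.card ↥(W0 ⊓ Subgroup.centralizer ({v} : Set G)) := by
    intro v hv hv1 hvt
    have Tv := invIn_four H T hv hv1
    have hfix : (fixedBy Ω v).ncard = (fixedBy Ω t).ncard := conjSet_fix H T (mem_conjSet H T Tv)
    have hmv : Odd (fixedBy Ω v).ncard := hfix ▸ hm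
    obtain ⟨Pv, p', j', Lv⟩ := exists_regLift H Tv hmv
    have hpp : p' = p := by
      have e : p' ^ j' = p ^ j := by rw [← Lv.fix_card, ← L.fix_card, hfix]
      have h1 : p' ∣ p ^ j := e ▸ dvd_pow_self p' (by have := Lv.pos; omega)
      exact (Nat.prime_dvd_prime_iff_eq Lv.prime L.prime).mp (Lv.prime.dvd_of_dvd_pow h1)
    subst hpp
    have hPvc : Nat.card Pv = p' ^ j := by rw [Lv.card, ← Lv.fix_card, hfix, L.fix_card]
    obtain ⟨x₀, hx₀, hx₀v, hx₀b⟩ := L.exists_cent H T hv
    have hQ : P ⊓ Subgroup.centralizer ({v} : Set G) ≤ Pv := Lv.le_of_pgroup H Tv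
      ((IsPGroup.of_card L.card).to_le inf_le_left) inf_le_right
    constructor
    · rw [← hPvc]
      refine Subgroup.card_dvd_of_le ?_
      rintro g ⟨hg, hgv⟩
      obtain ⟨hgW, ho⟩ := (hW0mem g).mp hg
      obtain ⟨π, hπ, hπa, hπC⟩ := Lv.decompose H Tv g hgv
      have hx₀' : x₀ ∈ Pv := hQ ⟨hx₀, Subgroup.mem_centralizer_singleton_iff.mpr hx₀v⟩
      have hgb : (π⁻¹ * g) • b = b := by
        have hc : (π⁻¹ * g) * x₀ = x₀ * (π⁻¹ * g) := by
          rw [mul_assoc, ← Subgroup.mem_centralizer_iff.mp hgW x₀ hx₀, ← mul_assoc,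
            Lv.comm _ (inv_mem hπ) x₀ hx₀', mul_assoc]
        rw [← hx₀b, ← mul_smul, hc, mul_smul, hπa]
      have hh : π⁻¹ * g ∈ four v a b :=
        mem_four.mpr ⟨⟨hπa, hgb⟩, Subgroup.mem_centralizer_singleton_iff.mp hπC⟩
      have h2 := four_sq H Tv hh
      set h := π⁻¹ * g with hhdef
      have hgeq : g = π * h := by rw [hhdef]; group
      have hg2 : g ^ 2 ∈ Pv := by
        rw [pow_two, hgeq, show π * h * (π * h) = π * (h * π * h⁻¹) * (h * h) by group, h2, mul_one]
        exact mul_mem hπ (Lv.normal h hπC π hπ)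
      obtain ⟨i, hi⟩ := ho
      have : g = (g ^ 2) ^ (i + 1) := by
        rw [← pow_mul, show 2 * (i + 1) = (2 * i + 1) + 1 by ring, pow_succ, ← hi, pow_orderOf_eq_one, one_mul]
      rw [this]
      exact pow_mem hg2 _
    · rw [← hkl, hkdef, ← L.card_cent_four H T hv hv1 hvt]
      exact Subgroup.card_dvd_of_le (inf_le_inf_right _ hPW0)
  obtain ⟨hA1, hA2⟩ := hab v hv hv1 hvt
  obtain ⟨i, -, hi⟩ := (Nat.dvd_prime_pow L.prime).mp hA1
  have hli : l ≤ i := (Nat.pow_dvd_pow_iff_le_right L.prime.one_lt).mp (hi ▸ hA2)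
  have hswap : Nat.card ↥(W0 ⊓ Subgroup.centralizer ({t * v} : Set G)) =
      Nat.card ↥(W0 ⊓ Subgroup.centralizer ({v} : Set G)) := by
    symm
    refine Nat.card_congr ((MulAut.conj τ).toEquiv.subtypeEquiv fun x => ?_)
    show x ∈ W0 ⊓ _ ↔ τ * x * τ⁻¹ ∈ W0 ⊓ _
    rw [Subgroup.mem_inf, Subgroup.mem_inf, Subgroup.mem_centralizer_singleton_iff,
      Subgroup.mem_centralizer_singleton_iff, ← hτv', conj_mul, conj_mul]
    exact and_congr ⟨fun h => hW0conj τ (hCtN τ hτC) x h, fun h => by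
        simpa [mul_assoc] using hW0conj τ⁻¹ (inv_mem (hCtN τ hτC)) _ h⟩
      ⟨fun h => by rw [h], fun h => mul_left_cancel (mul_right_cancel h)⟩
  have hform := four_formula hW0odd T.sq (four_sq H T hv) (four_comm H T (self_mem_four H T) hv) T.ne_one hv1
    (Ne.symm hvt) (hW0conj t (hCtN t (Subgroup.mem_centralizer_singleton_iff.mpr rfl)))
    (hW0conj v (hCtN v hvC)) hV
  rw [hd, L.card_cent_four H T hv hv1 hvt, hCt, L.card, hswap, hi, ← hkdef, hkl, hjl] at hform
  have hW0c : Nat.card W0 = p ^ (2 * i) := by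
    refine Nat.eq_of_mul_eq_mul_right (pow_pos (pow_pos L.prime.pos l) 2) ?_
    rw [hform]
    ring
  have hil : i = l := by
    by_contra hne
    have hd2 : p ^ (2 * i) ∣ Nat.card G := hW0c ▸ Subgroup.card_subgroup_dvd_card W0
    by_cases h5 : p = 5
    · subst h5
      exact (order_five H T h10 L.pos L.fix_card).2 ((Nat.pow_dvd_pow 5 (by omega)).trans hd2)
    · exact not_dvd_order H T h10 L.prime L.odd L.pos L.fix_card hp3 h5
        ((Nat.pow_dvd_pow p (by omega)).trans hd2)
  have hW0P : W0 = P := (Subgroup.eq_of_le_of_card_ge hPW0 (by rw [hW0c, L.card, hil, hjl])).symm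
  -- the only involution of `W` is `t`
  have hinvW : ∀ g ∈ W, g * g = 1 → g ≠ 1 → g = t := by
    intro g hg g2 g1
    have hKP : ∀ x : ↥W, x ∈ K ↔ (x : G) ∈ P := fun x => by
      rw [← hW0P, hW0]
      exact ⟨fun h => ⟨x, h, rfl⟩, fun ⟨y, hy, e⟩ => (Subtype.ext e : y = x) ▸ hy⟩
    obtain ⟨⟨⟨κ, hκ⟩, ⟨σ, hσ⟩⟩, he, -⟩ :=
      Subgroup.isComplement_iff_existsUnique.mp (MonoidHom.ker_transferSylow_isComplement' S hNC) ⟨g, hg⟩
    rw [SetLike.mem_coe, hSeq] at hσ
    obtain ⟨i', rfl⟩ := Subgroup.mem_zpowers_iff.mp hσ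
    have hx : ((κ : ↥W) : G) ∈ P := (hKP κ).mp hκ
    have hge : g = ((κ : ↥W) : G) * t ^ i' := by
      have := congrArg Subtype.val he
      simpa using this.symm
    have hct : Commute ((κ : ↥W) : G) t := Subgroup.mem_centralizer_singleton_iff.mp (L.le hx)
    have hxsq : ((κ : ↥W) : G) * κ = 1 := by
      have h := g2
      rw [hge, show ((κ : ↥W) : G) * t ^ i' * (((κ : ↥W) : G) * t ^ i') =
        ((κ : ↥W) : G) * (t ^ i' * ((κ : ↥W) : G)) * t ^ i' by group, ← (hct.zpow_right i').eq,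
        show ((κ : ↥W) : G) * (((κ : ↥W) : G) * t ^ i') * t ^ i' =
          ((κ : ↥W) : G) * ((κ : ↥W) : G) * (t * t) ^ i' by rw [Commute.mul_zpow (Commute.refl t)]; group,
        T.sq, one_zpow, mul_one] at h
      exact h
    have hκ1 : ((κ : ↥W) : G) = 1 := by
      by_contra hne
      have h2 : orderOf ((κ : ↥W) : G) = 2 := orderOf_eq_prime (by rw [pow_two, hxsq]) hne
      exact hpo (h2 ▸ L.card ▸ Subgroup.orderOf_dvd_natCard P hx)
    rw [hκ1, one_mul] at hge
    rcases Int.even_or_odd' i' with ⟨k', rfl | rfl⟩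
    · exact absurd (by rw [hge, zpow_mul, zpow_two, T.sq, one_zpow]) g1
    · rw [hge, zpow_add, zpow_mul, zpow_two, T.sq, one_zpow, one_mul, zpow_one]
  have hNP : Subgroup.normalizer (P : Set G) = Subgroup.centralizer ({t} : Set G) := by
    refine le_antisymm (fun g hg => ?_) hCtN
    refine Subgroup.mem_centralizer_singleton_iff.mpr (mul_inv_eq_iff_eq_mul.mp ?_)
    exact hinvW _ (hWnorm g hg t htW) (by rw [conj_mul, T.sq, mul_one, mul_inv_cancel])
      (fun e => T.ne_one (conj_eq_one_iff.mp e))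
  have hndvd : ¬ p ^ (j + 1) ∣ Nat.card ↥(Subgroup.normalizer (P : Set G)) := by
    rw [hNP, (card_cent H T).1, L.fix_card, pow_succ]
    intro h
    have := Nat.dvd_of_mul_dvd_mul_left (pow_pos L.prime.pos j) h
    have h' := L.not_dvd_pred H T
    rw [L.fix_card] at h'
    exact h' this
  by_cases h5 : p = 5
  · subst h5
    refine hndvd ?_
    exact Sylow.prime_pow_dvd_card_normalizer (order_five H T h10 L.pos L.fix_card).1 L.card
  · have hndG := not_dvd_order H T h10 L.prime L.odd L.pos L.fix_card hp3 h5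
    have hfac : (Nat.card G).factorization p = j := by
      have h1 : j ≤ (Nat.card G).factorization p := (L.prime.pow_dvd_iff_le_factorization Nat.card_pos.ne').mp
        (L.card ▸ Subgroup.card_subgroup_dvd_card P)
      have h2 : ¬ j + 1 ≤ (Nat.card G).factorization p := fun h =>
        hndG ((L.prime.pow_dvd_iff_le_factorization Nat.card_pos.ne').mpr h)
      omega
    let SP : Sylow p G := Sylow.ofCard P (by rw [L.card, hfac])
    have hcount : Nat.card (Sylow p G) = (Subgroup.centralizer ({t} : Set G)).index := by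
      rw [Sylow.card_eq_index_normalizer SP]
      show (Subgroup.normalizer (P : Set G)).index = _
      rw [hNP]
    have hmod := card_sylow_modEq_one p G
    rw [hcount] at hmod
    set I := (Subgroup.centralizer ({t} : Set G)).index with hI
    have hIG : (fixedBy Ω t).ncard * (((fixedBy Ω t).ncard - 1) * 4) * I = Nat.card G := by
      rw [← (card_cent H T).1, hI, Subgroup.card_mul_index]
    obtain ⟨-, hG⟩ := order_ten H T h10
    have hm2 := two_le_fix H T
    have h3I : 3 * I = 5 * ((2 * (fixedBy Ω t).ncard + 1) * (2 * (fixedBy Ω t).ncard + 3)) := by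
      have hpos : 0 < 12 * ((fixedBy Ω t).ncard * ((fixedBy Ω t).ncard - 1)) :=
        Nat.mul_pos (by norm_num) (Nat.mul_pos (by omega) (by omega))
      refine Nat.eq_of_mul_eq_mul_left hpos ?_
      rw [← hIG] at hG
      calc 12 * ((fixedBy Ω t).ncard * ((fixedBy Ω t).ncard - 1)) * (3 * I) =
          9 * ((fixedBy Ω t).ncard * (((fixedBy Ω t).ncard - 1) * 4) * I) := by ring
        _ = _ := by rw [hG]; ring
    have hpm : p ∣ (fixedBy Ω t).ncard := by rw [L.fix_card]; exact dvd_pow_self p (by have := L.pos; omega)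
    by_cases h3 : p = 3
    · subst h3
      obtain ⟨u, hu⟩ : 9 ∣ (fixedBy Ω t).ncard := by
        rw [L.fix_card]; exact (show (9 : ℕ) = 3 ^ 2 by norm_num) ▸ Nat.pow_dvd_pow 3 (by omega)
      rw [hu] at h3I
      have h4 : I = 5 * ((18 * u + 1) * (6 * u + 1)) := by
        have e : 5 * ((2 * (9 * u) + 1) * (2 * (9 * u) + 3)) = 3 * (5 * ((18 * u + 1) * (6 * u + 1))) := by ring
        omega
      unfold Nat.ModEq at hmod
      rw [h4, show 5 * ((18 * u + 1) * (6 * u + 1)) = 3 * (180 * u * u + 40 * u + 1) + 2 by ring] at hmod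
      omega
    · obtain ⟨c, hc⟩ := hpm
      have hmodz : ((I : ℕ) : ZMod p) = 1 := by
        simpa using (ZMod.natCast_eq_natCast_iff' I 1 p).mpr hmod
      have h := congrArg (fun n : ℕ => (n : ZMod p)) h3I
      rw [hc] at h
      push_cast at h
      rw [hmodz, ZMod.natCast_self] at h
      have h12 : ((12 : ℕ) : ZMod p) = 0 := by push_cast; linear_combination -h
      have hdvd : p ∣ 2 ^ 2 * 3 := (ZMod.natCast_eq_zero_iff _ _).mp h12
      rcases L.prime.dvd_mul.mp hdvd with h' | h'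
      · have e := (Nat.prime_dvd_prime_iff_eq L.prime Nat.prime_two).mp (L.prime.dvd_of_dvd_pow h')
        have ho := L.odd
        rw [e] at ho
        exact absurd ho (by decide)
      · exact h3 ((Nat.prime_dvd_prime_iff_eq L.prime Nat.prime_three).mp h')

end CfsgLib.StabAlt5
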