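import Cfsg.Agent.Lib.StabAlt5.Setting
import Cfsg.Agent.Lib.M11Det.Basic

/-!
Recognition of the groups of degree 7 and 12.
-/

set_option autoImplicit false
set_option linter.unusedSectionVars false
set_option linter.style.haveILetI false

namespace CfsgLib.StabAlt5

open MulAction

universe u v

variable {G : Type u} [Group G] [Finite G] {Ω : Type v} [Finite Ω] [MulAction G Ω] [FaithfulSMul G Ω]

theorem iso_alt_seven (hG : Nat.card G = 2520) (hn : Nat.card Ω = 7) :
    Nonempty (G ≃* ↥(alternatingGroup (Fin 7))) := by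
  classical
  haveI := Fintype.ofFinite Ω
  have e : Ω ≃ Fin 7 := (Fintype.equivFinOfCardEq (by rw [← Nat.card_eq_fintype_card]; exact hn))
  let φ : G →* Equiv.Perm (Fin 7) := e.permCongrHom.toMonoidHom.comp (toPermHom G Ω)
  have hinj : Function.Injective φ := e.permCongrHom.injective.comp toPerm_injective
  have hr : φ.range.index = 2 := by
    have h := Subgroup.card_mul_index φ.range
    rw [Nat.card_congr (MonoidHom.ofInjective hinj).toEquiv.symm, hG, Nat.card_perm, Nat.card_fin] at h
    norm_num [Nat.factorial] at h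
    omega
  have heq : φ.range = alternatingGroup (Fin 7) := Equiv.Perm.eq_alternatingGroup_of_index_eq_two hr
  exact ⟨(MonoidHom.ofInjective hinj).trans (MulEquiv.subgroupCongr heq)⟩

theorem cent_eleven (hn : Nat.card Ω = 12) {g : G} (hg : orderOf g = 11) :
    Nat.card ↥(Subgroup.centralizer ({g} : Set G)) = 11 := by
  classical
  haveI : Fact (Nat.Prime 11) := ⟨by norm_num⟩
  haveI := Fintype.ofFinite Ω
  set Z := Subgroup.zpowers g with hZ
  have hZc : Nat.card Z = 11 := by rw [hZ, Nat.card_zpowers, hg]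
  have g1 : g ≠ 1 := fun e => by simp [e] at hg
  obtain ⟨d, hd⟩ : ∃ d : Ω, g • d ≠ d := by
    by_contra h
    push Not at h
    exact g1 (eq_of_smul_eq_smul (α := Ω) fun d => by rw [h d, one_smul])
  have hOd : (orbit Z d).ncard = 11 := by
    have h := index_stabilizer Z d
    have hdv : (stabilizer Z d).index ∣ 11 := hZc ▸ Subgroup.index_dvd_card _
    rcases (Nat.dvd_prime (by norm_num)).mp hdv with e | e
    · exfalso
      have : (⟨g, Subgroup.mem_zpowers g⟩ : Z) ∈ stabilizer Z d := Subgroup.index_eq_one.mp e ▸ Subgroup.mem_top _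
      exact hd this
    · rw [← h, e]
  obtain ⟨c, hc⟩ : ∃ c, (orbit Z d)ᶜ = {c} := Set.ncard_eq_one.mp (by rw [Set.ncard_compl, hn, hOd])
  have hcn : c ∉ orbit Z d := (hc.symm ▸ Set.mem_singleton c : c ∈ (orbit Z d)ᶜ)
  have hfix : ∀ x : Ω, g • x = x → x = c := fun x hx => by
    by_contra hne
    have hxO : x ∈ orbit Z d := by
      by_contra h
      exact hne (Set.mem_singleton_iff.mp (hc ▸ h : x ∈ ({c} : Set Ω)))
    obtain ⟨⟨z, hz⟩, rfl⟩ := hxO
    obtain ⟨i, rfl⟩ := Subgroup.mem_zpowers_iff.mp hz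
    apply hd
    have hx' : g • (g ^ i) • d = (g ^ i) • d := hx
    rw [← mul_smul, show g * g ^ i = g ^ i * g from (Commute.self_zpow g i).eq, mul_smul] at hx'
    exact MulAction.injective (g ^ i) hx'
  have hgc : g • c = c := by
    by_contra h
    have hm : g • c ∈ orbit Z d := by
      by_contra h'
      exact h (Set.mem_singleton_iff.mp (hc ▸ h' : g • c ∈ ({c} : Set Ω)))
    obtain ⟨⟨z, hz⟩, hzd⟩ := hm
    exact hcn ⟨⟨g⁻¹ * z, mul_mem (inv_mem (Subgroup.mem_zpowers g)) hz⟩, by
      show (g⁻¹ * z) • d = c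
      rw [mul_smul, show z • d = g • c from hzd, inv_smul_smul]⟩
  refine le_antisymm ?_ ?_
  · rw [← hOd, ← Nat.card_coe_set_eq]
    refine Nat.card_le_card_of_injective (fun x => ⟨(x : G) • d, ?_⟩) fun x y e => Subtype.ext ?_
    · by_contra h
      have hxd : (x : G) • d = c := Set.mem_singleton_iff.mp (hc ▸ h : (x : G) • d ∈ ({c} : Set Ω))
      have hxc : g • (x : G) • d = (x : G) • g • d := by
        rw [← mul_smul, ← Subgroup.mem_centralizer_singleton_iff.mp x.2, mul_smul]
      rw [hxd, hgc, ← hxd] at hxc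
      exact hd (MulAction.injective (x : G) hxc).symm
    · have e' : (x : G) • d = (y : G) • d := congrArg Subtype.val e
      refine eq_of_smul_eq_smul (α := Ω) fun z => ?_
      by_cases hz : z ∈ orbit Z d
      · obtain ⟨⟨w, hw⟩, rfl⟩ := hz
        obtain ⟨i, rfl⟩ := Subgroup.mem_zpowers_iff.mp hw
        show (x : G) • (g ^ i) • d = (y : G) • (g ^ i) • d
        rw [← mul_smul, ← mul_smul,
          (Commute.zpow_right (show Commute (x : G) g from Subgroup.mem_centralizer_singleton_iff.mp x.2) i).eq,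
          (Commute.zpow_right (show Commute (y : G) g from Subgroup.mem_centralizer_singleton_iff.mp y.2) i).eq,
          mul_smul, mul_smul, e']
      · have hzc : z = c := Set.mem_singleton_iff.mp (hc ▸ hz : z ∈ ({c} : Set Ω))
        have hfx : ∀ w : ↥(Subgroup.centralizer ({g} : Set G)), (w : G) • c = c := fun w => hfix _ (by
          rw [← mul_smul, ← Subgroup.mem_centralizer_singleton_iff.mp w.2, mul_smul, hgc])
        rw [hzc, hfx, hfx]
  · rw [← hg, ← Nat.card_zpowers]
    exact Subgroup.card_le_of_le (Subgroup.zpowers_le.mpr (Subgroup.mem_centralizer_singleton_iff.mpr rfl))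

theorem iso_m11 (hG : Nat.card G = 7920) (hn : Nat.card Ω = 12) : Cfsg.Spor.IsoM11 G :=
  CfsgM11Det.iso_of_cent hG fun _ hg => cent_eleven hn hg

end CfsgLib.StabAlt5
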