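import Cfsg.Agent.Lib.StabAlt5.Exceptional
import Cfsg.Agent.Lib.StabAlt5.Recog
import Cfsg.Agent.Lib.StabAlt5.OddSquare
import Cfsg.Agent.Lib.StabAlt5.OddEqual

/-!
Doubly transitive groups with two-point stabiliser of type `A₅` and no regular normal subgroup.
-/

set_option autoImplicit false
set_option linter.unusedSectionVars false
set_option linter.style.haveILetI false

namespace CfsgLib.StabAlt5

open MulAction

universe u v

variable {G : Type u} [Group G] [Finite G] {Ω : Type v} [Finite Ω] [MulAction G Ω] [FaithfulSMul G Ω]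

/-- The two examples. -/
theorem classification {a b : Ω} (H : Hyp G a b) (hnr : NoRegular G Ω) :
    (Nat.card Ω = 7 ∧ Nonempty (G ≃* ↥(alternatingGroup (Fin 7)))) ∨
      (Nat.card Ω = 12 ∧ Cfsg.Spor.IsoM11 G) := by
  obtain ⟨t, T⟩ := H.exists_inv
  have hG := H.card_group
  rcases Nat.even_or_odd (fixedBy Ω t).ncard with hm | hm
  · rcases even_outcome H T hm with ⟨-, hn⟩ | ⟨-, hm900, hk30⟩
    · rw [hn] at hG
      exact Or.inr ⟨hn, iso_m11 hG hn⟩
    · exfalso
      have hk : (fixPts Ω (four t a b)).ncard ≠ (fixedBy Ω t).ncard := by omega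
      obtain ⟨v, hv, v1, vt⟩ := exists_other H T
      obtain ⟨h2, hfix⟩ := twoHyp_of_ne H T hk hv v1 vt
      exact h2.not_nine_hundred (by rw [Nat.card_coe_set_eq]; exact hm900) (by rw [hfix, hk30])
  · rcases swap_cases H T with ⟨h10, hO⟩ | h | h
    · obtain ⟨P, p, j, L⟩ := exists_regLift H T hm
      by_cases hk : (fixPts Ω (four t a b)).ncard = (fixedBy Ω t).ncard
      · have hn := L.degree_seven H T hk h10
        rw [hn] at hG
        exact Or.inl ⟨hn, iso_alt_seven hG hn⟩
      · exact (L.not_square H T h10 hO hk hm).elim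
    · exact (not_central H T hm h).elim
    · exact (not_fifteen H T hnr hm h).elim

end CfsgLib.StabAlt5
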