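import Cfsg.Agent.Lib.StabAlt5.Cases
import Cfsg.Agent.Lib.StabAlt5.Double
import Cfsg.Agent.Lib.StabAlt5.Even

/-!
Odd degree: the group on the fixed points of an involution is affine, and only the symmetric case survives.
-/

set_option autoImplicit false
set_option linter.unusedSectionVars false
set_option linter.style.haveILetI false

namespace CfsgLib.StabAlt5

open MulAction

universe u v

/-- The absence of a regular normal subgroup. -/
def NoRegular (G : Type u) (Ω : Type v) [Group G] [MulAction G Ω] : Prop :=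
  ∀ N : Subgroup G, N.Normal → MulAction.IsPretransitive ↥N Ω → (∀ x : Ω, MulAction.stabilizer ↥N x = ⊥) → False

variable {G : Type u} [Group G] [Finite G] {Ω : Type v} [Finite Ω] [MulAction G Ω] [FaithfulSMul G Ω]
variable {a b : Ω} {t : G} (H : Hyp G a b) (T : InvIn t a b)
include H T

theorem degree_odd (hm : Odd (fixedBy Ω t).ncard) : Odd (Nat.card Ω) := by
  have h := basic_relation H T
  have hlt := fix_lt H T
  obtain ⟨j, hj⟩ := hm
  obtain ⟨i, hi⟩ : ∃ i, swapNum t a b * ((fixedBy Ω t).ncard * ((fixedBy Ω t).ncard - 1)) = 2 * i :=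
    ⟨swapNum t a b * ((fixedBy Ω t).ncard * j), by rw [hj, Nat.add_sub_cancel]; ring⟩
  rw [Nat.odd_iff]
  omega

/-- In odd degree the group on the fixed points is affine, of degree `k` or `k²`. -/
theorem affine_fix (hm : Odd (fixedBy Ω t).ncard) :
    IsAffine ↥(fixGroup Ω t) ↥(fixedBy Ω t) ∧
      ((fixedBy Ω t).ncard = (fixPts Ω (four t a b)).ncard ∨
        (fixedBy Ω t).ncard = (fixPts Ω (four t a b)).ncard * (fixPts Ω (four t a b)).ncard) := by
  by_cases hk : (fixPts Ω (four t a b)).ncard = (fixedBy Ω t).ncard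
  · exact ⟨affine_of_eq H T hk, Or.inl hk.symm⟩
  · obtain ⟨v, hv, v1, vt⟩ := exists_other H T
    obtain ⟨h2, hfix⟩ := twoHyp_of_ne H T hk hv v1 vt
    have hodd : Odd (Nat.card ↥(fixedBy Ω t)) := by rw [Nat.card_coe_set_eq]; exact hm
    rcases h2.degree with h | h
    · refine ⟨h2.affine_square hodd h, Or.inr ?_⟩
      rw [hfix, Nat.card_coe_set_eq] at h
      exact h
    · exact (h2.no_double hodd h).elim

/-- In odd degree there is no odd transitive normal subgroup. -/
theorem no_odd_transitive (hnr : NoRegular G Ω) (O : Subgroup G) [O.Normal] (hO : Odd (Nat.card O))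
    (htr : ∀ c d : Ω, ∃ x ∈ O, x • c = d) : False := by
  obtain ⟨e⟩ := H.iso
  have hOA : O ⊓ pairStab G a b = ⊥ := by
    haveI : (O.subgroupOf (pairStab G a b)).Normal := inferInstance
    haveI : IsSimpleGroup ↥(alternatingGroup (Fin 5)) := alternatingGroup.isSimpleGroup (by simp)
    haveI : IsSimpleGroup ↥(pairStab G a b) := e.isSimpleGroup
    rcases Subgroup.Normal.eq_bot_or_eq_top (inferInstance : (O.subgroupOf (pairStab G a b)).Normal) with h | h
    · rw [Subgroup.subgroupOf_eq_bot, disjoint_iff] at h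
      exact h
    · exfalso
      have hle : pairStab G a b ≤ O := Subgroup.subgroupOf_eq_top.mp h
      have h60 := Subgroup.card_dvd_of_le hle
      rw [card_A e] at h60
      exact Nat.not_even_iff_odd.mpr hO (even_iff_two_dvd.mpr ((show 2 ∣ 60 by norm_num).trans h60))
  obtain ⟨P, p, j, hP, -, -, -, -, hPtr, hPreg, -, -⟩ := affine_of_semi H.two H.ne O htr
    fun x hx c d hcd hc hd => by
      obtain ⟨g, hga, hgb⟩ := H.two a b c d H.ne hcd
      have h1 : g⁻¹ * x * g ∈ O ⊓ pairStab G a b :=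
        ⟨by simpa using (inferInstance : O.Normal).conj_mem x hx g⁻¹,
          by show (g⁻¹ * x * g) • a = a; rw [mul_smul, mul_smul, hga, hc, ← hga, inv_smul_smul],
          by show (g⁻¹ * x * g) • b = b; rw [mul_smul, mul_smul, hgb, hd, ← hgb, inv_smul_smul]⟩
      rw [hOA, Subgroup.mem_bot] at h1
      calc x = g * (g⁻¹ * x * g) * g⁻¹ := by group
        _ = 1 := by rw [h1]; group
  refine hnr P hP ⟨fun c d => ?_⟩ fun c => ?_
  · obtain ⟨x, hx, hxc⟩ := hPtr c d
    exact ⟨⟨x, hx⟩, hxc⟩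
  · exact (Subgroup.eq_bot_iff_forall _).mpr fun x hx => Subtype.ext (hPreg x x.2 c hx)

theorem not_fifteen (hnr : NoRegular G Ω) (hm : Odd (fixedBy Ω t).ncard) (h : CaseFifteen t a b) : False := by
  obtain ⟨-, z, hz2, hz, hzn, huniq⟩ := h
  have hconj : ∀ x g : G, g * z * g⁻¹ = x → x ∉ conjSet t := fun x g hg hx => hzn (by
    have := conjSet_closed H g⁻¹ x hx
    rwa [← hg, show g⁻¹ * (g * z * g⁻¹) * g⁻¹⁻¹ = z by group] at this)
  have hz1 : z ≠ 1 := fun e => H.ne (((one_smul G a).symm.trans (e ▸ rfl)).trans hz.1)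
  obtain ⟨O, hO, hOodd, htr⟩ := exists_odd_transitive H.two H.ne (degree_odd H T hm) hz2 hz.1 hz.2
    (fun x g hg c d hcd hc hd => by
      obtain ⟨k, hka, hkb⟩ := H.two c d a b hcd H.ne
      refine hconj (k * x * k⁻¹) (k * g) (by rw [← hg]; group) (mem_conjSet H T ⟨⟨?_, ?_⟩, ?_, ?_⟩)
      · show (k * x * k⁻¹) • a = a
        rw [mul_smul, mul_smul, ← hka, inv_smul_smul, hc]
      · show (k * x * k⁻¹) • b = b
        rw [mul_smul, mul_smul, ← hkb, inv_smul_smul, hd]
      · rw [← hg, conj_mul, conj_mul, hz2]; group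
      · intro e
        rw [conj_eq_one_iff, ← hg, conj_eq_one_iff] at e
        exact hz1 e)
    (fun x g hg ha hb => huniq x (by rw [← hg, conj_mul, hz2]; group) ⟨ha, hb⟩ (hconj x g hg))
  haveI := hO
  exact no_odd_transitive H T hnr O hOodd htr

theorem exists_alt_in_cent (h : CaseCentral t a b) :
    ∃ B : Subgroup G, B ≤ Subgroup.centralizer ({t} : Set G) ∧ Nonempty (↥B ≃* ↥(alternatingGroup (Fin 5))) := by
  obtain ⟨-, z, ⟨g, hg⟩, -, hzc⟩ := h
  obtain ⟨e⟩ := H.iso
  refine ⟨(pairStab G a b).map (MulAut.conj g⁻¹).toMonoidHom, ?_,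
    ⟨((Subgroup.equivMapOfInjective _ _ (MulAut.conj g⁻¹).injective).symm).trans e⟩⟩
  rintro _ ⟨y, hy, rfl⟩
  refine Subgroup.mem_centralizer_singleton_iff.mpr ?_
  show g⁻¹ * y * g⁻¹⁻¹ * t = t * (g⁻¹ * y * g⁻¹⁻¹)
  have ht : t = g⁻¹ * z * g := by rw [← hg]; group
  calc g⁻¹ * y * g⁻¹⁻¹ * t = g⁻¹ * y * g⁻¹⁻¹ * (g⁻¹ * z * g) := congrArg _ ht
    _ = g⁻¹ * (y * z) * g := by group
    _ = g⁻¹ * (z * y) * g := by rw [hzc y hy]
    _ = g⁻¹ * z * g * (g⁻¹ * y * g⁻¹⁻¹) := by group
    _ = t * (g⁻¹ * y * g⁻¹⁻¹) := by rw [← ht]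

set_option maxHeartbeats 1000000 in
/-- An affine group in which an involution is determined up to conjugacy by its fixed points contains no `A₅`. -/
theorem not_central (hm : Odd (fixedBy Ω t).ncard) (h : CaseCentral t a b) : False := by
  classical
  obtain ⟨B, hB, ⟨eB⟩⟩ := exists_alt_in_cent H T h
  obtain ⟨⟨P, p, j, hPn, -, -, hmp, hPc, hPtr, hPreg, hPcomm, -⟩, hforms⟩ := affine_fix H T hm
  haveI := hPn
  -- the copy of `A₅` acts faithfully on the fixed points
  let f : ↥B →* ↥(fixGroup Ω t) := (fixHom Ω t).rangeRestrict.comp (Subgroup.inclusion hB)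
  haveI : IsSimpleGroup ↥(alternatingGroup (Fin 5)) := alternatingGroup.isSimpleGroup (by simp)
  haveI : IsSimpleGroup ↥B := eB.isSimpleGroup
  have hB60 : Nat.card B = 60 := (Nat.card_congr eB.toEquiv).trans a5_card
  have hker : f.ker = ⊥ := by
    refine (Subgroup.Normal.eq_bot_or_eq_top (inferInstance : f.ker.Normal)).resolve_right fun htop => ?_
    have hle : B ≤ four t a b := fun x hx => by
      have h1 : f ⟨x, hx⟩ = 1 := (htop ▸ Subgroup.mem_top _ : (⟨x, hx⟩ : ↥B) ∈ f.ker)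
      have h2 := toFix_eq_one.mp h1
      exact mem_four.mpr ⟨⟨h2 a T.mem.1, h2 b T.mem.2⟩, Subgroup.mem_centralizer_singleton_iff.mp (hB hx)⟩
    have := Subgroup.card_le_of_le hle
    rw [hB60, card_four H T] at this
    omega
  have hfinj : Function.Injective f := (MonoidHom.ker_eq_bot_iff f).mp hker
  -- move it into the stabiliser of `a`
  set A0 := stabilizer ↥(fixGroup Ω t) (leftPt T : ↥(fixedBy Ω t)) with hA0
  have hdec : ∀ x : ↥(fixGroup Ω t), ∃ π ∈ P, π⁻¹ * x ∈ A0 := fun x => by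
    obtain ⟨π, hπ, hπa⟩ := hPtr (leftPt T) (x • leftPt T)
    exact ⟨π, hπ, by show (π⁻¹ * x) • leftPt T = leftPt T; rw [mul_smul, ← hπa, inv_smul_smul]⟩
  choose π hπP hπA using hdec
  have huniq : ∀ (x : ↥(fixGroup Ω t)) (π' : ↥(fixGroup Ω t)), π' ∈ P → π'⁻¹ * x ∈ A0 → π' = π x := by
    intro x π' hπ' hA'
    have h1 : (π'⁻¹ * π x) • leftPt T = leftPt T := by
      have h2 : π'⁻¹ * π x = (π'⁻¹ * x) * ((π x)⁻¹ * x)⁻¹ := by group
      rw [h2]
      exact A0.mul_mem hA' (A0.inv_mem (hπA x))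
    exact inv_mul_eq_one.mp (hPreg _ (mul_mem (inv_mem hπ') (hπP x)) _ h1)
  let ρ : ↥(fixGroup Ω t) →* ↥A0 :=
    { toFun := fun x => ⟨(π x)⁻¹ * x, hπA x⟩
      map_one' := Subtype.ext (by
        show (π 1)⁻¹ * 1 = 1
        rw [← huniq 1 1 (one_mem P) (by simp), inv_one, one_mul])
      map_mul' := fun x y => Subtype.ext (by
        show (π (x * y))⁻¹ * (x * y) = (π x)⁻¹ * x * ((π y)⁻¹ * y)
        have hc : π (x * y) = π x * (((π x)⁻¹ * x) * π y * ((π x)⁻¹ * x)⁻¹) := by
          refine (huniq _ _ (mul_mem (hπP x) (hPn.conj_mem _ (hπP y) _)) ?_).symm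
          have e : (π x * (((π x)⁻¹ * x) * π y * ((π x)⁻¹ * x)⁻¹))⁻¹ * (x * y) =
              ((π x)⁻¹ * x) * ((π y)⁻¹ * y) := by group
          rw [e]
          exact A0.mul_mem (hπA x) (hπA y)
        rw [hc]
        group) }
  let g : ↥B →* ↥A0 := ρ.comp f
  have hgker : g.ker = ⊥ := by
    refine (Subgroup.Normal.eq_bot_or_eq_top (inferInstance : g.ker.Normal)).resolve_right fun htop => ?_
    have hin : ∀ x : ↥B, f x ∈ P := fun x => by
      have h1 : g x = 1 := (htop ▸ Subgroup.mem_top x : x ∈ g.ker)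
      have h2 : (π (f x))⁻¹ * f x = 1 := congrArg Subtype.val h1
      exact inv_mul_eq_one.mp h2 ▸ hπP (f x)
    have hcommB : ∀ x y : ↥B, x * y = y * x := fun x y => hfinj (by
      rw [map_mul, map_mul]; exact hPcomm _ (hin x) _ (hin y))
    have hA5 : ∀ x y : alternatingGroup (Fin 5), x * y = y * x := fun x y => eB.symm.injective (by
      rw [map_mul, map_mul, hcommB])
    exact absurd hA5 (by decide +kernel)
  have hginj : Function.Injective g := (MonoidHom.ker_eq_bot_iff g).mp hgker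
  -- two commuting involutions of it
  obtain ⟨u, u2, u1, v, v2, v1, huv, hne, hconj₁, hconj₂⟩ : ∃ u : ↥B, u * u = 1 ∧ u ≠ 1 ∧ ∃ v : ↥B, v * v = 1 ∧
      v ≠ 1 ∧ u * v = v * u ∧ u ≠ v ∧ (∃ g, g * u * g⁻¹ = v) ∧ ∃ g, g * u * g⁻¹ = u * v := by
    have key : ∃ u : alternatingGroup (Fin 5), u * u = 1 ∧ u ≠ 1 ∧ ∃ v : alternatingGroup (Fin 5), v * v = 1 ∧
        v ≠ 1 ∧ u * v = v * u ∧ u ≠ v ∧ (∃ g, g * u * g⁻¹ = v) ∧ ∃ g, g * u * g⁻¹ = u * v := by decide +kernel
    obtain ⟨u, hu, hu1, v, hv, hv1, huv, hne, ⟨g₁, hg₁⟩, g₂, hg₂⟩ := key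
    refine ⟨eB.symm u, by rw [← map_mul, hu, map_one], fun e => hu1 (eB.symm.map_eq_one_iff.mp e), eB.symm v,
      by rw [← map_mul, hv, map_one], fun e => hv1 (eB.symm.map_eq_one_iff.mp e),
      by rw [← map_mul, ← map_mul, huv], fun e => hne (eB.symm.injective e),
      ⟨eB.symm g₁, by rw [← map_inv, ← map_mul, ← map_mul, hg₁]⟩,
      ⟨eB.symm g₂, by rw [← map_inv, ← map_mul, ← map_mul, hg₂, map_mul]⟩⟩
  set U : ↥(fixGroup Ω t) := (g u : ↥A0).1 with hU
  set W : ↥(fixGroup Ω t) := (g v : ↥A0).1 with hW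
  have hUa : U • leftPt T = leftPt T := (g u).2
  have hWa : W • leftPt T = leftPt T := (g v).2
  have hU2 : U * U = 1 := by rw [hU, ← Subgroup.coe_mul, ← map_mul, u2, map_one]; rfl
  have hW2 : W * W = 1 := by rw [hW, ← Subgroup.coe_mul, ← map_mul, v2, map_one]; rfl
  have hU1 : U ≠ 1 := fun e => u1 (hginj (by rw [map_one]; exact Subtype.ext e))
  have hW1 : W ≠ 1 := fun e => v1 (hginj (by rw [map_one]; exact Subtype.ext e))
  have hUW : U * W = W * U := by rw [hU, hW, ← Subgroup.coe_mul, ← Subgroup.coe_mul, ← map_mul, ← map_mul, huv]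
  have hne' : U ≠ W := fun e => hne (hginj (Subtype.ext e))
  have hfU : ∀ (w : ↥B), (∃ g, g * u * g⁻¹ = w) →
      (fixedBy ↥(fixedBy Ω t) ((g w : ↥A0).1 : ↥(fixGroup Ω t))).ncard = (fixedBy ↥(fixedBy Ω t) U).ncard := by
    rintro w ⟨k, rfl⟩
    rw [hU, map_mul, map_mul, map_inv, Subgroup.coe_mul, Subgroup.coe_mul, Subgroup.coe_inv]
    exact ncard_fixedBy_conj _ _
  have hfW : (fixedBy ↥(fixedBy Ω t) W).ncard = (fixedBy ↥(fixedBy Ω t) U).ncard := hfU v hconj₁
  have hfUW : (fixedBy ↥(fixedBy Ω t) (U * W)).ncard = (fixedBy ↥(fixedBy Ω t) U).ncard := by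
    have := hfU (u * v) hconj₂
    rwa [map_mul, Subgroup.coe_mul, ← hU, ← hW] at this
  set V4 : Subgroup ↥(fixGroup Ω t) := Subgroup.closure {U, W} with hV4
  have hV4mem : ∀ z, z ∈ V4 ↔ z = 1 ∨ z = U ∨ z = W ∨ z = U * W := by
    intro z
    constructor
    · intro hz
      induction hz using Subgroup.closure_induction with
      | mem x hx => rcases hx with rfl | rfl <;> simp
      | one => simp
      | mul x y _ _ hx hy =>
        have e1 : W * (U * W) = U := by rw [← mul_assoc, ← hUW, mul_assoc, hW2, mul_one]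
        have e2 : U * (U * W) = W := by rw [← mul_assoc, hU2, one_mul]
        have e3 : U * W * U = W := by rw [mul_assoc, ← hUW, e2]
        have e4 : U * W * W = U := by rw [mul_assoc, hW2, mul_one]
        have e5 : U * W * (U * W) = 1 := by rw [mul_assoc, e1, hU2]
        rcases hx with rfl | rfl | rfl | rfl <;> rcases hy with rfl | rfl | rfl | rfl <;>
          simp [hU2, hW2, ← hUW, e1, e2, e3, e4, e5]
      | inv x _ hx =>
        rcases hx with rfl | rfl | rfl | rfl
        · simp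
        · simp [inv_eq_of_mul_eq_one_left hU2]
        · simp [inv_eq_of_mul_eq_one_left hW2]
        · right; right; right
          rw [mul_inv_rev, inv_eq_of_mul_eq_one_left hU2, inv_eq_of_mul_eq_one_left hW2, hUW]
    · rintro (rfl | rfl | rfl | rfl)
      · exact one_mem _
      · exact Subgroup.subset_closure (Or.inl rfl)
      · exact Subgroup.subset_closure (Or.inr rfl)
      · exact mul_mem (Subgroup.subset_closure (Or.inl rfl)) (Subgroup.subset_closure (Or.inr rfl))
  have hPodd : Odd (Nat.card P) := by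
    rw [hPc, ← hmp, Nat.card_coe_set_eq]; exact hm
  have hform := four_formula hPodd hU2 hW2 hUW hU1 hW1 hne' (fun x hx => hPn.conj_mem x hx U)
    (fun x hx => hPn.conj_mem x hx W) hV4mem
  have hUWa : (U * W) • leftPt T = leftPt T := by rw [mul_smul, hWa, hUa]
  rw [card_cent_regular P hPtr hPreg hUa, card_cent_regular P hPtr hPreg hWa,
    card_cent_regular P hPtr hPreg hUWa, hfW, hfUW, hPc, ← hmp, Nat.card_coe_set_eq] at hform
  have hm2 := two_le_fix H T
  have hVC : Nat.card ↥(P ⊓ Subgroup.centralizer (V4 : Set ↥(fixGroup Ω t))) = 1 := by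
    rw [Subgroup.card_eq_one, Subgroup.eq_bot_iff_forall]
    rintro x ⟨hxP, hxC⟩
    refine hPreg x hxP (leftPt T) ?_
    by_contra hxa
    have hUx : U • x • leftPt T = x • leftPt T := by
      rw [← mul_smul, Subgroup.mem_centralizer_iff.mp hxC U ((hV4mem U).mpr (Or.inr (Or.inl rfl))), mul_smul, hUa]
    have hWx : W • x • leftPt T = x • leftPt T := by
      rw [← mul_smul, Subgroup.mem_centralizer_iff.mp hxC W ((hV4mem W).mpr (Or.inr (Or.inr (Or.inl rfl)))),
        mul_smul, hWa]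
    obtain ⟨k, hk1, hk2⟩ := fixGroup_two H T _ _ (leftPt T) (rightPt T) (Ne.symm hxa) (leftPt_ne H T)
    have hfixk : ∀ Z : ↥(fixGroup Ω t), Z • leftPt T = leftPt T → Z • x • leftPt T = x • leftPt T →
        (k * Z * k⁻¹) • leftPt T = leftPt T ∧ (k * Z * k⁻¹) • rightPt T = rightPt T := fun Z h1 h2 => by
      have e1 : k⁻¹ • leftPt T = leftPt T := inv_smul_eq_iff.mpr hk1.symm
      have e2 : k⁻¹ • rightPt T = x • leftPt T := inv_smul_eq_iff.mpr hk2.symm
      exact ⟨by rw [mul_smul, mul_smul, e1, h1, hk1], by rw [mul_smul, mul_smul, e2, h2, hk2]⟩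
    by_cases hk : (fixPts Ω (four t a b)).ncard = (fixedBy Ω t).ncard
    · obtain ⟨w, hw, hwe⟩ := fix_pair H T (hfixk U hUa hUx).1 (hfixk U hUa hUx).2
      rw [kernel_trivial_of_eq H T hk w hw] at hwe
      exact hU1 (conj_eq_one_iff.mp hwe.symm)
    · obtain ⟨v', hv', hv1', hvt'⟩ := exists_other H T
      obtain ⟨h2, -⟩ := twoHyp_of_ne H T hk hv' hv1' hvt'
      have eU := (h2.only _ (hfixk U hUa hUx).1 (hfixk U hUa hUx).2).resolve_left fun e => hU1 (conj_eq_one_iff.mp e)
      have eW := (h2.only _ (hfixk W hWa hWx).1 (hfixk W hWa hWx).2).resolve_left fun e => hW1 (conj_eq_one_iff.mp e)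
      exact hne' (mul_left_cancel (mul_right_cancel (eU.trans eW.symm)))
  rw [hVC, one_pow, mul_one] at hform
  -- an involution fixing a single point, or as many as the four group
  by_cases hone : (fixedBy ↥(fixedBy Ω t) U).ncard ≤ 1
  · have : (fixedBy ↥(fixedBy Ω t) U).ncard ^ 3 ≤ 1 := (Nat.pow_le_pow_left hone 3).trans (by norm_num)
    rw [pow_three, ← mul_assoc, ← hform] at this
    omega
  · obtain ⟨c, hc, hca⟩ : ∃ c ∈ fixedBy ↥(fixedBy Ω t) U, c ≠ leftPt T := by
      by_contra h'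
      push Not at h'
      exact hone ((Set.ncard_le_one_iff (Set.toFinite _)).mpr fun {p q} hp hq => (h' p hp).trans (h' q hq).symm)
    obtain ⟨k, hk1, hk2⟩ := fixGroup_two H T (leftPt T) c (leftPt T) (rightPt T) (Ne.symm hca) (leftPt_ne H T)
    have h1 : (k * U * k⁻¹) • leftPt T = leftPt T := by
      rw [mul_smul, mul_smul, inv_smul_eq_iff.mpr hk1.symm, hUa, hk1]
    have h2 : (k * U * k⁻¹) • rightPt T = rightPt T := by
      rw [mul_smul, mul_smul, inv_smul_eq_iff.mpr hk2.symm, show U • c = c from hc, hk2]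
    by_cases hk : (fixPts Ω (four t a b)).ncard = (fixedBy Ω t).ncard
    · obtain ⟨w, hw, hwe⟩ := fix_pair H T h1 h2
      rw [kernel_trivial_of_eq H T hk w hw] at hwe
      exact hU1 (conj_eq_one_iff.mp hwe.symm)
    · obtain ⟨v', hv', hv1', hvt'⟩ := exists_other H T
      obtain ⟨h2', hfix⟩ := twoHyp_of_ne H T hk hv' hv1' hvt'
      have e := (h2'.only _ h1 h2).resolve_left fun e => hU1 (conj_eq_one_iff.mp e)
      have hUk := ncard_fixedBy_conj (Ω := ↥(fixedBy Ω t)) k U
      rw [e, hfix] at hUk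
      rw [← hUk] at hform
      have hsq := hforms.resolve_left (fun e => hk e.symm)
      rw [hsq] at hform
      have hk2' := two_le_fixPts H T
      have : 0 < (fixPts Ω (four t a b)).ncard * (fixPts Ω (four t a b)).ncard := Nat.mul_pos (by omega) (by omega)
      nlinarith

end CfsgLib.StabAlt5
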