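import Cfsg.Agent.Lib.StabAlt5.Lift

/-!
Odd degree in the symmetric case: orders and centralisers of the lifted regular subgroup.
-/

set_option autoImplicit false
set_option linter.unusedSectionVars false
set_option linter.style.haveILetI false

namespace CfsgLib.StabAlt5

open MulAction

universe u v

theorem prime_not_dvd_units {p : ℕ} (hp : p.Prime) (hp2 : p ≠ 2) (hp3 : p ≠ 3) {m : ℕ} (hm : p ∣ m) (hm1 : 1 ≤ m) :
    ¬ p ∣ (2 * m + 1) ∧ ¬ p ∣ (m - 1) ∧ ¬ p ∣ (2 * m + 3) := by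
  have h2 : p ∣ 2 * m := dvd_mul_of_dvd_right hm 2
  refine ⟨fun h => hp.ne_one (Nat.dvd_one.mp ((Nat.dvd_add_right h2).mp h)), fun h => ?_, fun h => ?_⟩
  · have := (Nat.dvd_add_right h).mp (show p ∣ (m - 1) + 1 by rwa [Nat.sub_add_cancel hm1])
    exact hp.ne_one (Nat.dvd_one.mp this)
  · exact hp3 ((Nat.prime_dvd_prime_iff_eq hp Nat.prime_three).mp ((Nat.dvd_add_right h2).mp h))

variable {G : Type u} [Group G] [Finite G] {Ω : Type v} [Finite Ω] [MulAction G Ω] [FaithfulSMul G Ω]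
variable {a b : Ω} {t : G} (H : Hyp G a b) (T : InvIn t a b)
include H T

/-- The order in the symmetric case. -/
theorem order_ten (h10 : swapNum t a b = 10) :
    3 * Nat.card Ω = (fixedBy Ω t).ncard * (2 * (fixedBy Ω t).ncard + 1) ∧
      9 * Nat.card G = 60 * (fixedBy Ω t).ncard * ((2 * (fixedBy Ω t).ncard + 1) *
        (((fixedBy Ω t).ncard - 1) * (2 * (fixedBy Ω t).ncard + 3))) := by
  have h := basic_relation H T
  have hlt := fix_lt H T
  have hm2 := two_le_fix H T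
  rw [h10] at h
  obtain ⟨i, hi⟩ : ∃ i, (fixedBy Ω t).ncard = i + 1 := ⟨(fixedBy Ω t).ncard - 1, by omega⟩
  rw [hi] at h hlt ⊢
  rw [Nat.add_sub_cancel] at h ⊢
  have e : (i + 1) * (2 * (i + 1) + 1) = 2 * ((i + 1) * i) + 3 * (i + 1) := by ring
  have h3 : 3 * Nat.card Ω = (i + 1) * (2 * (i + 1) + 1) := by omega
  refine ⟨h3, ?_⟩
  have h4 : 3 * (Nat.card Ω - 1) = i * (2 * (i + 1) + 3) := by
    have e2 : (i + 1) * (2 * (i + 1) + 1) = i * (2 * (i + 1) + 3) + 3 := by ring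
    omega
  rw [H.card_group]
  calc 9 * (Nat.card Ω * (Nat.card Ω - 1) * 60) = 60 * ((3 * Nat.card Ω) * (3 * (Nat.card Ω - 1))) := by ring
    _ = _ := by rw [h3, h4]; ring

theorem not_dvd_order (h10 : swapNum t a b = 10) {p j : ℕ} (hp : p.Prime) (hodd : Odd p) (hj : 1 ≤ j)
    (hm : (fixedBy Ω t).ncard = p ^ j) (h9 : p = 3 → 2 ≤ j) (h5 : p ≠ 5) : ¬ p ^ (j + 1) ∣ Nat.card G := by
  obtain ⟨hn, hG⟩ := order_ten H T h10
  have hp2 : p ≠ 2 := fun e => by rw [e] at hodd; exact absurd hodd (by decide)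
  intro h
  rw [hm] at hn hG
  by_cases h3 : p = 3
  · subst h3
    obtain ⟨i, rfl⟩ : ∃ i, j = i + 2 := ⟨j - 2, by have := h9 rfl; omega⟩
    set u := 3 ^ i with hu
    have hpow : 3 ^ (i + 2) = 9 * u := by rw [pow_add]; ring
    have hpow3 : 3 ^ (i + 2 + 1) = 27 * u := by rw [show i + 2 + 1 = i + 3 by ring, pow_add]; ring
    rw [hpow] at hG
    rw [hpow3] at h
    have hu0 : 0 < u := pow_pos (by norm_num) i
    obtain ⟨r, hr⟩ := h
    have e : 2 * (9 * u) + 3 = 3 * (6 * u + 1) := by ring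
    have e1 : 9 * (27 * u * r) = 9 * u * (27 * r) := by ring
    have e2 : 60 * (9 * u) * ((2 * (9 * u) + 1) * ((9 * u - 1) * (2 * (9 * u) + 3))) =
        9 * u * (60 * ((18 * u + 1) * ((9 * u - 1) * (3 * (6 * u + 1))))) := by rw [e]; ring
    rw [hr, e1, e2] at hG
    have h27 := Nat.eq_of_mul_eq_mul_left (by omega) hG
    have h4 : 3 * r = 20 * ((18 * u + 1) * ((9 * u - 1) * (6 * u + 1))) := by
      have e3 : 60 * ((18 * u + 1) * ((9 * u - 1) * (3 * (6 * u + 1)))) =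
          9 * (20 * ((18 * u + 1) * ((9 * u - 1) * (6 * u + 1)))) := by ring
      omega
    have h5' : 3 ∣ 20 * ((18 * u + 1) * ((9 * u - 1) * (6 * u + 1))) := ⟨r, h4.symm⟩
    rcases Nat.prime_three.dvd_mul.mp h5' with h' | h'
    · omega
    rcases Nat.prime_three.dvd_mul.mp h' with h' | h'
    · omega
    rcases Nat.prime_three.dvd_mul.mp h' with h' | h' <;> omega
  · have h1 : p ^ j * p ∣ p ^ j * (60 * ((2 * p ^ j + 1) * ((p ^ j - 1) * (2 * p ^ j + 3)))) := by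
      have := Dvd.dvd.mul_left h 9
      rw [hG, ← pow_succ] at *
      rw [show p ^ j * (60 * ((2 * p ^ j + 1) * ((p ^ j - 1) * (2 * p ^ j + 3)))) =
        60 * p ^ j * ((2 * p ^ j + 1) * ((p ^ j - 1) * (2 * p ^ j + 3))) by ring]
      exact this
    have h1 := Nat.dvd_of_mul_dvd_mul_left (pow_pos hp.pos j) h1
    obtain ⟨u1, u2, u3⟩ := prime_not_dvd_units hp hp2 h3 (dvd_pow_self p (by omega : j ≠ 0))
      (Nat.one_le_pow _ _ hp.pos)
    rcases hp.dvd_mul.mp h1 with h' | h'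
    · have h' : p ∣ 2 ^ 2 * (3 * 5) := h'
      rcases hp.dvd_mul.mp h' with h' | h'
      · exact hp2 ((Nat.prime_dvd_prime_iff_eq hp Nat.prime_two).mp (hp.dvd_of_dvd_pow h'))
      rcases hp.dvd_mul.mp h' with h' | h'
      · exact h3 ((Nat.prime_dvd_prime_iff_eq hp Nat.prime_three).mp h')
      · exact h5 ((Nat.prime_dvd_prime_iff_eq hp Nat.prime_five).mp h')
    rcases hp.dvd_mul.mp h' with h' | h'
    · exact u1 h'
    rcases hp.dvd_mul.mp h' with h' | h'
    · exact u2 h'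
    · exact u3 h'

theorem order_five (h10 : swapNum t a b = 10) {j : ℕ} (hj : 1 ≤ j) (hm : (fixedBy Ω t).ncard = 5 ^ j) :
    5 ^ (j + 1) ∣ Nat.card G ∧ ¬ 5 ^ (j + 2) ∣ Nat.card G := by
  obtain ⟨-, hG⟩ := order_ten H T h10
  rw [hm] at hG
  constructor
  · refine (Nat.Coprime.pow_left (j + 1) (show Nat.Coprime 5 9 by norm_num)).dvd_of_dvd_mul_left ?_
    rw [hG, pow_succ]
    exact ⟨12 * ((2 * 5 ^ j + 1) * ((5 ^ j - 1) * (2 * 5 ^ j + 3))), by ring⟩
  · intro h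
    have h1 : 5 ^ j * 25 ∣ 5 ^ j * (5 * (12 * ((2 * 5 ^ j + 1) * ((5 ^ j - 1) * (2 * 5 ^ j + 3))))) := by
      have := Dvd.dvd.mul_left h 9
      rw [hG] at this
      rw [show 5 ^ j * (5 * (12 * ((2 * 5 ^ j + 1) * ((5 ^ j - 1) * (2 * 5 ^ j + 3))))) =
        60 * 5 ^ j * ((2 * 5 ^ j + 1) * ((5 ^ j - 1) * (2 * 5 ^ j + 3))) by ring,
        show 5 ^ j * 25 = 5 ^ (j + 2) by rw [pow_add]; norm_num]
      exact this
    have h2 := Nat.dvd_of_mul_dvd_mul_left (pow_pos (by norm_num) j) h1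
    have h3 : 5 ∣ 12 * ((2 * 5 ^ j + 1) * ((5 ^ j - 1) * (2 * 5 ^ j + 3))) :=
      Nat.dvd_of_mul_dvd_mul_left (by norm_num : 0 < 5) h2
    have hp := Nat.prime_five
    obtain ⟨u1, u2, u3⟩ := prime_not_dvd_units hp (by norm_num) (by norm_num)
      (dvd_pow_self 5 (by omega : j ≠ 0)) (Nat.one_le_pow _ _ hp.pos)
    rcases hp.dvd_mul.mp h3 with h' | h'
    · norm_num at h'
    rcases hp.dvd_mul.mp h' with h' | h'
    · exact u1 h'
    rcases hp.dvd_mul.mp h' with h' | h'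
    · exact u2 h'
    · exact u3 h'

omit H in
/-- The four elements of the four group. -/
theorem four_list (H : Hyp G a b) {v : G} (hv : v ∈ four t a b) (v1 : v ≠ 1) (vt : v ≠ t) :
    ∀ x, x ∈ four t a b ↔ x = 1 ∨ x = t ∨ x = v ∨ x = t * v := by
  have d1 : t * v ≠ 1 := fun e => vt (by rw [eq_inv_of_mul_eq_one_right e, inv_eq_of_mul_eq_one_left T.sq])
  have d2 : t * v ≠ t := fun e => v1 (mul_eq_left.mp e)
  have d3 : t * v ≠ v := fun e => T.ne_one (mul_eq_right.mp e)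
  have hsub : ({1, t, v, t * v} : Set G) ⊆ (four t a b : Set G) := by
    rintro y (rfl | rfl | rfl | rfl)
    exacts [one_mem _, self_mem_four H T, hv, mul_mem (self_mem_four H T) hv]
  have h4 : ({1, t, v, t * v} : Set G).ncard = 4 := by
    rw [Set.ncard_insert_of_notMem (by simp [T.ne_one.symm, v1.symm, d1.symm]),
      Set.ncard_insert_of_notMem (by simp [Ne.symm vt, d2.symm]),
      Set.ncard_insert_of_notMem (by simp [d3.symm]), Set.ncard_singleton]
  have heq := Set.eq_of_subset_of_ncard_le hsub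
    (by rw [h4]; exact ((Nat.card_coe_set_eq _).symm.trans (card_four H T)).le)
  intro x
  rw [← SetLike.mem_coe, ← heq]
  rfl

theorem invIn_four {v : G} (hv : v ∈ four t a b) (v1 : v ≠ 1) : InvIn v a b :=
  ⟨(mem_four.mp hv).1, four_sq H T hv, v1⟩

variable {P : Subgroup G} {p j : ℕ} (L : RegLift Ω t P p j)
include L

/-- The centraliser of the lift inside `C(t)`. -/
theorem RegLift.cent_cases {g : G} (hg : g ∈ Subgroup.centralizer ({t} : Set G))
    (hc : ∀ x ∈ P, g * x = x * g) : ∃ x ∈ P, ∃ h ∈ four t a b, (∀ c ∈ fixedBy Ω t, h • c = c) ∧ g = x * h := by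
  obtain ⟨x, hx, hxa, hxC⟩ := L.decompose H T g hg
  have hfix : ∀ c ∈ fixedBy Ω t, (x⁻¹ * g) • c = c := by
    intro c hc'
    obtain ⟨y, hy, hyc⟩ := L.trans a c T.mem.1 hc'
    have hcomm : (x⁻¹ * g) * y = y * (x⁻¹ * g) := by
      rw [mul_assoc, hc y hy, ← mul_assoc, L.comm _ (inv_mem hx) y hy, mul_assoc]
    rw [← hyc, ← mul_smul, hcomm, mul_smul, hxa]
  exact ⟨x, hx, x⁻¹ * g, trivial_mem_four H T hxC hfix, hfix, by group⟩

theorem RegLift.kernel_comm {h : G} (hh : h ∈ Subgroup.centralizer ({t} : Set G))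
    (hfix : ∀ c ∈ fixedBy Ω t, h • c = c) : ∀ x ∈ P, h * x = x * h := by
  intro x hx
  have h1 : (x⁻¹ * (h * x * h⁻¹)) • a = a := by
    have e : h⁻¹ • a = a := inv_smul_eq_iff.mpr (hfix a T.mem.1).symm
    rw [mul_smul, mul_smul, mul_smul, e, hfix (x • a) (smul_mem_fixedBy H (L.le hx) T.mem.1), inv_smul_smul]
  have h2 := inv_mul_eq_one.mp (L.reg _ (mul_mem (inv_mem hx) (L.normal h hh x hx)) a T.mem.1 h1)
  exact mul_inv_eq_iff_eq_mul.mp h2.symm

/-- An element of the lift centralising `v` and moving `a` to `b`. -/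
theorem RegLift.exists_cent {v : G} (hv : v ∈ four t a b) :
    ∃ x ∈ P, x * v = v * x ∧ x • a = b := by
  obtain ⟨x, hx, hxb⟩ := L.trans a b T.mem.1 T.mem.2
  have hv' : v ∈ Subgroup.centralizer ({t} : Set G) :=
    Subgroup.mem_centralizer_singleton_iff.mpr (four_comm H T hv (self_mem_four H T))
  have h1 : (x⁻¹ * (v * x * v⁻¹)) • a = a := by
    rw [mul_smul, mul_smul, mul_smul, inv_smul_eq_iff.mpr (show v • a = a from (mem_four.mp hv).1.1).symm,
      hxb, show v • b = b from (mem_four.mp hv).1.2, ← hxb, inv_smul_smul]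
  have h2 := inv_mul_eq_one.mp (L.reg _ (mul_mem (inv_mem hx) (L.normal v hv' x hx)) a T.mem.1 h1)
  refine ⟨x, hx, ?_, hxb⟩
  nth_rewrite 1 [h2]
  group

end CfsgLib.StabAlt5
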