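import Cfsg.Agent.Lib.StabAlt5.Count
import Cfsg.Agent.Lib.StabAlt5.AltFive

/-!
Doubly transitive groups with two-point stabiliser of type `A₅`: the fixed sets of an involution and of its
four group.
-/

set_option autoImplicit false
set_option linter.unusedSectionVars false
set_option linter.style.haveILetI false

namespace CfsgLib.StabAlt5

open MulAction

universe u v

variable {G : Type u} [Group G] [Finite G] {Ω : Type v} [Finite Ω] [MulAction G Ω] [FaithfulSMul G Ω]

/-- The stabiliser of the two points. -/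
abbrev pairStab (G : Type u) {Ω : Type v} [Group G] [MulAction G Ω] (a b : Ω) : Subgroup G :=
  stabilizer G a ⊓ stabilizer G b

/-- The hypothesis: double transitivity and two-point stabiliser of type `A₅`. -/
structure Hyp (G : Type u) {Ω : Type v} [Group G] [MulAction G Ω] (a b : Ω) : Prop where
  two : TwoTrans G Ω
  ne : a ≠ b
  iso : Nonempty (↥(pairStab G a b) ≃* alternatingGroup (Fin 5))

/-- An involution of the two-point stabiliser. -/
structure InvIn (t : G) (a b : Ω) : Prop where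
  mem : t ∈ pairStab G a b
  sq : t * t = 1
  ne_one : t ≠ 1

/-- The centraliser of `t` in the two-point stabiliser: a four group. -/
abbrev four (t : G) (a b : Ω) : Subgroup G := pairStab G a b ⊓ Subgroup.centralizer ({t} : Set G)

/-- The conjugates of `t`. -/
def conjSet (t : G) : Set G := {x | ∃ g : G, g * t * g⁻¹ = x}

/-- The conjugates of `t` interchanging the two points. -/
noncomputable def swapNum (t : G) (a b : Ω) : ℕ := {x : G | x ∈ conjSet t ∧ x • a = b ∧ x • b = a}.ncard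

theorem mem_four {t x : G} {a b : Ω} :
    x ∈ four t a b ↔ x ∈ pairStab G a b ∧ x * t = t * x := by
  rw [Subgroup.mem_inf, Subgroup.mem_centralizer_singleton_iff]

variable {a b : Ω} {t : G} (H : Hyp G a b) (T : InvIn t a b)
include H

theorem Hyp.exists_inv : ∃ t : G, InvIn t a b := by
  obtain ⟨e⟩ := H.iso
  by_contra h
  push Not at h
  have h15 := ncard_inv e
  rw [show {x : G | x ∈ pairStab G a b ∧ (x * x = 1 ∧ x ≠ 1)} = ∅ from
    Set.eq_empty_iff_forall_notMem.mpr fun x hx => h x ⟨hx.1, hx.2.1, hx.2.2⟩, Set.ncard_empty] at h15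
  omega

theorem Hyp.card_group : Nat.card G = Nat.card Ω * (Nat.card Ω - 1) * 60 := by
  obtain ⟨e⟩ := H.iso
  have h := (card_of_pairs (⊤ : Subgroup G) (Δ := (Set.univ : Set Ω)) (a := a) (b := b) trivial trivial H.ne
    (fun _ _ _ _ => trivial) fun c d _ _ hcd => by
      obtain ⟨g, hg⟩ := H.two a b c d H.ne hcd
      exact ⟨g, trivial, hg⟩).1
  rw [Subgroup.card_top, Set.ncard_univ, top_inf_eq, card_A e, ← mul_assoc] at h
  exact h

theorem Hyp.card_stab : Nat.card ↥(stabilizer G a) = (Nat.card Ω - 1) * 60 := by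
  obtain ⟨e⟩ := H.iso
  have h := (card_of_pairs (⊤ : Subgroup G) (Δ := (Set.univ : Set Ω)) (a := a) (b := b) trivial trivial H.ne
    (fun _ _ _ _ => trivial) fun c d _ _ hcd => by
      obtain ⟨g, hg⟩ := H.two a b c d H.ne hcd
      exact ⟨g, trivial, hg⟩).2
  rw [top_inf_eq, Set.ncard_univ, top_inf_eq, card_A e] at h
  exact h

include T

theorem fuse_elem (g : G) (ha : (g * t * g⁻¹) • a = a) (hb : (g * t * g⁻¹) • b = b) :
    ∃ h : G, h • a = a ∧ h • b = b ∧ g * t * g⁻¹ = h * t * h⁻¹ := by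
  obtain ⟨e⟩ := H.iso
  obtain ⟨h, hh, he⟩ := conj_A e T.mem (y := g * t * g⁻¹) ⟨ha, hb⟩ T.sq T.ne_one
    (by rw [conj_mul, T.sq, mul_one, mul_inv_cancel]) (fun h => T.ne_one (conj_eq_one_iff.mp h))
  exact ⟨h, hh.1, hh.2, he.symm⟩

theorem mem_conjSet {x : G} (hx : InvIn x a b) : x ∈ conjSet t := by
  obtain ⟨e⟩ := H.iso
  obtain ⟨g, -, hg⟩ := conj_A e T.mem hx.mem T.sq T.ne_one hx.sq hx.ne_one
  exact ⟨g, hg⟩

theorem card_four : Nat.card ↥(four t a b) = 4 := by
  obtain ⟨e⟩ := H.iso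
  exact card_centA e T.mem T.sq T.ne_one

theorem self_mem_four : t ∈ four t a b := mem_four.mpr ⟨T.mem, rfl⟩

theorem four_sq {x : G} (hx : x ∈ four t a b) : x * x = 1 := by
  obtain ⟨e⟩ := H.iso
  exact cent_sq e T.mem (mem_four.mp hx).1 T.sq T.ne_one (mem_four.mp hx).2

theorem four_comm {x y : G} (hx : x ∈ four t a b) (hy : y ∈ four t a b) : x * y = y * x := by
  obtain ⟨e⟩ := H.iso
  by_cases y1 : y = 1
  · simp [y1]
  · exact cent_eq e T.mem (mem_four.mp hy).1 (mem_four.mp hx).1 T.sq T.ne_one y1 (mem_four.mp hy).2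
      (mem_four.mp hx).2

/-- All involutions of the four group have the same centraliser in the two-point stabiliser. -/
theorem four_eq {x : G} (hx : x ∈ four t a b) (x1 : x ≠ 1) : four x a b = four t a b := by
  have hx' : InvIn x a b := ⟨(mem_four.mp hx).1, four_sq H T hx, x1⟩
  refine (Subgroup.eq_of_le_of_card_ge (fun y hy => ?_) ?_).symm
  · exact mem_four.mpr ⟨(mem_four.mp hy).1, four_comm H T hy hx⟩
  · rw [card_four H T, card_four H hx']

theorem norm_four_iff {g : G} (hg : g ∈ pairStab G a b) :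
    g ∈ Subgroup.normalizer (four t a b : Set G) ↔ g * t * g⁻¹ * t = t * (g * t * g⁻¹) := by
  constructor
  · intro h
    exact (mem_four.mp ((Subgroup.mem_normalizer_iff.mp h t).mp (self_mem_four H T))).2
  · intro h
    have hx : g * t * g⁻¹ ∈ four t a b := mem_four.mpr ⟨mul_mem (mul_mem hg T.mem) (inv_mem hg), h⟩
    have he := four_eq H T hx fun e => T.ne_one (conj_eq_one_iff.mp e)
    refine Subgroup.mem_normalizer_iff.mpr fun y => ⟨fun hy => ?_, fun hy => ?_⟩
    · rw [← he]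
      refine mem_four.mpr ⟨mul_mem (mul_mem hg (mem_four.mp hy).1) (inv_mem hg), ?_⟩
      rw [conj_mul, conj_mul, (mem_four.mp hy).2]
    · rw [← he] at hy
      obtain ⟨hm, hc⟩ := mem_four.mp hy
      have hm' : y ∈ pairStab G a b := by
        simpa [mul_assoc] using mul_mem (mul_mem (inv_mem hg) hm) hg
      rw [conj_mul, conj_mul] at hc
      exact mem_four.mpr ⟨hm', mul_left_cancel (mul_right_cancel hc)⟩

theorem card_norm_four : Nat.card ↥(Subgroup.normalizer (four t a b : Set G) ⊓ pairStab G a b) = 12 := by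
  obtain ⟨e⟩ := H.iso
  rw [← ncard_norm e T.mem T.sq T.ne_one, ← Nat.card_coe_set_eq]
  exact Nat.card_congr (Equiv.subtypeEquivRight fun g =>
    ⟨fun h => ⟨h.2, (norm_four_iff H T h.2).mp h.1⟩, fun h => ⟨(norm_four_iff H T h.1).mpr h.2, h.1⟩⟩)

theorem two_le_fix : 2 ≤ (fixedBy Ω t).ncard := by
  have h : ({a, b} : Set Ω) ⊆ fixedBy Ω t := by
    rintro c (rfl | rfl)
    exacts [T.mem.1, T.mem.2]
  exact (Set.ncard_pair H.ne).symm.le.trans (Set.ncard_le_ncard h)

theorem left_mem_fixPts : a ∈ fixPts Ω (four t a b) := fun _ hx => (mem_four.mp hx).1.1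

theorem right_mem_fixPts : b ∈ fixPts Ω (four t a b) := fun _ hx => (mem_four.mp hx).1.2

theorem two_le_fixPts : 2 ≤ (fixPts Ω (four t a b)).ncard := by
  have h : ({a, b} : Set Ω) ⊆ fixPts Ω (four t a b) := by
    rintro c (rfl | rfl)
    exacts [left_mem_fixPts H T, right_mem_fixPts H T]
  exact (Set.ncard_pair H.ne).symm.le.trans (Set.ncard_le_ncard h)

theorem fixPts_subset : fixPts Ω (four t a b) ⊆ fixedBy Ω t := fun _ hc => hc t (self_mem_four H T)

omit T in
theorem smul_mem_fixedBy {g x : G} (hg : g ∈ Subgroup.centralizer ({x} : Set G)) {c : Ω}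
    (hc : c ∈ fixedBy Ω x) : g • c ∈ fixedBy Ω x := by
  show x • g • c = g • c
  rw [← mul_smul, ← Subgroup.mem_centralizer_singleton_iff.mp hg, mul_smul, hc]

theorem cent_trans {c d : Ω} (hc : c ∈ fixedBy Ω t) (hd : d ∈ fixedBy Ω t) (hcd : c ≠ d) :
    ∃ g ∈ Subgroup.centralizer ({t} : Set G), g • a = c ∧ g • b = d := by
  obtain ⟨g, hgc, hg⟩ := witt_elem H.two H.ne (fuse_elem H T) hcd hc hd
  exact ⟨g, Subgroup.mem_centralizer_singleton_iff.mpr hgc, hg⟩

theorem norm_trans {c d : Ω} (hc : c ∈ fixPts Ω (four t a b)) (hd : d ∈ fixPts Ω (four t a b)) (hcd : c ≠ d) :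
    ∃ g ∈ Subgroup.normalizer (four t a b : Set G), g • a = c ∧ g • b = d := by
  refine witt_subgroup H.two H.ne (fun g hg => ?_) hcd hc hd
  obtain ⟨h, ha, hb, he⟩ := fuse_elem H T g (hg t (self_mem_four H T)).1 (hg t (self_mem_four H T)).2
  refine ⟨h, ha, hb, fun x hx => mem_four.mpr ⟨?_, ?_⟩⟩
  · exact mul_mem (mul_mem (inv_mem (show h ∈ pairStab G a b from ⟨ha, hb⟩)) (hg x hx)) ⟨ha, hb⟩
  · have ht : t = h⁻¹ * (g * t * g⁻¹) * h := by rw [he]; group
    calc h⁻¹ * (g * x * g⁻¹) * h * t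
        = h⁻¹ * (g * x * g⁻¹) * h * (h⁻¹ * (g * t * g⁻¹) * h) := congrArg _ ht
      _ = h⁻¹ * (g * (x * t) * g⁻¹) * h := by group
      _ = h⁻¹ * (g * (t * x) * g⁻¹) * h := by rw [(mem_four.mp hx).2]
      _ = h⁻¹ * (g * t * g⁻¹) * h * (h⁻¹ * (g * x * g⁻¹) * h) := by group
      _ = t * (h⁻¹ * (g * x * g⁻¹) * h) := by rw [← ht]

theorem card_cent : Nat.card ↥(Subgroup.centralizer ({t} : Set G)) =
    (fixedBy Ω t).ncard * (((fixedBy Ω t).ncard - 1) * 4) ∧
    Nat.card ↥(Subgroup.centralizer ({t} : Set G) ⊓ stabilizer G a) = ((fixedBy Ω t).ncard - 1) * 4 := by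
  have h := card_of_pairs (Subgroup.centralizer ({t} : Set G)) (a := a) (b := b) (Δ := fixedBy Ω t)
    T.mem.1 T.mem.2 H.ne (fun g hg c hc => smul_mem_fixedBy H hg hc) fun c d hc hd hcd => cent_trans H T hc hd hcd
  rw [inf_comm _ (pairStab G a b), card_four H T] at h
  exact h

theorem card_norm : Nat.card ↥(Subgroup.normalizer (four t a b : Set G)) =
    (fixPts Ω (four t a b)).ncard * (((fixPts Ω (four t a b)).ncard - 1) * 12) ∧
    Nat.card ↥(Subgroup.normalizer (four t a b : Set G) ⊓ stabilizer G a) =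
      ((fixPts Ω (four t a b)).ncard - 1) * 12 := by
  have h := card_of_pairs (Subgroup.normalizer (four t a b : Set G)) (a := a) (b := b)
    (Δ := fixPts Ω (four t a b)) (left_mem_fixPts H T) (right_mem_fixPts H T) H.ne
    (fun g hg c hc => smul_mem_fixPts hg hc) fun c d hc hd hcd => norm_trans H T hc hd hcd
  rw [card_norm_four H T] at h
  exact h

omit T in
theorem conjSet_closed (g x : G) (hx : x ∈ conjSet t) : g * x * g⁻¹ ∈ conjSet t := by
  obtain ⟨k, rfl⟩ := hx
  exact ⟨g * k, by group⟩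

theorem conjSet_fix {x : G} (hx : x ∈ conjSet t) : (fixedBy Ω x).ncard = (fixedBy Ω t).ncard := by
  obtain ⟨g, rfl⟩ := hx
  exact ncard_fixedBy_conj g t

theorem conjSet_sq {x : G} (hx : x ∈ conjSet t) : x * x = 1 := by
  obtain ⟨g, rfl⟩ := hx
  rw [conj_mul, T.sq, mul_one, mul_inv_cancel]

theorem count_fix : (conjSet t).ncard * ((fixedBy Ω t).ncard * ((fixedBy Ω t).ncard - 1)) =
    Nat.card Ω * (Nat.card Ω - 1) * 15 := by
  obtain ⟨e⟩ := H.iso
  rw [fix_count H.two H.ne (conjSet t) (conjSet_closed H) fun x hx => conjSet_fix H T hx, ← ncard_inv e]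
  congr 2
  ext x
  constructor
  · rintro ⟨hx, ha, hb⟩
    refine ⟨⟨ha, hb⟩, conjSet_sq H T hx, fun e => T.ne_one ?_⟩
    obtain ⟨g, hg⟩ := hx
    exact conj_eq_one_iff.mp (hg.trans e)
  · rintro ⟨hm, h2, h1⟩
    exact ⟨mem_conjSet H T ⟨hm, h2, h1⟩, hm.1, hm.2⟩

theorem count_swap : (conjSet t).ncard * (Nat.card Ω - (fixedBy Ω t).ncard) =
    Nat.card Ω * (Nat.card Ω - 1) * swapNum t a b :=
  swap_count H.two H.ne (conjSet t) (conjSet_closed H) (fun _ hx => conjSet_sq H T hx)
    fun _ hx => conjSet_fix H T hx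

theorem fix_lt : (fixedBy Ω t).ncard < Nat.card Ω := by
  rw [← Set.ncard_univ]
  refine Set.ncard_lt_ncard (Set.ssubset_univ_iff.mpr fun h => T.ne_one (eq_of_smul_eq_smul (α := Ω) fun c => ?_))
  rw [one_smul]
  exact (h.symm ▸ Set.mem_univ c : c ∈ fixedBy Ω t)

/-- The basic relation between the degree, the fixed points and the swapping conjugates. -/
theorem basic_relation : 15 * (Nat.card Ω - (fixedBy Ω t).ncard) =
    swapNum t a b * ((fixedBy Ω t).ncard * ((fixedBy Ω t).ncard - 1)) := by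
  have h1 := count_fix H T
  have h2 := count_swap H T
  have hpos : 0 < (conjSet t).ncard := (Set.ncard_pos).mpr ⟨t, 1, by group⟩
  refine Nat.eq_of_mul_eq_mul_left hpos ?_
  calc (conjSet t).ncard * (15 * (Nat.card Ω - (fixedBy Ω t).ncard))
      = 15 * ((conjSet t).ncard * (Nat.card Ω - (fixedBy Ω t).ncard)) := by ring
    _ = swapNum t a b * (Nat.card Ω * (Nat.card Ω - 1) * 15) := by rw [h2]; ring
    _ = _ := by rw [← h1]; ring

theorem swapNum_pos : 0 < swapNum t a b := by
  have h := basic_relation H T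
  have := fix_lt H T
  rcases Nat.eq_zero_or_pos (swapNum t a b) with e | e
  · rw [e, zero_mul] at h; omega
  · exact e

end CfsgLib.StabAlt5
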